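/-
Basic subgroup toolkit in an ambient group: conjugates, commutators, relative subnormality,
and a uniform treatment of radicals (p-core, p'-core, Fitting subgroup, solvable radical).
-/
import Cfsg.Prelude.Def_Local

set_option autoImplicit false

namespace Cfsg.Agent.Comp

open Subgroup
open scoped commutatorElement

/-- The conjugate `g K g⁻¹`, written as in the statements. -/
scoped notation:max "cj(" g ", " K ")" =>
  Subgroup.map (MulEquiv.toMonoidHom (MulAut.conj g)) K

variable {G : Type*} [Group G]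

/-! ### Conjugates -/

theorem mem_cj {K : Subgroup G} {g x : G} : x ∈ cj(g, K) ↔ g⁻¹ * x * g ∈ K := by
  rw [mem_map_equiv]; simp

theorem conj_mem_cj {K : Subgroup G} {g x : G} : g * x * g⁻¹ ∈ cj(g, K) ↔ x ∈ K := by
  rw [mem_cj]; simp [mul_assoc]

theorem cj_one (K : Subgroup G) : cj((1 : G), K) = K := by
  ext x; simp

theorem cj_mul (g h : G) (K : Subgroup G) : cj(g * h, K) = cj(g, cj(h, K)) := by
  ext x; simp only [mem_cj]; simp [mul_assoc]

theorem cj_inv_cj (g : G) (K : Subgroup G) : cj(g⁻¹, cj(g, K)) = K := by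
  rw [← cj_mul, inv_mul_cancel, cj_one]

theorem cj_cj_inv (g : G) (K : Subgroup G) : cj(g, cj(g⁻¹, K)) = K := by
  rw [← cj_mul, mul_inv_cancel, cj_one]

theorem cj_eq_self_iff {K : Subgroup G} {g : G} : cj(g, K) = K ↔ g ∈ normalizer (K : Set G) :=
  mem_normalizer_iff_map_conj_eq.symm

theorem cj_eq_self_of_mem {K : Subgroup G} {g : G} (h : g ∈ K) : cj(g, K) = K :=
  cj_eq_self_iff.2 (le_normalizer h)

theorem cj_eq_self_of_normal (K : Subgroup G) [K.Normal] (g : G) : cj(g, K) = K :=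
  cj_eq_self_iff.2 (by rw [normalizer_eq_top]; trivial)

theorem cj_mono {H K : Subgroup G} (g : G) (h : H ≤ K) : cj(g, H) ≤ cj(g, K) := map_mono h

theorem cj_le_cj_iff {H K : Subgroup G} {g : G} : cj(g, H) ≤ cj(g, K) ↔ H ≤ K :=
  map_le_map_iff_of_injective (MulAut.conj g).injective

theorem cj_inj {H K : Subgroup G} {g : G} : cj(g, H) = cj(g, K) ↔ H = K := by
  simp only [le_antisymm_iff, cj_le_cj_iff]

theorem cj_le_iff {H K : Subgroup G} {g : G} : cj(g, H) ≤ K ↔ H ≤ cj(g⁻¹, K) := by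
  conv_lhs => rw [← cj_cj_inv g K]
  exact cj_le_cj_iff

theorem le_cj_iff {H K : Subgroup G} {g : G} : H ≤ cj(g, K) ↔ cj(g⁻¹, H) ≤ K := by
  rw [cj_le_iff, inv_inv]

theorem cj_le_iff' {H K : Subgroup G} {g : G} : cj(g, H) ≤ K ↔ ∀ h ∈ H, g * h * g⁻¹ ∈ K := by
  rw [map_le_iff_le_comap]; rfl

theorem cj_le_of_mem {H K : Subgroup G} {g : G} (h : H ≤ K) (hg : g ∈ normalizer (K : Set G)) :
    cj(g, H) ≤ K := (cj_mono g h).trans (cj_eq_self_iff.2 hg).le

theorem cj_bot (g : G) : cj(g, (⊥ : Subgroup G)) = ⊥ := map_bot _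

theorem cj_top (g : G) : cj(g, (⊤ : Subgroup G)) = ⊤ := cj_eq_self_of_normal _ _

theorem cj_eq_bot_iff {K : Subgroup G} {g : G} : cj(g, K) = ⊥ ↔ K = ⊥ :=
  map_eq_bot_iff_of_injective _ (MulAut.conj g).injective

theorem cj_inf (g : G) (H K : Subgroup G) : cj(g, H ⊓ K) = cj(g, H) ⊓ cj(g, K) :=
  map_inf _ _ _ (MulAut.conj g).injective

theorem cj_sup (g : G) (H K : Subgroup G) : cj(g, H ⊔ K) = cj(g, H) ⊔ cj(g, K) := map_sup _ _ _

theorem cj_commutator (g : G) (H K : Subgroup G) : cj(g, ⁅H, K⁆) = ⁅cj(g, H), cj(g, K)⁆ :=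
  map_commutator _ _ _

theorem cj_normalizer (g : G) (K : Subgroup G) :
    cj(g, normalizer (K : Set G)) = normalizer (cj(g, K) : Set G) :=
  map_equiv_normalizer_eq K (MulAut.conj g)

theorem map_equiv_centralizer {G' : Type*} [Group G'] (e : G ≃* G') (s : Set G) :
    (centralizer s).map e.toMonoidHom = centralizer (e '' s) := by
  ext x
  rw [mem_map_equiv, mem_centralizer_iff, mem_centralizer_iff]
  constructor
  · rintro h _ ⟨y, hy, rfl⟩
    apply e.symm.injective
    simpa using h y hy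
  · intro h y hy
    apply e.injective
    simpa using h _ ⟨y, hy, rfl⟩

theorem cj_centralizer (g : G) (K : Subgroup G) :
    cj(g, centralizer (K : Set G)) = centralizer (cj(g, K) : Set G) :=
  map_equiv_centralizer _ _

theorem cj_centralizer_singleton (g x : G) :
    cj(g, centralizer ({x} : Set G)) = centralizer ({g * x * g⁻¹} : Set G) := by
  rw [map_equiv_centralizer]; simp

theorem cj_zpowers (g x : G) : cj(g, zpowers x) = zpowers (g * x * g⁻¹) := by
  rw [MonoidHom.map_zpowers]; simp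

/-- The isomorphism of a subgroup with its conjugate. -/
noncomputable def cjEquiv (g : G) (K : Subgroup G) : K ≃* cj(g, K) :=
  equivMapOfInjective K _ (MulAut.conj g).injective

theorem card_cj (g : G) (K : Subgroup G) : Nat.card cj(g, K) = Nat.card K :=
  (Nat.card_congr (cjEquiv g K).toEquiv).symm

theorem map_cj {G' : Type*} [Group G'] (f : G →* G') (g : G) (K : Subgroup G) :
    (cj(g, K)).map f = cj(f g, K.map f) := by
  rw [map_map, map_map]; congr 1; ext; simp

theorem cj_smul (g : G) (K : Subgroup G) :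
    cj(g, K) = (open scoped Pointwise in MulAut.conj g • K) := rfl

theorem normal_iff_cj {K : Subgroup G} : K.Normal ↔ ∀ g : G, cj(g, K) = K := normal_iff_map_conj_eq

theorem normal_of_cj_le {K : Subgroup G} (h : ∀ g : G, cj(g, K) ≤ K) : K.Normal :=
  ⟨fun _ hn g => h g (conj_mem_cj.2 hn)⟩

theorem le_normalizer_of_cj_le {A K : Subgroup G} (h : ∀ g ∈ A, cj(g, K) ≤ K) :
    A ≤ normalizer (K : Set G) :=
  le_normalizer_iff.2 fun g hg _ hk => h g hg (conj_mem_cj.2 hk)

theorem conj_mem_of_le_normalizer {A K : Subgroup G} (h : A ≤ normalizer (K : Set G)) {a k : G}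
    (ha : a ∈ A) (hk : k ∈ K) : a * k * a⁻¹ ∈ K := le_normalizer_iff.1 h a ha k hk

theorem conj_mem_of_mem_normalizer {K : Subgroup G} {a k : G} (ha : a ∈ normalizer (K : Set G))
    (hk : k ∈ K) : a * k * a⁻¹ ∈ K := (mem_normalizer_iff.1 ha k).1 hk

theorem conj_mem_of_mem_normalizer' {K : Subgroup G} {a k : G} (ha : a ∈ normalizer (K : Set G))
    (hk : k ∈ K) : a⁻¹ * k * a ∈ K := (mem_normalizer_iff''.1 ha k).1 hk

theorem mem_normalizer_of_conj_mem [Finite G] {K : Subgroup G} {a : G}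
    (h : ∀ k ∈ K, a * k * a⁻¹ ∈ K) : a ∈ normalizer (K : Set G) :=
  mem_normalizer_fintype h

theorem normal_iff_top_le_normalizer {K : Subgroup G} :
    K.Normal ↔ (⊤ : Subgroup G) ≤ normalizer (K : Set G) := by
  rw [top_le_iff, normalizer_eq_top_iff]

/-! ### Normalizers of constructed subgroups -/

theorem le_normalizer_inf {A H K : Subgroup G} (hH : A ≤ normalizer (H : Set G))
    (hK : A ≤ normalizer (K : Set G)) : A ≤ normalizer ((H ⊓ K : Subgroup G) : Set G) :=
  (le_inf hH hK).trans inf_normalizer_le_normalizer_inf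

theorem le_normalizer_sup {A H K : Subgroup G} (hH : A ≤ normalizer (H : Set G))
    (hK : A ≤ normalizer (K : Set G)) : A ≤ normalizer ((H ⊔ K : Subgroup G) : Set G) :=
  (le_inf hH hK).trans (normalizer_inf_normalizer_le_normalizer_sup H K)

theorem le_normalizer_commutator {A H K : Subgroup G} (hH : A ≤ normalizer (H : Set G))
    (hK : A ≤ normalizer (K : Set G)) : A ≤ normalizer ((⁅H, K⁆ : Subgroup G) : Set G) := by
  intro a ha
  rw [← cj_eq_self_iff, cj_commutator, cj_eq_self_iff.2 (hH ha), cj_eq_self_iff.2 (hK ha)]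

theorem normalizer_le_normalizer_centralizer (K : Subgroup G) :
    normalizer (K : Set G) ≤ normalizer (centralizer (K : Set G) : Set G) := by
  intro a ha
  rw [← cj_eq_self_iff, cj_centralizer, cj_eq_self_iff.2 ha]

theorem le_normalizer_centralizer {A K : Subgroup G} (h : A ≤ normalizer (K : Set G)) :
    A ≤ normalizer (centralizer (K : Set G) : Set G) :=
  h.trans (normalizer_le_normalizer_centralizer K)

theorem normalizer_le_normalizer_normalizer (K : Subgroup G) :
    normalizer (K : Set G) ≤ normalizer (normalizer (K : Set G) : Set G) := le_normalizer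

theorem le_normalizer_normalizer {A K : Subgroup G} (h : A ≤ normalizer (K : Set G)) :
    A ≤ normalizer (normalizer (K : Set G) : Set G) := h.trans le_normalizer

theorem le_normalizer_iSup {ι : Sort*} {A : Subgroup G} {H : ι → Subgroup G}
    (h : ∀ i, A ≤ normalizer (H i : Set G)) : A ≤ normalizer ((⨆ i, H i : Subgroup G) : Set G) :=
  (le_iInf h).trans (iInf_normalizer_le_normalizer_iSup H)

theorem le_normalizer_iInf {ι : Sort*} {A : Subgroup G} {H : ι → Subgroup G}
    (h : ∀ i, A ≤ normalizer (H i : Set G)) : A ≤ normalizer ((⨅ i, H i : Subgroup G) : Set G) :=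
  (le_iInf h).trans (iInf_normalizer_le_normalizer_iInf H)

/-- A family permuted by conjugation has a normalized join. -/
theorem mem_normalizer_sSup {S : Set (Subgroup G)} {g : G} (h : ∀ K ∈ S, cj(g, K) ∈ S)
    (h' : ∀ K ∈ S, cj(g⁻¹, K) ∈ S) : g ∈ normalizer ((sSup S : Subgroup G) : Set G) := by
  have key : ∀ g : G, (∀ K ∈ S, cj(g, K) ∈ S) → cj(g, sSup S) ≤ sSup S := by
    intro g h
    rw [map_le_iff_le_comap]
    refine sSup_le fun K hK => ?_
    rw [← map_le_iff_le_comap]
    exact le_sSup (h K hK)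
  rw [← cj_eq_self_iff]
  refine le_antisymm (key g h) ?_
  rw [le_cj_iff]
  exact key _ h'

theorem le_normalizer_sSup {S : Set (Subgroup G)} {A : Subgroup G}
    (h : ∀ g ∈ A, ∀ K ∈ S, cj(g, K) ∈ S) : A ≤ normalizer ((sSup S : Subgroup G) : Set G) :=
  fun g hg => mem_normalizer_sSup (h g hg) (h _ (A.inv_mem hg))

theorem le_normalizer_of_le_centralizer {A K : Subgroup G} (h : A ≤ centralizer (K : Set G)) :
    A ≤ normalizer (K : Set G) := h.trans (centralizer_le_normalizer _)

theorem centralizer_mono {H K : Subgroup G} (h : H ≤ K) :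
    centralizer (K : Set G) ≤ centralizer (H : Set G) := centralizer_le h

theorem centralizer_sup (H K : Subgroup G) :
    centralizer ((H ⊔ K : Subgroup G) : Set G) = centralizer (H : Set G) ⊓ centralizer (K : Set G) := by
  apply le_antisymm
  · exact le_inf (centralizer_mono le_sup_left) (centralizer_mono le_sup_right)
  · rw [le_centralizer_iff]
    exact sup_le (le_centralizer_iff.1 inf_le_left) (le_centralizer_iff.1 inf_le_right)

theorem centralizer_zpowers (x : G) :
    centralizer (zpowers x : Set G) = centralizer ({x} : Set G) := by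
  rw [zpowers_eq_closure, centralizer_closure]

theorem le_centralizer_singleton_iff {K : Subgroup G} {x : G} :
    K ≤ centralizer ({x} : Set G) ↔ x ∈ centralizer (K : Set G) := by
  rw [← centralizer_zpowers, le_centralizer_iff, zpowers_le]

theorem map_center_subtype (K : Subgroup G) :
    (center K).map K.subtype = K ⊓ centralizer (K : Set G) := by
  ext x
  constructor
  · rintro ⟨y, hy, rfl⟩
    refine ⟨y.2, fun h hh => ?_⟩
    exact congrArg Subtype.val (mem_center_iff.1 hy ⟨h, hh⟩)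
  · rintro ⟨h1, h2⟩
    exact ⟨⟨x, h1⟩, mem_center_iff.2 fun g => Subtype.ext (h2 g g.2), rfl⟩

theorem subgroupOf_centralizer_self (K : Subgroup G) :
    (centralizer (K : Set G)).subgroupOf K = center K := by
  ext x
  rw [mem_subgroupOf, mem_center_iff, mem_centralizer_iff]
  exact ⟨fun h g => Subtype.ext (h g g.2), fun h g hg => congrArg Subtype.val (h ⟨g, hg⟩)⟩

theorem map_subtype_centralizer {M : Subgroup G} (K : Subgroup M) :
    (centralizer (K : Set M)).map M.subtype = M ⊓ centralizer ((K.map M.subtype : Subgroup G) : Set G) := by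
  ext x
  constructor
  · rintro ⟨y, hy, rfl⟩
    refine ⟨y.2, ?_⟩
    rintro _ ⟨h, hh, rfl⟩
    exact congrArg Subtype.val (hy h hh)
  · rintro ⟨h1, h2⟩
    exact ⟨⟨x, h1⟩, fun g hg => Subtype.ext (h2 g ⟨g, hg, rfl⟩), rfl⟩

theorem map_subtype_normalizer {M : Subgroup G} (K : Subgroup M) :
    (normalizer (K : Set M)).map M.subtype = M ⊓ normalizer ((K.map M.subtype : Subgroup G) : Set G) := by
  have := subgroupOf_normalizer_eq (H := K.map M.subtype) (N := M) (map_subtype_le K)
  rw [subgroupOf, subgroupOf, comap_map_eq_self_of_injective M.subtype_injective] at this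
  rw [← this, map_comap_eq, range_subtype]

theorem normal_iff_map_subtype {M : Subgroup G} (K : Subgroup M) :
    K.Normal ↔ M ≤ normalizer ((K.map M.subtype : Subgroup G) : Set G) := by
  rw [← normal_subgroupOf_iff_le_normalizer (map_subtype_le K), subgroupOf,
    comap_map_eq_self_of_injective M.subtype_injective]

theorem subgroupOf_map_subtype_self {M : Subgroup G} (K : Subgroup M) :
    (K.map M.subtype).subgroupOf M = K :=
  comap_map_eq_self_of_injective M.subtype_injective K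

theorem map_subtype_le_iff {M : Subgroup G} {K : Subgroup M} {H : Subgroup G} :
    K.map M.subtype ≤ H ↔ K ≤ H.subgroupOf M := map_le_iff_le_comap

theorem le_map_subtype_iff {M : Subgroup G} {K : Subgroup M} {H : Subgroup G} :
    H ≤ K.map M.subtype ↔ H ≤ M ∧ H.subgroupOf M ≤ K := by
  constructor
  · intro h
    refine ⟨h.trans (map_subtype_le K), ?_⟩
    have := subgroupOf_mono M h
    rwa [subgroupOf_map_subtype_self] at this
  · rintro ⟨h1, h2⟩
    rw [← map_subgroupOf_eq_of_le h1]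
    exact map_mono h2

theorem card_map_subtype {M : Subgroup G} (K : Subgroup M) :
    Nat.card (K.map M.subtype) = Nat.card K :=
  (Nat.card_congr (equivMapOfInjective K _ M.subtype_injective).toEquiv).symm

theorem card_subgroupOf {K M : Subgroup G} (h : K ≤ M) : Nat.card (K.subgroupOf M) = Nat.card K :=
  Nat.card_congr (subgroupOfEquivOfLe h).toEquiv

/-! ### Products -/

theorem mem_sup_of_le_normalizer {H N : Subgroup G} (h : H ≤ normalizer (N : Set G)) {x : G} :
    x ∈ H ⊔ N ↔ ∃ a ∈ H, ∃ b ∈ N, a * b = x := by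
  rw [← SetLike.mem_coe, coe_mul_of_left_le_normalizer_right H N h, Set.mem_mul]; rfl

theorem mem_sup_of_le_normalizer' {N H : Subgroup G} (h : H ≤ normalizer (N : Set G)) {x : G} :
    x ∈ N ⊔ H ↔ ∃ a ∈ N, ∃ b ∈ H, a * b = x := by
  rw [← SetLike.mem_coe, coe_mul_of_right_le_normalizer_left N H h, Set.mem_mul]; rfl

/-- Dedekind's modular law when `A` normalizes `B`. -/
theorem sup_inf_of_le_normalizer {A B C : Subgroup G} (h : A ≤ normalizer (B : Set G))
    (hAC : A ≤ C) : (A ⊔ B) ⊓ C = A ⊔ (B ⊓ C) := by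
  apply le_antisymm
  · rintro x ⟨hx, hxC⟩
    obtain ⟨a, ha, b, hb, rfl⟩ := (mem_sup_of_le_normalizer h).1 hx
    exact mul_mem (mem_sup_left ha) (mem_sup_right ⟨hb, (C.mul_mem_cancel_left (hAC ha)).1 hxC⟩)
  · exact sup_le (le_inf le_sup_left hAC) (inf_le_inf_right _ le_sup_right)

/-- Dedekind's modular law when `B` normalizes `A`. -/
theorem sup_inf_of_le_normalizer' {A B C : Subgroup G} (h : B ≤ normalizer (A : Set G))
    (hAC : A ≤ C) : (A ⊔ B) ⊓ C = A ⊔ (B ⊓ C) := by
  apply le_antisymm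
  · rintro x ⟨hx, hxC⟩
    obtain ⟨a, ha, b, hb, rfl⟩ := (mem_sup_of_le_normalizer' h).1 hx
    exact mul_mem (mem_sup_left ha) (mem_sup_right ⟨hb, (C.mul_mem_cancel_left (hAC ha)).1 hxC⟩)
  · exact sup_le (le_inf le_sup_left hAC) (inf_le_inf_right _ le_sup_right)

theorem card_sup_mul_card_inf {H N : Subgroup G} (h : H ≤ normalizer (N : Set G)) :
    Nat.card (H ⊔ N : Subgroup G) * Nat.card (H ⊓ N : Subgroup G) = Nat.card H * Nat.card N := by
  have hN : (N.subgroupOf (H ⊔ N)).Normal :=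
    normal_subgroupOf_of_le_normalizer (sup_le h le_normalizer)
  have h1 : N.relIndex (H ⊔ N) = N.relIndex H := by
    have := relIndex_sup_right (H.subgroupOf (H ⊔ N)) (N.subgroupOf (H ⊔ N))
    rw [← subgroupOf_sup le_sup_left le_sup_right, relIndex_subgroupOf le_rfl,
      relIndex_subgroupOf le_sup_left] at this
    exact this
  have h2 : N.relIndex (H ⊔ N) * Nat.card N = Nat.card (H ⊔ N : Subgroup G) := by
    rw [relIndex, ← card_subgroupOf (le_sup_right : N ≤ H ⊔ N), index_mul_card]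
  have h3 : N.relIndex H * Nat.card (H ⊓ N : Subgroup G) = Nat.card H := by
    rw [← inf_relIndex_left, relIndex, ← card_subgroupOf (inf_le_left : H ⊓ N ≤ H), index_mul_card]
  rw [← h2, ← h3, h1]; ring

theorem card_sup_dvd {H N : Subgroup G} (h : H ≤ normalizer (N : Set G)) :
    Nat.card (H ⊔ N : Subgroup G) ∣ Nat.card H * Nat.card N :=
  Dvd.intro _ (card_sup_mul_card_inf h)

theorem relIndex_mul_card {K M : Subgroup G} (h : K ≤ M) :
    K.relIndex M * Nat.card K = Nat.card M := by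
  rw [relIndex, ← card_subgroupOf h, index_mul_card]

theorem relIndex_mul_card_inf (K M : Subgroup G) :
    K.relIndex M * Nat.card (K ⊓ M : Subgroup G) = Nat.card M := by
  rw [← inf_relIndex_right, relIndex_mul_card inf_le_right]

theorem card_lt_of_lt [Finite G] {H K : Subgroup G} (h : H < K) : Nat.card H < Nat.card K := by
  have h1 := Subgroup.card_le_of_le h.le
  refine lt_of_le_of_ne h1 fun he => h.ne (eq_of_le_of_card_ge h.le he.ge)

theorem eq_bot_of_coprime [Finite G] {H K : Subgroup G}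
    (h : (Nat.card H).Coprime (Nat.card K)) : H ⊓ K = ⊥ := (disjoint_of_coprime_natCard h).eq_bot

theorem eq_bot_of_le_of_coprime [Finite G] {X H K : Subgroup G} (hH : X ≤ H) (hK : X ≤ K)
    (h : (Nat.card H).Coprime (Nat.card K)) : X = ⊥ :=
  le_bot_iff.1 ((le_inf hH hK).trans (eq_bot_of_coprime h).le)

/-! ### Commutators -/

/-- The elements normalizing `X` whose commutators with `C` lie in `X`. -/
def actKer (X C : Subgroup G) : Subgroup G where
  carrier := {g | g ∈ normalizer (X : Set G) ∧ ∀ c ∈ C, ⁅g, c⁆ ∈ X}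
  one_mem' := ⟨one_mem _, fun c _ => by simp⟩
  mul_mem' := by
    rintro a b ⟨ha, ha'⟩ ⟨hb, hb'⟩
    refine ⟨mul_mem ha hb, fun c hc => ?_⟩
    rw [commutatorElement_mul_left_eq_conj_mul]
    exact mul_mem (conj_mem_of_mem_normalizer ha (hb' c hc)) (ha' c hc)
  inv_mem' := by
    rintro a ⟨ha, ha'⟩
    refine ⟨inv_mem ha, fun c hc => ?_⟩
    rw [commutatorElement_inv_left, ← commutatorElement_inv]
    exact conj_mem_of_mem_normalizer' ha (inv_mem (ha' c hc))

theorem mem_actKer {X C : Subgroup G} {g : G} :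
    g ∈ actKer X C ↔ g ∈ normalizer (X : Set G) ∧ ∀ c ∈ C, ⁅g, c⁆ ∈ X := Iff.rfl

theorem le_actKer_iff {A X C : Subgroup G} :
    A ≤ actKer X C ↔ A ≤ normalizer (X : Set G) ∧ ⁅A, C⁆ ≤ X := by
  rw [commutator_le]
  exact ⟨fun h => ⟨fun a ha => (h ha).1, fun a ha => (h ha).2⟩, fun h a ha => ⟨h.1 ha, h.2 a ha⟩⟩

theorem commutator_sup_left_le {A B C X : Subgroup G} (hA : A ≤ normalizer (X : Set G))
    (hB : B ≤ normalizer (X : Set G)) (h1 : ⁅A, C⁆ ≤ X) (h2 : ⁅B, C⁆ ≤ X) : ⁅A ⊔ B, C⁆ ≤ X :=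
  (le_actKer_iff.1 (sup_le (le_actKer_iff.2 ⟨hA, h1⟩) (le_actKer_iff.2 ⟨hB, h2⟩))).2

theorem commutator_sup_right_le {A B C X : Subgroup G} (hA : A ≤ normalizer (X : Set G))
    (hB : B ≤ normalizer (X : Set G)) (h1 : ⁅C, A⁆ ≤ X) (h2 : ⁅C, B⁆ ≤ X) : ⁅C, A ⊔ B⁆ ≤ X := by
  rw [commutator_comm] at h1 h2 ⊢
  exact commutator_sup_left_le hA hB h1 h2

theorem commutator_iSup_left_le {ι : Sort*} {A : ι → Subgroup G} {C X : Subgroup G}
    (hA : ∀ i, A i ≤ normalizer (X : Set G)) (h1 : ∀ i, ⁅A i, C⁆ ≤ X) : ⁅⨆ i, A i, C⁆ ≤ X :=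
  (le_actKer_iff.1 (iSup_le fun i => le_actKer_iff.2 ⟨hA i, h1 i⟩)).2

theorem commutator_sSup_left_le {S : Set (Subgroup G)} {C X : Subgroup G}
    (hA : ∀ A ∈ S, A ≤ normalizer (X : Set G)) (h1 : ∀ A ∈ S, ⁅A, C⁆ ≤ X) : ⁅sSup S, C⁆ ≤ X :=
  (le_actKer_iff.1 (sSup_le fun A h => le_actKer_iff.2 ⟨hA A h, h1 A h⟩)).2

theorem commutator_closure_left_le {s : Set G} {C X : Subgroup G}
    (hA : ∀ a ∈ s, a ∈ normalizer (X : Set G)) (h1 : ∀ a ∈ s, ∀ c ∈ C, ⁅a, c⁆ ∈ X) :
    ⁅closure s, C⁆ ≤ X :=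
  (le_actKer_iff.1 ((closure_le _).2 fun a h => ⟨hA a h, h1 a h⟩)).2

theorem commutator_zpowers_left_le {a : G} {C X : Subgroup G}
    (hA : a ∈ normalizer (X : Set G)) (h1 : ∀ c ∈ C, ⁅a, c⁆ ∈ X) : ⁅zpowers a, C⁆ ≤ X :=
  (le_actKer_iff.1 (zpowers_le.2 ⟨hA, h1⟩)).2

/-- The three subgroups lemma modulo a subgroup normalized by all three. -/
theorem three_subgroups_le {A B C X : Subgroup G} (hA : A ≤ normalizer (X : Set G))
    (hB : B ≤ normalizer (X : Set G)) (hC : C ≤ normalizer (X : Set G))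
    (h1 : ⁅⁅A, B⁆, C⁆ ≤ X) (h2 : ⁅⁅B, C⁆, A⁆ ≤ X) : ⁅⁅C, A⁆, B⁆ ≤ X := by
  refine (le_actKer_iff.1 (commutator_le.2 fun c hc a ha => ⟨?_, fun b hb => ?_⟩)).2
  · exact (commutator_le_sup C A).trans (sup_le hC hA) (commutator_mem_commutator hc ha)
  · have e := conj_commutatorElement_left_commutatorElement_mul a b c⁻¹
    have h1' : ⁅⁅a⁻¹, b⁆, c⁻¹⁆ ∈ X :=
      h1 (commutator_mem_commutator (commutator_mem_commutator (inv_mem ha) hb) (inv_mem hc))
    have h2' : ⁅⁅b⁻¹, c⁻¹⁆, a⁆ ∈ X :=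
      h2 (commutator_mem_commutator (commutator_mem_commutator (inv_mem hb) (inv_mem hc)) ha)
    have e2 : ⁅⁅c, a⁆, b⁆ = c * ((a * ⁅⁅a⁻¹, b⁆, c⁻¹⁆ * a⁻¹)⁻¹ * (b * ⁅⁅b⁻¹, c⁻¹⁆, a⁆ * b⁻¹)⁻¹) * c⁻¹ := by
      simp only [commutatorElement_def]; group
    rw [e2]
    exact conj_mem_of_mem_normalizer (hC hc) (mul_mem
      (inv_mem (conj_mem_of_mem_normalizer (hA ha) h1'))
      (inv_mem (conj_mem_of_mem_normalizer (hB hb) h2')))

/-- If `L` is perfect and `[X, L, L] = 1` then `[X, L] = 1`. -/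
theorem commutator_eq_bot_of_perfect {X L : Subgroup G} (hL : ⁅L, L⁆ = L)
    (h : ⁅⁅X, L⁆, L⁆ = ⊥) : ⁅X, L⁆ = ⊥ := by
  have := commutator_commutator_eq_bot_of_rotate (H₁ := L) (H₂ := L) (H₃ := X)
    (by rw [commutator_comm L X]; exact h) h
  rwa [hL, commutator_comm] at this

/-- If `L` is perfect and `[X, L, L] ≤ Y` then `[X, L] ≤ Y`. -/
theorem commutator_le_of_perfect {X L Y : Subgroup G} (hL : ⁅L, L⁆ = L)
    (hX : X ≤ normalizer (Y : Set G)) (hLY : L ≤ normalizer (Y : Set G))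
    (h : ⁅⁅X, L⁆, L⁆ ≤ Y) : ⁅X, L⁆ ≤ Y := by
  have := three_subgroups_le (A := L) (B := X) (C := L) hLY hX hLY
    (by rw [commutator_comm L X]; exact h) h
  rwa [hL, commutator_comm] at this

theorem commutator_eq_bot_iff' {H K : Subgroup G} : ⁅H, K⁆ = ⊥ ↔ K ≤ centralizer (H : Set G) := by
  rw [commutator_comm, commutator_eq_bot_iff_le_centralizer]

theorem commutator_le_left_of_le_normalizer {H K : Subgroup G} (h : K ≤ normalizer (H : Set G)) :
    ⁅H, K⁆ ≤ H := le_normalizer_iff_commutator_le_left.1 h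

theorem commutator_le_right_of_le_normalizer {H K : Subgroup G} (h : H ≤ normalizer (K : Set G)) :
    ⁅H, K⁆ ≤ K := le_normalizer_iff_commutator_le_right.1 h

theorem le_normalizer_of_commutator_le {A N X : Subgroup G} (hN : N ≤ X) (h : ⁅A, X⁆ ≤ N) :
    A ≤ normalizer (N : Set G) :=
  le_normalizer_iff_commutator_le_right.2 ((commutator_mono le_rfl hN).trans h)

theorem sup_le_normalizer_commutator (H K : Subgroup G) :
    H ⊔ K ≤ normalizer ((⁅H, K⁆ : Subgroup G) : Set G) :=
  sup_le (normalizer_commutator_ge_left H K) (normalizer_commutator_ge_right H K)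

/-- Commutators ignore factors centralizing everything. -/
theorem commutator_sup_central_left {A Z B : Subgroup G} (hA : Z ≤ centralizer (A : Set G))
    (hB : Z ≤ centralizer (B : Set G)) : ⁅A ⊔ Z, B⁆ = ⁅A, B⁆ := by
  refine le_antisymm (commutator_sup_left_le (normalizer_commutator_ge_left A B) ?_ le_rfl ?_)
    (commutator_mono le_sup_left le_rfl)
  · exact le_normalizer_commutator (le_normalizer_of_le_centralizer hA)
      (le_normalizer_of_le_centralizer hB)
  · rw [commutator_eq_bot_iff_le_centralizer.2 hB]; exact bot_le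

theorem commutator_sup_central {A Z : Subgroup G} (hA : Z ≤ centralizer (A : Set G))
    (hZ : Z ≤ centralizer (Z : Set G)) : ⁅A ⊔ Z, A ⊔ Z⁆ = ⁅A, A⁆ := by
  have h : Z ≤ centralizer ((A ⊔ Z : Subgroup G) : Set G) := by
    rw [centralizer_sup]; exact le_inf hA hZ
  rw [commutator_sup_central_left hA h, commutator_comm, commutator_sup_central_left hA hA]

/-- `[A ⊔ B, C] = [A, C] ⊔ [B, C]` when `A` and `B` normalize the join. -/
theorem commutator_sup_left {A B C : Subgroup G}
    (hA : A ≤ normalizer ((⁅B, C⁆ : Subgroup G) : Set G))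
    (hB : B ≤ normalizer ((⁅A, C⁆ : Subgroup G) : Set G)) : ⁅A ⊔ B, C⁆ = ⁅A, C⁆ ⊔ ⁅B, C⁆ := by
  refine le_antisymm (commutator_sup_left_le ?_ ?_ le_sup_left le_sup_right)
    (sup_le (commutator_mono le_sup_left le_rfl) (commutator_mono le_sup_right le_rfl))
  · exact le_normalizer_sup (normalizer_commutator_ge_left _ _) hA
  · exact le_normalizer_sup hB (normalizer_commutator_ge_left _ _)

theorem map_eq_bot_iff_le_ker' {G' : Type*} [Group G'] (f : G →* G') (A B : Subgroup G) :
    ⁅A.map f, B.map f⁆ = ⊥ ↔ ⁅A, B⁆ ≤ f.ker := by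
  rw [← map_commutator, Subgroup.map_eq_bot_iff]

theorem solvable_perfect_eq_bot {L : Subgroup G} (hL : ⁅L, L⁆ = L) (hs : Group.IsSolvable L) :
    L = ⊥ := by
  by_contra hne
  have : Nontrivial L := (nontrivial_iff_ne_bot L).2 hne
  have : Group.IsPerfect L := isPerfect_iff.2 hL
  exact Group.IsPerfect.not_isSolvable L hs

theorem isSolvable_of_le {H K : Subgroup G} (h : H ≤ K) (hK : Group.IsSolvable K) :
    Group.IsSolvable H := Group.isSolvable_of_isSolvable_injective (inclusion_injective h)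

theorem isNilpotent_of_le {H K : Subgroup G} (h : H ≤ K) (hK : Group.IsNilpotent K) :
    Group.IsNilpotent H := Group.nilpotent_of_mulEquiv (subgroupOfEquivOfLe h)

theorem isSolvable_map {G' : Type*} [Group G'] (f : G →* G') {H : Subgroup G}
    (hH : Group.IsSolvable H) : Group.IsSolvable (H.map f) :=
  Group.isSolvable_of_surjective (f.subgroupMap_surjective H)

theorem isNilpotent_map {G' : Type*} [Group G'] (f : G →* G') {H : Subgroup G}
    (hH : Group.IsNilpotent H) : Group.IsNilpotent (H.map f) :=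
  Group.nilpotent_of_surjective _ (f.subgroupMap_surjective H)

theorem isSolvable_of_map {G' : Type*} [Group G'] (f : G →* G') {H : Subgroup G}
    (h1 : Group.IsSolvable (H.map f)) (h2 : Group.IsSolvable (H ⊓ f.ker : Subgroup G)) :
    Group.IsSolvable H := by
  refine Group.isSolvable_of_ker_le_range (inclusion (inf_le_left : H ⊓ f.ker ≤ H))
    (f.subgroupMap H) ?_
  intro x hx
  rw [ker_subgroupMap, mem_subgroupOf] at hx
  exact ⟨⟨x, x.2, hx⟩, rfl⟩

theorem isSolvable_sup {H N : Subgroup G} (h : H ≤ normalizer (N : Set G))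
    (hH : Group.IsSolvable H) (hN : Group.IsSolvable N) : Group.IsSolvable (H ⊔ N : Subgroup G) := by
  have hn : (N.subgroupOf (H ⊔ N)).Normal :=
    normal_subgroupOf_of_le_normalizer (sup_le h le_normalizer)
  rw [Group.isSolvable_iff_subgroup_quotient (N.subgroupOf (H ⊔ N))]
  refine ⟨Group.isSolvable_of_surjective (f := (subgroupOfEquivOfLe
    (le_sup_right : N ≤ H ⊔ N)).symm.toMonoidHom) (MulEquiv.surjective _), ?_⟩
  refine Group.isSolvable_of_surjective
    (f := (QuotientGroup.mk' (N.subgroupOf (H ⊔ N))).comp (inclusion (le_sup_left : H ≤ H ⊔ N))) ?_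
  intro y
  obtain ⟨⟨x, hx⟩, rfl⟩ := QuotientGroup.mk'_surjective _ y
  obtain ⟨a, ha, b, hb, rfl⟩ := (mem_sup_of_le_normalizer h).1 hx
  refine ⟨⟨a, ha⟩, ?_⟩
  simp only [MonoidHom.comp_apply, QuotientGroup.mk'_apply, QuotientGroup.eq, mem_subgroupOf]
  simpa using hb

end Cfsg.Agent.Comp
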