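/-
Relative subnormality in an ambient group and the join theorem of Wielandt.
-/
import Cfsg.Agent.Lib.Comp.Basic

set_option autoImplicit false

namespace Cfsg.Agent.Comp

open Subgroup

variable {G : Type*} [Group G]

/-- `H` is a subnormal subgroup of `M`, both being subgroups of the ambient group. -/
inductive SubnIn : Subgroup G → Subgroup G → Prop
  | refl (M : Subgroup G) : SubnIn M M
  | step (H K M : Subgroup G) : H ≤ K → K ≤ normalizer (H : Set G) → SubnIn K M → SubnIn H M

namespace SubnIn

theorem le {H M : Subgroup G} (h : SubnIn H M) : H ≤ M := by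
  induction h with
  | refl => exact le_rfl
  | step H K M h1 _ _ ih => exact h1.trans ih

theorem of_normalizer {H M : Subgroup G} (h1 : H ≤ M) (h2 : M ≤ normalizer (H : Set G)) :
    SubnIn H M := step H M M h1 h2 (refl M)

theorem trans {H K M : Subgroup G} (h1 : SubnIn H K) (h2 : SubnIn K M) : SubnIn H M := by
  induction h1 with
  | refl => exact h2
  | step H K L a b _ ih => exact step H K M a b (ih h2)

theorem bot (M : Subgroup G) : SubnIn ⊥ M :=
  of_normalizer bot_le (by rw [normalizer_eq_top]; exact le_top)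

theorem inf_right {H M : Subgroup G} (h : SubnIn H M) (K : Subgroup G) :
    SubnIn (H ⊓ K) (M ⊓ K) := by
  induction h with
  | refl => exact refl _
  | step H L M a b _ ih =>
    exact step _ (L ⊓ K) _ (inf_le_inf_right _ a)
      (le_normalizer_inf (inf_le_left.trans b) (inf_le_right.trans le_normalizer)) ih

theorem of_le {H K M : Subgroup G} (h : SubnIn H M) (h1 : H ≤ K) (h2 : K ≤ M) : SubnIn H K := by
  have := h.inf_right K
  rwa [inf_eq_left.2 h1, inf_eq_right.2 h2] at this

theorem inf_of_le {H K M : Subgroup G} (h : SubnIn H M) (h2 : K ≤ M) : SubnIn (H ⊓ K) K := by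
  have := h.inf_right K
  rwa [inf_eq_right.2 h2] at this

theorem inf {H K M : Subgroup G} (h1 : SubnIn H M) (h2 : SubnIn K M) : SubnIn (H ⊓ K) M :=
  (h1.inf_of_le h2.le).trans h2

theorem map {G' : Type*} [Group G'] (f : G →* G') {H M : Subgroup G} (h : SubnIn H M) :
    SubnIn (H.map f) (M.map f) := by
  induction h with
  | refl => exact refl _
  | step H L M a b _ ih =>
    exact step _ (L.map f) _ (map_mono a) ((map_mono b).trans (le_normalizer_map f)) ih

theorem comap {G' : Type*} [Group G'] (f : G' →* G) {H M : Subgroup G} (h : SubnIn H M) :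
    SubnIn (H.comap f) (M.comap f) := by
  induction h with
  | refl => exact refl _
  | step H L M a b _ ih =>
    exact step _ (L.comap f) _ (comap_mono a) ((comap_mono b).trans (le_normalizer_comap f)) ih

theorem cj {H M : Subgroup G} (h : SubnIn H M) {g : G} (hg : g ∈ normalizer (M : Set G)) :
    SubnIn cj(g, H) M := by
  have := h.map (MulAut.conj g).toMonoidHom
  rwa [cj_eq_self_iff.2 hg] at this

theorem isSubnormal {H : Subgroup G} (h : SubnIn H ⊤) : H.IsSubnormal := by
  generalize hM : (⊤ : Subgroup G) = M at h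
  induction h with
  | refl => rw [← hM]; exact .top
  | step H L M a b _ ih =>
    exact .step H L a (ih hM) ((normal_subgroupOf_iff_le_normalizer a).2 b)

theorem of_isSubnormal {H : Subgroup G} (h : H.IsSubnormal) : SubnIn H ⊤ := by
  induction h with
  | top => exact refl _
  | step H K a _ b ih => exact step H K _ a ((normal_subgroupOf_iff_le_normalizer a).1 b) ih

theorem of_normal (H : Subgroup G) [h : H.Normal] : SubnIn H ⊤ := of_isSubnormal h.isSubnormal

/-- A proper subnormal subgroup lies subnormally in a proper normal subgroup. -/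
theorem eq_or_exists_lt {H M : Subgroup G} (h : SubnIn H M) :
    H = M ∨ ∃ N, N < M ∧ M ≤ normalizer (N : Set G) ∧ SubnIn H N := by
  induction h with
  | refl => exact Or.inl rfl
  | step H L M a b c ih =>
    rcases ih with rfl | ⟨N, h1, h2, h3⟩
    · rcases eq_or_lt_of_le a with rfl | hlt
      · exact Or.inl rfl
      · exact Or.inr ⟨H, hlt, b, refl _⟩
    · exact Or.inr ⟨N, h1, h2, step H L N a b h3⟩

theorem sup_normal {H M N : Subgroup G} (h : SubnIn H M) (h1 : N ≤ M)
    (h2 : M ≤ normalizer (N : Set G)) : SubnIn (H ⊔ N) M := by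
  induction h with
  | refl M => rw [sup_eq_left.2 h1]; exact refl _
  | step H L M a b c ih =>
    refine step _ (L ⊔ N) _ (sup_le_sup_right a _) (sup_le ?_ ?_) (ih h1 h2)
    · exact le_normalizer_sup b (c.le.trans h2)
    · exact le_sup_right.trans le_normalizer

theorem normal_sup {H M N : Subgroup G} (h : SubnIn H M) (h1 : N ≤ M)
    (h2 : M ≤ normalizer (N : Set G)) : SubnIn (N ⊔ H) M := by
  rw [sup_comm]; exact h.sup_normal h1 h2

end SubnIn

theorem subnIn_top_iff {H : Subgroup G} : SubnIn H ⊤ ↔ H.IsSubnormal :=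
  ⟨SubnIn.isSubnormal, SubnIn.of_isSubnormal⟩

theorem map_subtype_top (M : Subgroup G) : (⊤ : Subgroup M).map M.subtype = M := by
  rw [← MonoidHom.range_eq_map, range_subtype]

theorem subnIn_map_subtype_iff {M : Subgroup G} {K : Subgroup M} :
    SubnIn (K.map M.subtype) M ↔ K.IsSubnormal := by
  constructor
  · intro h
    have := h.comap M.subtype
    rw [comap_map_eq_self_of_injective M.subtype_injective, comap_subtype, subgroupOf_self] at this
    exact this.isSubnormal
  · intro h
    have := (SubnIn.of_isSubnormal h).map M.subtype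
    rwa [map_subtype_top] at this

theorem subnIn_iff {H M : Subgroup G} : SubnIn H M ↔ H ≤ M ∧ (H.subgroupOf M).IsSubnormal := by
  constructor
  · intro h
    refine ⟨h.le, subnIn_map_subtype_iff.1 ?_⟩
    rwa [map_subgroupOf_eq_of_le h.le]
  · rintro ⟨h1, h2⟩
    have := subnIn_map_subtype_iff.2 h2
    rwa [map_subgroupOf_eq_of_le h1] at this

theorem subnIn_map_iff_of_injective {G' : Type*} [Group G'] {f : G →* G'}
    (hf : Function.Injective f) {H M : Subgroup G} :
    SubnIn (H.map f) (M.map f) ↔ SubnIn H M := by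
  refine ⟨fun h => ?_, fun h => h.map f⟩
  have := h.comap f
  rwa [comap_map_eq_self_of_injective hf, comap_map_eq_self_of_injective hf] at this

/-! ### The normal closure `A[A, M]` -/

theorem le_normalizer_sup_commutator (A M : Subgroup G) :
    M ≤ normalizer ((A ⊔ ⁅A, M⁆ : Subgroup G) : Set G) := by
  rw [le_normalizer_iff_commutator_le_left]
  refine le_trans ?_ le_sup_right
  refine commutator_sup_left_le (normalizer_commutator_ge_left A M) le_normalizer le_rfl ?_
  exact commutator_le_left_of_le_normalizer (normalizer_commutator_ge_right A M)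

theorem sup_commutator_le {A M N : Subgroup G} (h1 : A ≤ N) (h2 : M ≤ normalizer (N : Set G)) :
    A ⊔ ⁅A, M⁆ ≤ N :=
  sup_le h1 ((commutator_mono h1 le_rfl).trans (commutator_le_left_of_le_normalizer h2))

theorem cj_le_sup_commutator {A M : Subgroup G} {g : G} (hg : g ∈ M) :
    cj(g, A) ≤ A ⊔ ⁅A, M⁆ :=
  cj_le_of_mem le_sup_left (le_normalizer_sup_commutator A M hg)

/-- The normal closure as a join of conjugates. -/
theorem sup_commutator_eq_iSup (A M : Subgroup G) :
    A ⊔ ⁅A, M⁆ = ⨆ g : M, cj((g : G), A) := by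
  apply le_antisymm
  · refine sup_commutator_le ?_ ?_
    · refine le_trans ?_ (le_iSup _ (1 : M))
      rw [OneMemClass.coe_one, cj_one]
    · refine le_normalizer_of_cj_le fun g hg => ?_
      rw [Subgroup.map_iSup]
      refine iSup_le fun h => ?_
      rw [← cj_mul]
      exact le_iSup (fun g : M => cj((g : G), A)) (⟨g, hg⟩ * h)
  · exact iSup_le fun g => cj_le_sup_commutator g.2

theorem SubnIn.sup_commutator_lt {A M : Subgroup G} (h : SubnIn A M) (hne : A ≠ M) :
    A ⊔ ⁅A, M⁆ < M := by
  obtain rfl | ⟨N, h1, h2, h3⟩ := h.eq_or_exists_lt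
  · exact absurd rfl hne
  · exact lt_of_le_of_lt (sup_commutator_le h3.le h2) h1

/-- Strong induction on subgroups of a finite group. -/
theorem subgroup_induction [Finite G] {P : Subgroup G → Prop}
    (h : ∀ M, (∀ N, N < M → P N) → P M) (M : Subgroup G) : P M :=
  (wellFounded_lt (α := Subgroup G)).induction M h

/-- Downward strong induction on subgroups of a finite group. -/
theorem subgroup_induction_gt [Finite G] {P : Subgroup G → Prop}
    (h : ∀ M, (∀ N, M < N → P N) → P M) (M : Subgroup G) : P M :=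
  (wellFounded_gt (α := Subgroup G)).induction M h

theorem exists_maximal_subgroup [Finite G] {P : Subgroup G → Prop} {A : Subgroup G} (h : P A) :
    ∃ B, A ≤ B ∧ P B ∧ ∀ C, P C → B ≤ C → C = B := by
  obtain ⟨B, h1, h2⟩ := exists_maximal_ge_of_wellFoundedGT P A h
  exact ⟨B, h1, h2.1, fun C hC hle => le_antisymm (h2.2 hC hle) hle⟩

theorem exists_minimal_subgroup [Finite G] {P : Subgroup G → Prop} {A : Subgroup G} (h : P A) :
    ∃ B, B ≤ A ∧ P B ∧ ∀ C, P C → C ≤ B → C = B := by
  obtain ⟨B, h1, h2⟩ := exists_minimal_le_of_wellFoundedLT P A h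
  exact ⟨B, h1, h2.1, fun C hC hle => le_antisymm hle (h2.2 hC hle)⟩

theorem SubnIn.sup_of_le_normalizer_aux [Finite G] {A B : Subgroup G}
    (hBA : B ≤ normalizer (A : Set G)) (M : Subgroup G) :
    SubnIn A M → B ≤ normalizer (M : Set G) → SubnIn B (M ⊔ B) → SubnIn (A ⊔ B) (M ⊔ B) := by
  induction M using subgroup_induction with
  | h M ih =>
    intro hA hBM hB
    by_cases hne : A = M
    · rw [hne]; exact refl _
    have hlt := hA.sup_commutator_lt hne
    have hBN : B ≤ normalizer ((A ⊔ ⁅A, M⁆ : Subgroup G) : Set G) :=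
      le_normalizer_sup hBA (le_normalizer_commutator hBA hBM)
    have h1 : SubnIn (A ⊔ ⁅A, M⁆ ⊔ B) (M ⊔ B) :=
      hB.normal_sup (hlt.le.trans le_sup_left) (sup_le (le_normalizer_sup_commutator A M) hBN)
    exact (ih _ hlt (hA.of_le le_sup_left hlt.le) hBN
      (hB.of_le le_sup_right (sup_le_sup_right hlt.le _))).trans h1

/-- Wielandt: the join of two subnormal subgroups of a finite group is subnormal. -/
theorem SubnIn.sup [Finite G] {M : Subgroup G} :
    ∀ {A B : Subgroup G}, SubnIn A M → SubnIn B M → SubnIn (A ⊔ B) M := by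
  induction M using subgroup_induction with
  | h M ih =>
    intro A B hA hB
    obtain rfl | ⟨N, h1, h2, h3⟩ := hA.eq_or_exists_lt
    · rw [sup_eq_left.2 hB.le]; exact refl _
    obtain ⟨C, hAC, ⟨hC1, hC2⟩, hmax⟩ := exists_maximal_subgroup
      (P := fun C => SubnIn C N ∧ C ≤ A ⊔ B) ⟨h3, le_sup_left⟩
    have hBC : B ≤ normalizer (C : Set G) := by
      refine le_normalizer_of_cj_le fun g hg => ?_
      have := hmax (C ⊔ cj(g, C)) ⟨ih N h1 hC1 (hC1.cj (h2 (hB.le hg))),
        sup_le hC2 (cj_le_of_mem hC2 (le_normalizer (mem_sup_right hg)))⟩ le_sup_left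
      exact le_sup_right.trans this.le
    have hCM : SubnIn C M := hC1.trans (of_normalizer h1.le h2)
    have e : M ⊔ B = M := sup_eq_left.2 hB.le
    have := SubnIn.sup_of_le_normalizer_aux hBC M hCM (hB.le.trans le_normalizer) (by rwa [e])
    rw [e] at this
    have e2 : A ⊔ B = C ⊔ B := le_antisymm (sup_le_sup_right hAC _) (sup_le hC2 le_sup_right)
    rwa [e2]

/-- A property of subgroups of a finite group closed under binary joins passes to arbitrary joins. -/
theorem sSup_induction_finite [Finite G] {P : Subgroup G → Prop} (h0 : P ⊥)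
    {S : Set (Subgroup G)} (hS : ∀ K ∈ S, P K) (hsup : ∀ A B, P A → P B → P (A ⊔ B)) :
    P (sSup S) := by
  obtain ⟨C, -, ⟨hC1, hC2⟩, hmax⟩ := exists_maximal_subgroup
    (P := fun C => P C ∧ C ≤ sSup S) ⟨h0, bot_le⟩
  have : sSup S = C := le_antisymm (sSup_le fun K hK =>
    le_sup_right.trans (hmax (C ⊔ K) ⟨hsup _ _ hC1 (hS K hK), sup_le hC2 (le_sSup hK)⟩
      le_sup_left).le) hC2
  rwa [this]

/-- Induction over a join adding one member of the family at a time. -/
theorem sSup_induction_finite' [Finite G] {P : Subgroup G → Prop} (h0 : P ⊥)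
    {S : Set (Subgroup G)} (hsup : ∀ A, A ≤ sSup S → P A → ∀ K ∈ S, P (A ⊔ K)) :
    P (sSup S) := by
  obtain ⟨C, -, ⟨hC1, hC2⟩, hmax⟩ := exists_maximal_subgroup
    (P := fun C => P C ∧ C ≤ sSup S) ⟨h0, bot_le⟩
  have : sSup S = C := le_antisymm (sSup_le fun K hK =>
    le_sup_right.trans (hmax (C ⊔ K) ⟨hsup _ hC2 hC1 K hK, sup_le hC2 (le_sSup hK)⟩
      le_sup_left).le) hC2
  rwa [this]

theorem iSup_induction_finite [Finite G] {P : Subgroup G → Prop} (h0 : P ⊥) {ι : Sort*}
    {S : ι → Subgroup G} (hS : ∀ i, P (S i)) (hsup : ∀ A B, P A → P B → P (A ⊔ B)) :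
    P (⨆ i, S i) :=
  sSup_induction_finite h0 (by rintro _ ⟨i, rfl⟩; exact hS i) hsup

theorem SubnIn.sSup [Finite G] {M : Subgroup G} {S : Set (Subgroup G)}
    (h : ∀ K ∈ S, SubnIn K M) : SubnIn (sSup S) M :=
  sSup_induction_finite (P := fun K => SubnIn K M) (bot M) h fun _ _ => SubnIn.sup

theorem SubnIn.iSup [Finite G] {M : Subgroup G} {ι : Sort*} {S : ι → Subgroup G}
    (h : ∀ i, SubnIn (S i) M) : SubnIn (⨆ i, S i) M :=
  iSup_induction_finite (P := fun K => SubnIn K M) (bot M) h fun _ _ => SubnIn.sup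

theorem isSubnormal_sup [Finite G] {A B : Subgroup G} (hA : A.IsSubnormal) (hB : B.IsSubnormal) :
    (A ⊔ B).IsSubnormal :=
  ((SubnIn.of_isSubnormal hA).sup (SubnIn.of_isSubnormal hB)).isSubnormal

/-- Every subgroup of a nilpotent group is subnormal. -/
theorem subnIn_of_isNilpotent [Finite G] {M : Subgroup G} (hM : Group.IsNilpotent M)
    {H : Subgroup G} (h : H ≤ M) : SubnIn H M := by
  induction H using subgroup_induction_gt with
  | h H ih =>
    rcases eq_or_lt_of_le h with rfl | hlt
    · exact SubnIn.refl _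
    have h1 : H.subgroupOf M < normalizer (H.subgroupOf M : Set M) := by
      refine Group.normalizerCondition_of_isNilpotent _ (lt_top_iff_ne_top.2 fun he => hlt.ne ?_)
      exact le_antisymm h (subgroupOf_eq_top.1 he)
    have h2 : H < M ⊓ normalizer (H : Set G) := by
      have := map_subtype_normalizer (H.subgroupOf M)
      rw [map_subgroupOf_eq_of_le h] at this
      rw [← this]
      conv_lhs => rw [← map_subgroupOf_eq_of_le h]
      refine lt_of_le_of_ne (map_mono h1.le) fun he => h1.ne ?_
      exact map_injective M.subtype_injective he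
    exact SubnIn.step H _ M h2.le inf_le_right (ih _ h2 inf_le_left)

theorem lt_inf_normalizer_of_isNilpotent {M : Subgroup G} (hM : Group.IsNilpotent M)
    {H : Subgroup G} (hlt : H < M) : H < M ⊓ normalizer (H : Set G) := by
  have h := hlt.le
  have h1 : H.subgroupOf M < normalizer (H.subgroupOf M : Set M) := by
    refine Group.normalizerCondition_of_isNilpotent _ (lt_top_iff_ne_top.2 fun he => hlt.ne ?_)
    exact le_antisymm h (subgroupOf_eq_top.1 he)
  have := map_subtype_normalizer (H.subgroupOf M)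
  rw [map_subgroupOf_eq_of_le h] at this
  rw [← this]
  conv_lhs => rw [← map_subgroupOf_eq_of_le h]
  refine lt_of_le_of_ne (map_mono h1.le) fun he => h1.ne ?_
  exact map_injective M.subtype_injective he

theorem lt_inf_normalizer_of_isPGroup [Finite G] {p : ℕ} [Fact p.Prime] {M : Subgroup G}
    (hM : IsPGroup p M) {H : Subgroup G} (hlt : H < M) : H < M ⊓ normalizer (H : Set G) :=
  lt_inf_normalizer_of_isNilpotent hM.isNilpotent hlt

end Cfsg.Agent.Comp
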