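/-
Fitting classes closed under subgroups and quotients, and their radicals:
`O_p`, `O_{p'}`, `O_π`, the Fitting subgroup and the solvable radical, treated uniformly.
-/
import Cfsg.Agent.Lib.Comp.Subn

set_option autoImplicit false

namespace Cfsg.Agent.Comp

open Subgroup

universe u

/-- A class of groups closed (for finite groups) under subgroups, quotients and normal products. -/
structure FClass where
  /-- membership in the class -/
  P : ∀ (X : Type u) [Group X], Prop
  of_injective : ∀ {X Y : Type u} [Group X] [Group Y] [Finite Y] (f : X →* Y),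
    Function.Injective f → P Y → P X
  of_surjective : ∀ {X Y : Type u} [Group X] [Group Y] [Finite X] (f : X →* Y),
    Function.Surjective f → P X → P Y
  of_subsingleton : ∀ (X : Type u) [Group X] [Subsingleton X], P X
  sup_normal : ∀ {X : Type u} [Group X] [Finite X] (A B : Subgroup X), A.Normal → B.Normal →
    P A → P B → P (A ⊔ B : Subgroup X)

namespace FClass

variable (C : FClass.{u}) {G : Type u} [Group G]

/-- The class is closed under extensions. -/
def Ext : Prop := ∀ {X : Type u} [Group X] [Finite X] (N : Subgroup X) [N.Normal],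
  C.P N → C.P (X ⧸ N) → C.P X

/-- The radical of a group. -/
def rad (X : Type u) [Group X] : Subgroup X := sSup {N : Subgroup X | N.Normal ∧ C.P N}

/-- The radical of a subgroup, in the ambient group. -/
def radOf (M : Subgroup G) : Subgroup G := (C.rad M).map M.subtype

instance rad_normal (X : Type u) [Group X] : (C.rad X).Normal :=
  Subgroup.sSup_normal _ (fun _ h => h.1)

theorem bot : C.P (⊥ : Subgroup G) := C.of_subsingleton _

variable {C}

theorem of_equiv {X Y : Type u} [Group X] [Group Y] [Finite X] (e : X ≃* Y) (h : C.P X) : C.P Y :=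
  C.of_surjective e.toMonoidHom e.surjective h

theorem congr {X Y : Type u} [Group X] [Group Y] [Finite X] (e : X ≃* Y) : C.P X ↔ C.P Y :=
  have : Finite Y := Finite.of_equiv X e.toEquiv
  ⟨of_equiv e, of_equiv e.symm⟩

variable [Finite G]

theorem to_le {H K : Subgroup G} (hK : C.P K) (h : H ≤ K) : C.P H :=
  C.of_injective (inclusion h) (inclusion_injective h) hK

theorem to_subgroup (hG : C.P G) (H : Subgroup G) : C.P H :=
  C.of_injective H.subtype H.subtype_injective hG

theorem top_iff : C.P (⊤ : Subgroup G) ↔ C.P G := congr topEquiv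

theorem map {G' : Type u} [Group G'] {H : Subgroup G} (hH : C.P H) (f : G →* G') :
    C.P (H.map f) := C.of_surjective (f.subgroupMap H) (f.subgroupMap_surjective H) hH

theorem map_iff_of_injective {G' : Type u} [Group G'] {H : Subgroup G} {f : G →* G'}
    (hf : Function.Injective f) : C.P (H.map f) ↔ C.P H :=
  (congr (equivMapOfInjective H f hf)).symm

theorem map_subtype_iff {M : Subgroup G} {H : Subgroup M} : C.P (H.map M.subtype) ↔ C.P H :=
  map_iff_of_injective M.subtype_injective

theorem subgroupOf_iff {H M : Subgroup G} (h : H ≤ M) : C.P (H.subgroupOf M) ↔ C.P H :=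
  congr (subgroupOfEquivOfLe h)

theorem subgroupOf {H : Subgroup G} (hH : C.P H) (M : Subgroup G) : C.P (H.subgroupOf M) := by
  rw [← inf_subgroupOf_right, subgroupOf_iff inf_le_right]
  exact to_le hH inf_le_left

theorem cj_iff {H : Subgroup G} {g : G} : C.P cj(g, H) ↔ C.P H :=
  map_iff_of_injective (MulAut.conj g).injective

theorem sup {A B : Subgroup G} (h1 : A ≤ normalizer (B : Set G)) (h2 : B ≤ normalizer (A : Set G))
    (hA : C.P A) (hB : C.P B) : C.P (A ⊔ B : Subgroup G) := by
  have := C.sup_normal (A.subgroupOf (A ⊔ B)) (B.subgroupOf (A ⊔ B))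
    (normal_subgroupOf_of_le_normalizer (sup_le le_normalizer h2))
    (normal_subgroupOf_of_le_normalizer (sup_le h1 le_normalizer))
    ((subgroupOf_iff le_sup_left).2 hA) ((subgroupOf_iff le_sup_right).2 hB)
  rw [← subgroupOf_sup le_sup_left le_sup_right] at this
  exact (subgroupOf_iff le_rfl).1 this

theorem of_map (hC : C.Ext) {G' : Type u} [Group G'] (f : G →* G') {H : Subgroup G}
    (h1 : C.P (H.map f)) (h2 : C.P (H ⊓ f.ker : Subgroup G)) : C.P H := by
  refine hC (f.subgroupMap H).ker ?_ ?_
  · rw [ker_subgroupMap, ← inf_subgroupOf_left, subgroupOf_iff inf_le_left]; exact h2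
  · have : Finite (H.map f) := Finite.of_surjective _ (f.subgroupMap_surjective H)
    exact of_equiv (QuotientGroup.quotientKerEquivOfSurjective _
      (f.subgroupMap_surjective H)).symm h1

theorem comap (hC : C.Ext) {G' : Type u} [Group G'] [Finite G'] (f : G →* G') {H : Subgroup G'}
    (h1 : C.P H) (h2 : C.P f.ker) : C.P (H.comap f) :=
  of_map hC f (to_le h1 (map_comap_le f H)) (to_le h2 inf_le_right)

theorem sup_of_ext (hC : C.Ext) {A B : Subgroup G} (h1 : A ≤ normalizer (B : Set G))
    (hA : C.P A) (hB : C.P B) : C.P (A ⊔ B : Subgroup G) := by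
  have hn : (B.subgroupOf (A ⊔ B)).Normal :=
    normal_subgroupOf_of_le_normalizer (sup_le h1 le_normalizer)
  refine hC (B.subgroupOf (A ⊔ B)) ((subgroupOf_iff le_sup_right).2 hB) ?_
  refine C.of_surjective
    ((QuotientGroup.mk' (B.subgroupOf (A ⊔ B))).comp (inclusion (le_sup_left : A ≤ A ⊔ B))) ?_ hA
  intro y
  obtain ⟨⟨x, hx⟩, rfl⟩ := QuotientGroup.mk'_surjective _ y
  obtain ⟨a, ha, b, hb, rfl⟩ := (mem_sup_of_le_normalizer h1).1 hx
  refine ⟨⟨a, ha⟩, ?_⟩
  simp only [MonoidHom.comp_apply, QuotientGroup.mk'_apply, QuotientGroup.eq, mem_subgroupOf]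
  simpa using hb

theorem sup_of_ext' (hC : C.Ext) {A B : Subgroup G} (h1 : B ≤ normalizer (A : Set G))
    (hA : C.P A) (hB : C.P B) : C.P (A ⊔ B : Subgroup G) := by
  rw [sup_comm]; exact sup_of_ext hC h1 hB hA

variable (C)

theorem rad_P (X : Type u) [Group X] [Finite X] : C.P (C.rad X) :=
  (sSup_induction_finite (P := fun N : Subgroup X => N.Normal ∧ C.P N) ⟨inferInstance, C.bot⟩
    (fun _ h => h) fun A B hA hB =>
      ⟨@Subgroup.sup_normal _ _ A B hA.1 hB.1, C.sup_normal A B hA.1 hB.1 hA.2 hB.2⟩).2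

omit [Finite G] in
theorem le_rad {N : Subgroup G} [hN : N.Normal] (h : C.P N) : N ≤ C.rad G := le_sSup ⟨hN, h⟩

omit [Finite G] in
theorem radOf_le (M : Subgroup G) : C.radOf M ≤ M := map_subtype_le _

theorem radOf_P (M : Subgroup G) : C.P (C.radOf M) := map_subtype_iff.2 (C.rad_P M)

omit [Finite G] in
theorem le_normalizer_radOf_self (M : Subgroup G) : M ≤ normalizer (C.radOf M : Set G) :=
  (normal_iff_map_subtype _).1 inferInstance

omit [Finite G] in
theorem subgroupOf_radOf (M : Subgroup G) : (C.radOf M).subgroupOf M = C.rad M :=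
  subgroupOf_map_subtype_self _

variable {C}

theorem le_radOf {N M : Subgroup G} (h1 : N ≤ M) (h2 : M ≤ normalizer (N : Set G)) (h : C.P N) :
    N ≤ C.radOf M := by
  have : (N.subgroupOf M).Normal := normal_subgroupOf_of_le_normalizer h2
  exact le_map_subtype_iff.2 ⟨h1, C.le_rad ((subgroupOf_iff h1).2 h)⟩

theorem radOf_eq_self {M : Subgroup G} (h : C.P M) : C.radOf M = M :=
  le_antisymm (C.radOf_le M) (le_radOf le_rfl le_normalizer h)

theorem radOf_eq_self_iff {M : Subgroup G} : C.radOf M = M ↔ C.P M :=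
  ⟨fun h => h ▸ C.radOf_P M, radOf_eq_self⟩

theorem rad_eq_top_iff : C.rad G = ⊤ ↔ C.P G :=
  ⟨fun h => top_iff.1 (h ▸ C.rad_P G), fun h => top_le_iff.1 (C.le_rad (top_iff.2 h))⟩

variable (C)

theorem radOf_top : C.radOf (⊤ : Subgroup G) = C.rad G := by
  apply le_antisymm
  · have : (C.radOf (⊤ : Subgroup G)).Normal :=
      normal_iff_top_le_normalizer.2 (C.le_normalizer_radOf_self ⊤)
    exact C.le_rad (C.radOf_P ⊤)
  · exact le_radOf le_top (normal_iff_top_le_normalizer.1 inferInstance) (C.rad_P G)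

omit [Finite G] in
theorem radOf_bot : C.radOf (⊥ : Subgroup G) = ⊥ := le_bot_iff.1 (C.radOf_le ⊥)

theorem map_radOf_le {G' : Type u} [Group G'] [Finite G'] (f : G →* G') (M : Subgroup G) :
    (C.radOf M).map f ≤ C.radOf (M.map f) :=
  le_radOf (map_mono (C.radOf_le M))
    ((map_mono (C.le_normalizer_radOf_self M)).trans (le_normalizer_map f)) (map (C.radOf_P M) f)

theorem map_radOf_of_injective {G' : Type u} [Group G'] [Finite G'] {f : G →* G'}
    (hf : Function.Injective f) (M : Subgroup G) : (C.radOf M).map f = C.radOf (M.map f) := by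
  refine le_antisymm (C.map_radOf_le f M) ?_
  have h1 : C.radOf (M.map f) ≤ f.range := (C.radOf_le _).trans (map_le_range f M)
  rw [← map_comap_eq_self h1]
  refine map_mono (le_radOf ?_ ?_ ?_)
  · exact (comap_mono (C.radOf_le _)).trans (comap_map_eq_self_of_injective hf M).le
  · exact ((le_comap_map f M).trans (comap_mono (C.le_normalizer_radOf_self _))).trans
      (le_normalizer_comap f)
  · rw [← map_iff_of_injective hf, map_comap_eq_self h1]; exact C.radOf_P _

theorem cj_radOf (g : G) (M : Subgroup G) : cj(g, C.radOf M) = C.radOf cj(g, M) :=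
  C.map_radOf_of_injective (MulAut.conj g).injective M

theorem map_rad_of_injective {G' : Type u} [Group G'] [Finite G'] {f : G →* G'}
    (hf : Function.Injective f) : (C.rad G).map f = C.radOf f.range := by
  rw [← C.radOf_top, C.map_radOf_of_injective hf, MonoidHom.range_eq_map]

theorem map_rad_equiv {G' : Type u} [Group G'] (e : G ≃* G') :
    (C.rad G).map e.toMonoidHom = C.rad G' := by
  have : Finite G' := Finite.of_equiv G e.toEquiv
  rw [C.map_rad_of_injective e.injective, MonoidHom.range_eq_top.2 e.surjective, C.radOf_top]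

theorem map_rad_le {G' : Type u} [Group G'] {f : G →* G'} (hf : Function.Surjective f) :
    (C.rad G).map f ≤ C.rad G' := by
  have : Finite G' := Finite.of_surjective f hf
  rw [← C.radOf_top, ← C.radOf_top, ← map_top_of_surjective f hf]
  exact C.map_radOf_le f ⊤

instance rad_characteristic : (C.rad G).Characteristic :=
  characteristic_iff_map_eq.2 fun e => C.map_rad_equiv e

theorem map_subtype_radOf {K : Subgroup G} (M : Subgroup K) :
    (C.radOf M).map K.subtype = C.radOf (M.map K.subtype) :=
  C.map_radOf_of_injective K.subtype_injective M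

theorem map_subtype_radOf_subgroupOf {M K : Subgroup G} (h : M ≤ K) :
    (C.radOf (M.subgroupOf K)).map K.subtype = C.radOf M := by
  rw [map_subtype_radOf, map_subgroupOf_eq_of_le h]

theorem radOf_subgroupOf {M K : Subgroup G} (h : M ≤ K) :
    C.radOf (M.subgroupOf K) = (C.radOf M).subgroupOf K := by
  rw [← C.map_subtype_radOf_subgroupOf h, subgroupOf_map_subtype_self]

theorem normalizer_le_normalizer_radOf (M : Subgroup G) :
    normalizer (M : Set G) ≤ normalizer (C.radOf M : Set G) := fun g hg => by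
  rw [← cj_eq_self_iff, C.cj_radOf, cj_eq_self_iff.2 hg]

theorem le_normalizer_radOf {A M : Subgroup G} (h : A ≤ normalizer (M : Set G)) :
    A ≤ normalizer (C.radOf M : Set G) := h.trans (C.normalizer_le_normalizer_radOf M)

instance radOf_normal (M : Subgroup G) [M.Normal] : (C.radOf M).Normal :=
  normal_iff_top_le_normalizer.2
    (C.le_normalizer_radOf (normal_iff_top_le_normalizer.1 inferInstance))

omit [Finite G] in
theorem radOf_subnIn (M : Subgroup G) : SubnIn (C.radOf M) M :=
  SubnIn.of_normalizer (C.radOf_le M) (C.le_normalizer_radOf_self M)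

variable {C}

theorem radOf_le_radOf_of_subnIn {N M : Subgroup G} (h : SubnIn N M) :
    C.radOf N ≤ C.radOf M := by
  induction h with
  | refl => exact le_rfl
  | step H K M a b _ ih =>
    exact (le_radOf ((C.radOf_le H).trans a) (C.le_normalizer_radOf b) (C.radOf_P H)).trans ih

theorem le_radOf_of_subnIn {H M : Subgroup G} (h : SubnIn H M) (hH : C.P H) : H ≤ C.radOf M :=
  (radOf_eq_self hH).ge.trans (radOf_le_radOf_of_subnIn h)

theorem le_rad_of_isSubnormal {H : Subgroup G} (h : H.IsSubnormal) (hH : C.P H) : H ≤ C.rad G := by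
  rw [← C.radOf_top]; exact le_radOf_of_subnIn (SubnIn.of_isSubnormal h) hH

theorem radOf_inf_le {K M : Subgroup G} (h : K ≤ M) : C.radOf M ⊓ K ≤ C.radOf K :=
  le_radOf inf_le_right
    (le_normalizer_inf (h.trans (C.le_normalizer_radOf_self M)) le_normalizer)
    (to_le (C.radOf_P M) inf_le_left)

theorem rad_inf_le (K : Subgroup G) : C.rad G ⊓ K ≤ C.radOf K := by
  rw [← C.radOf_top]; exact radOf_inf_le le_top

theorem radOf_le_radOf_of_le {K M : Subgroup G} (h : K ≤ M) (h2 : C.radOf M ≤ K) :
    C.radOf M ≤ C.radOf K := (le_inf le_rfl h2).trans (radOf_inf_le h)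

theorem radOf_eq_inf_of_subnIn {N M : Subgroup G} (h : SubnIn N M) :
    C.radOf N = C.radOf M ⊓ N :=
  le_antisymm (le_inf (radOf_le_radOf_of_subnIn h) (C.radOf_le N)) (radOf_inf_le h.le)

theorem radOf_eq_inf_of_isSubnormal {N : Subgroup G} (h : N.IsSubnormal) :
    C.radOf N = C.rad G ⊓ N := by
  rw [← C.radOf_top]; exact radOf_eq_inf_of_subnIn (SubnIn.of_isSubnormal h)

theorem radOf_le_rad_of_isSubnormal {N : Subgroup G} (h : N.IsSubnormal) :
    C.radOf N ≤ C.rad G := by
  rw [radOf_eq_inf_of_isSubnormal h]; exact inf_le_left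

theorem radOf_radOf (M : Subgroup G) : C.radOf (C.radOf M) = C.radOf M :=
  radOf_eq_self (C.radOf_P M)

theorem radOf_mono_class {D : FClass.{u}} (h : ∀ (X : Type u) [Group X] [Finite X], C.P X → D.P X)
    (M : Subgroup G) : C.radOf M ≤ D.radOf M :=
  le_radOf (C.radOf_le M) (C.le_normalizer_radOf_self M) (h _ (C.radOf_P M))

/-- For an extension closed class the radical commutes with maps whose kernel is in the class. -/
theorem map_radOf_of_ext (hC : C.Ext) {G' : Type u} [Group G'] [Finite G'] (f : G →* G')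
    (M : Subgroup G) (hk : C.P (M ⊓ f.ker : Subgroup G)) :
    (C.radOf M).map f = C.radOf (M.map f) := by
  refine le_antisymm (C.map_radOf_le f M) ?_
  have h1 : ((C.radOf (M.map f)).comap f ⊓ M).map f = C.radOf (M.map f) := by
    apply le_antisymm
    · exact (map_mono inf_le_left).trans (map_comap_le _ _)
    · intro x hx
      obtain ⟨y, hy, rfl⟩ := C.radOf_le _ hx
      exact ⟨y, ⟨hx, hy⟩, rfl⟩
  rw [← h1]
  refine map_mono (le_radOf inf_le_right (le_normalizer_inf ?_ le_normalizer) ?_)
  · exact ((le_comap_map f M).trans (comap_mono (C.le_normalizer_radOf_self _))).trans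
      (le_normalizer_comap f)
  · refine of_map hC f (by rw [h1]; exact C.radOf_P _) (to_le hk ?_)
    exact inf_le_inf_right _ inf_le_right

theorem map_rad_of_ext (hC : C.Ext) {G' : Type u} [Group G'] {f : G →* G'}
    (hf : Function.Surjective f) (hk : C.P f.ker) : (C.rad G).map f = C.rad G' := by
  have : Finite G' := Finite.of_surjective f hf
  rw [← C.radOf_top, ← C.radOf_top, ← map_top_of_surjective f hf]
  exact map_radOf_of_ext hC f ⊤ (to_le hk inf_le_right)

theorem comap_rad_of_ext (hC : C.Ext) {G' : Type u} [Group G'] {f : G →* G'}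
    (hf : Function.Surjective f) (hk : C.P f.ker) : (C.rad G').comap f = C.rad G := by
  rw [← map_rad_of_ext hC hf hk, comap_map_eq, sup_eq_left]
  exact C.le_rad hk

theorem rad_quotient_rad (hC : C.Ext) : C.rad (G ⧸ C.rad G) = ⊥ := by
  rw [← map_rad_of_ext hC (QuotientGroup.mk'_surjective (C.rad G))
    (by rw [QuotientGroup.ker_mk']; exact C.rad_P G), Subgroup.map_eq_bot_iff,
    QuotientGroup.ker_mk']

omit [Finite G] in
theorem radOf_eq_bot_iff {M : Subgroup G} : C.radOf M = ⊥ ↔ C.rad M = ⊥ :=
  map_eq_bot_iff_of_injective _ M.subtype_injective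

theorem eq_bot_of_radOf_eq_bot {N M : Subgroup G} (h : C.radOf M = ⊥) (h1 : SubnIn N M)
    (h2 : C.P N) : N = ⊥ := le_bot_iff.1 (h ▸ le_radOf_of_subnIn h1 h2)

end FClass

/-! ### The standard classes -/

variable {G : Type u} [Group G]

theorem isNilpotent_sup_normal {X : Type*} [Group X] (A B : Subgroup X) [A.Normal] [B.Normal]
    (hA : Group.IsNilpotent A) (hB : Group.IsNilpotent B) :
    Group.IsNilpotent (A ⊔ B : Subgroup X) := by
  obtain ⟨c, hc⟩ := (isNilpotent_iff_lowerCentralSeries A).1 hA
  obtain ⟨d, hd⟩ := (isNilpotent_iff_lowerCentralSeries B).1 hB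
  let a : ℕ → Subgroup X := fun i => Nat.casesOn i ⊤ fun i => A.lowerCentralSeries i
  let b : ℕ → Subgroup X := fun i => Nat.casesOn i ⊤ fun i => B.lowerCentralSeries i
  have ha : ∀ i, ⁅a i, A⁆ ≤ a (i + 1) := by
    rintro (_ | i)
    · exact commutator_le_right _ _
    · exact le_rfl
  have hb : ∀ i, ⁅b i, B⁆ ≤ b (i + 1) := by
    rintro (_ | i)
    · exact commutator_le_right _ _
    · exact le_rfl
  have han : ∀ i, (a i).Normal := by
    rintro (_ | i)
    · exact normal_top
    · exact inferInstanceAs (A.lowerCentralSeries i).Normal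
  have hbn : ∀ i, (b i).Normal := by
    rintro (_ | i)
    · exact normal_top
    · exact inferInstanceAs (B.lowerCentralSeries i).Normal
  let T : ℕ → Subgroup X := fun n => ⨆ i : Fin (n + 1), a i ⊓ b (n - i)
  have hTn : ∀ n, (T n).Normal := fun n => @Subgroup.iSup_normal _ _ _ _ fun i => @Subgroup.normal_inf_normal _ _ _ _ (han _) (hbn _)
  have key : ∀ n, (A ⊔ B).lowerCentralSeries n ≤ T n := by
    intro n
    induction n with
    | zero => exact le_trans (le_inf le_top le_top) (le_iSup (fun i : Fin 1 => a i ⊓ b (0 - i)) 0)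
    | succ n ih =>
      rw [Subgroup.lowerCentralSeries_succ]
      refine (commutator_mono ih le_rfl).trans ?_
      have hN : ∀ K : Subgroup X, K ≤ normalizer (T (n + 1) : Set X) := fun K => by
        rw [normalizer_eq_top]; exact le_top
      refine commutator_iSup_left_le (fun _ => hN _) fun i => commutator_sup_right_le (hN _) (hN _)
        ?_ ?_
      · refine le_trans ?_ (le_iSup (fun i : Fin (n + 2) => a i ⊓ b (n + 1 - i)) i.succ)
        refine le_inf ((commutator_mono inf_le_left le_rfl).trans (ha i)) ?_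
        rw [Fin.val_succ, Nat.add_sub_add_right]
        exact (commutator_mono inf_le_right le_rfl).trans (@commutator_le_left _ _ _ _ (hbn _))
      · refine le_trans ?_ (le_iSup (fun i : Fin (n + 2) => a i ⊓ b (n + 1 - i)) i.castSucc)
        refine le_inf ((commutator_mono inf_le_left le_rfl).trans
          (@commutator_le_left _ _ _ _ (han _))) ?_
        rw [Fin.val_castSucc, Nat.succ_sub (Nat.le_of_lt_succ i.2)]
        exact (commutator_mono inf_le_right le_rfl).trans (hb _)
  refine (isNilpotent_iff_lowerCentralSeries _).2 ⟨c + d + 1, le_bot_iff.1 ((key _).trans ?_)⟩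
  refine iSup_le fun i => ?_
  by_cases hi : c + 1 ≤ i
  · obtain ⟨j, hj⟩ : ∃ j, (i : ℕ) = j + 1 := ⟨i - 1, by omega⟩
    refine inf_le_left.trans ?_
    rw [hj, ← hc]
    exact A.lowerCentralSeries_antitone (by omega)
  · obtain ⟨j, hj⟩ : ∃ j, c + d + 1 - (i : ℕ) = j + 1 := ⟨c + d - i, by omega⟩
    refine inf_le_right.trans ?_
    rw [hj, ← hd]
    exact B.lowerCentralSeries_antitone (by omega)

theorem card_dvd_of_normal_sup {X : Type*} [Group X] (A B : Subgroup X) [B.Normal] :
    Nat.card (A ⊔ B : Subgroup X) ∣ Nat.card A * Nat.card B :=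
  card_sup_dvd (by rw [normalizer_eq_top]; exact le_top)

/-- `p`-groups. -/
def pCl (p : ℕ) : FClass.{u} where
  P X _ := IsPGroup p X
  of_injective f hf h := h.of_injective f hf
  of_surjective f hf h := h.of_surjective f hf
  of_subsingleton _ _ _ := IsPGroup.of_subsingleton _ _
  sup_normal _ _ _ _ hA hB := hA.to_sup_of_normal_right hB

/-- Groups of order prime to `p`. -/
def ppCl (p : ℕ) : FClass.{u} where
  P X _ := (Nat.card X).Coprime p
  of_injective f hf h := h.coprime_dvd_left (card_dvd_of_injective f hf)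
  of_surjective f hf h := h.coprime_dvd_left (card_dvd_of_surjective f hf)
  of_subsingleton X _ _ := by rw [Nat.card_unique]; exact Nat.coprime_one_left p
  sup_normal A B _ _ hA hB := (hA.mul_left hB).coprime_dvd_left (card_dvd_of_normal_sup A B)

/-- `π`-groups. -/
def piCl (π : Set ℕ) : FClass.{u} where
  P X _ := ∀ p : ℕ, p.Prime → p ∣ Nat.card X → p ∈ π
  of_injective f hf h p hp hd := h p hp (hd.trans (card_dvd_of_injective f hf))
  of_surjective f hf h p hp hd := h p hp (hd.trans (card_dvd_of_surjective f hf))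
  of_subsingleton X _ _ p hp hd := by
    rw [Nat.card_unique] at hd; exact absurd (Nat.dvd_one.1 hd) hp.ne_one
  sup_normal A B _ _ hA hB p hp hd :=
    ((Nat.Prime.dvd_mul hp).1 (hd.trans (card_dvd_of_normal_sup A B))).elim (hA p hp) (hB p hp)

/-- Nilpotent groups. -/
def nilCl : FClass.{u} where
  P X _ := Group.IsNilpotent X
  of_injective _ hf _ := Group.nilpotent_of_mulEquiv (MonoidHom.ofInjective hf).symm
  of_surjective f hf _ := Group.nilpotent_of_surjective f hf
  of_subsingleton _ _ _ := inferInstance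
  sup_normal A B _ _ hA hB := isNilpotent_sup_normal A B hA hB

/-- Solvable groups. -/
def solCl : FClass.{u} where
  P X _ := Group.IsSolvable X
  of_injective _ hf _ := Group.isSolvable_of_isSolvable_injective hf
  of_surjective _ hf _ := Group.isSolvable_of_surjective hf
  of_subsingleton _ _ _ := inferInstance
  sup_normal _ _ _ _ hA hB := isSolvable_sup (by rw [normalizer_eq_top]; exact le_top) hA hB

theorem pCl_ext (p : ℕ) : (pCl.{u} p).Ext := by
  intro X _ _ N _ h1 h2
  have : IsPGroup p ((⊤ : Subgroup (X ⧸ N)).comap (QuotientGroup.mk' N)) :=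
    IsPGroup.comap_of_ker_isPGroup (h2.to_subgroup ⊤) _ (by rw [QuotientGroup.ker_mk']; exact h1)
  rw [comap_top] at this
  exact this.of_equiv topEquiv

theorem ppCl_ext (p : ℕ) : (ppCl.{u} p).Ext := by
  intro X _ _ N _ h1 h2
  change (Nat.card X).Coprime p
  rw [card_eq_card_quotient_mul_card_subgroup N]
  exact Nat.Coprime.mul_left h2 h1

theorem piCl_ext (π : Set ℕ) : (piCl.{u} π).Ext := by
  intro X _ _ N _ h1 h2 p hp hd
  rw [card_eq_card_quotient_mul_card_subgroup N] at hd
  exact ((Nat.Prime.dvd_mul hp).1 hd).elim (h2 p hp) (h1 p hp)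

theorem solCl_ext : solCl.{u}.Ext := by
  intro X _ _ N _ h1 h2
  exact (Group.isSolvable_iff_subgroup_quotient N).2 ⟨h1, h2⟩

/-- `O_p(M)` in the ambient group. -/
abbrev Op (p : ℕ) (M : Subgroup G) : Subgroup G := (pCl p).radOf M
/-- `O_{p'}(M)` in the ambient group. -/
abbrev Opp (p : ℕ) (M : Subgroup G) : Subgroup G := (ppCl p).radOf M
/-- `F(M)` in the ambient group. -/
abbrev Fit (M : Subgroup G) : Subgroup G := nilCl.radOf M
/-- The solvable radical of `M` in the ambient group. -/
abbrev Sol (M : Subgroup G) : Subgroup G := solCl.radOf M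

theorem pCore_eq (p : ℕ) : pCore p G = (pCl p).rad G := rfl
theorem pPrimeCore_eq (p : ℕ) : pPrimeCore p G = (ppCl p).rad G := rfl
theorem fitting_eq : fittingSubgroup G = nilCl.rad G := rfl
theorem map_pCore (p : ℕ) (M : Subgroup G) : (pCore p M).map M.subtype = Op p M := rfl
theorem map_pPrimeCore (p : ℕ) (M : Subgroup G) : (pPrimeCore p M).map M.subtype = Opp p M := rfl
theorem map_fitting (M : Subgroup G) : (fittingSubgroup M).map M.subtype = Fit M := rfl

instance fitting_normal : (fittingSubgroup G).Normal := nilCl.rad_normal G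

variable [Finite G]

theorem Op_top (p : ℕ) : Op p (⊤ : Subgroup G) = pCore p G := (pCl p).radOf_top
theorem Opp_top (p : ℕ) : Opp p (⊤ : Subgroup G) = pPrimeCore p G := (ppCl p).radOf_top
theorem Fit_top : Fit (⊤ : Subgroup G) = fittingSubgroup G := nilCl.radOf_top

theorem isPGroup_Op (p : ℕ) (M : Subgroup G) : IsPGroup p (Op p M) := (pCl p).radOf_P M
theorem coprime_Opp (p : ℕ) (M : Subgroup G) : (Nat.card (Opp p M)).Coprime p := (ppCl p).radOf_P M
theorem isNilpotent_Fit (M : Subgroup G) : Group.IsNilpotent (Fit M) := nilCl.radOf_P M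
theorem isSolvable_Sol (M : Subgroup G) : Group.IsSolvable (Sol M) := solCl.radOf_P M
theorem isPGroup_pCore (p : ℕ) : IsPGroup p (pCore p G) := (pCl p).rad_P G
theorem coprime_pPrimeCore (p : ℕ) : (Nat.card (pPrimeCore p G)).Coprime p := (ppCl p).rad_P G
theorem isNilpotent_fitting : Group.IsNilpotent (fittingSubgroup G) := nilCl.rad_P G

theorem le_Op {p : ℕ} {N M : Subgroup G} (h1 : N ≤ M) (h2 : M ≤ normalizer (N : Set G))
    (h : IsPGroup p N) : N ≤ Op p M := FClass.le_radOf h1 h2 h
theorem le_Opp {p : ℕ} {N M : Subgroup G} (h1 : N ≤ M) (h2 : M ≤ normalizer (N : Set G))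
    (h : (Nat.card N).Coprime p) : N ≤ Opp p M := FClass.le_radOf h1 h2 h
theorem le_Fit {N M : Subgroup G} (h1 : N ≤ M) (h2 : M ≤ normalizer (N : Set G))
    (h : Group.IsNilpotent N) : N ≤ Fit M := FClass.le_radOf h1 h2 h
theorem le_Sol {N M : Subgroup G} (h1 : N ≤ M) (h2 : M ≤ normalizer (N : Set G))
    (h : Group.IsSolvable N) : N ≤ Sol M := FClass.le_radOf h1 h2 h
theorem SubnIn.le_Op {p : ℕ} {N M : Subgroup G} (h1 : SubnIn N M)
    (h : IsPGroup p N) : N ≤ Op p M := FClass.le_radOf_of_subnIn h1 h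
theorem SubnIn.le_Opp {p : ℕ} {N M : Subgroup G} (h1 : SubnIn N M)
    (h : (Nat.card N).Coprime p) : N ≤ Opp p M := FClass.le_radOf_of_subnIn h1 h
theorem SubnIn.le_Fit {N M : Subgroup G} (h1 : SubnIn N M)
    (h : Group.IsNilpotent N) : N ≤ Fit M := FClass.le_radOf_of_subnIn h1 h
theorem SubnIn.le_Sol {N M : Subgroup G} (h1 : SubnIn N M)
    (h : Group.IsSolvable N) : N ≤ Sol M := FClass.le_radOf_of_subnIn h1 h

omit [Finite G] in
theorem le_pCore {p : ℕ} {N : Subgroup G} [N.Normal] (h : IsPGroup p N) : N ≤ pCore p G :=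
  (pCl p).le_rad h
omit [Finite G] in
theorem le_pPrimeCore {p : ℕ} {N : Subgroup G} [N.Normal] (h : (Nat.card N).Coprime p) :
    N ≤ pPrimeCore p G := (ppCl p).le_rad h
omit [Finite G] in
theorem le_fitting {N : Subgroup G} [N.Normal] (h : Group.IsNilpotent N) :
    N ≤ fittingSubgroup G := nilCl.le_rad h

theorem Op_le_Fit (p : ℕ) [Fact p.Prime] (M : Subgroup G) : Op p M ≤ Fit M :=
  FClass.radOf_mono_class (fun _ _ _ h => IsPGroup.isNilpotent h) M

theorem Fit_le_Sol (M : Subgroup G) : Fit M ≤ Sol M :=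
  FClass.radOf_mono_class (fun X _ _ (_ : Group.IsNilpotent X) =>
    (inferInstance : Group.IsSolvable X)) M

theorem coprime_of_isPGroup {p : ℕ} {A B : Subgroup G} (hA : IsPGroup p A)
    (hB : (Nat.card B).Coprime p) : (Nat.card A).Coprime (Nat.card B) := by
  obtain ⟨n, hn⟩ := isPGroup_iff_card_dvd_pow.1 hA
  exact (Nat.Coprime.pow_right n hB).symm.coprime_dvd_left hn

theorem eq_bot_of_isPGroup_of_coprime {p : ℕ} {A : Subgroup G} (hA : IsPGroup p A)
    (hB : (Nat.card A).Coprime p) : A = ⊥ :=
  eq_bot_of_le_of_coprime le_rfl le_rfl (coprime_of_isPGroup hA hB)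

theorem inf_eq_bot_of_isPGroup {p : ℕ} {A B : Subgroup G} (hA : IsPGroup p A)
    (hB : (Nat.card B).Coprime p) : A ⊓ B = ⊥ := eq_bot_of_coprime (coprime_of_isPGroup hA hB)

theorem Op_inf_Opp (p : ℕ) (M : Subgroup G) : Op p M ⊓ Opp p M = ⊥ :=
  inf_eq_bot_of_isPGroup (isPGroup_Op p M) (coprime_Opp p M)

omit [Finite G] in
/-- Mutually normalizing subgroups with trivial intersection commute. -/
theorem commutator_eq_bot_of_inf_eq_bot {A B : Subgroup G} (h1 : A ≤ normalizer (B : Set G))
    (h2 : B ≤ normalizer (A : Set G)) (h : A ⊓ B = ⊥) : ⁅A, B⁆ = ⊥ :=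
  le_bot_iff.1 (h ▸ le_inf (commutator_le_left_of_le_normalizer h2)
    (commutator_le_right_of_le_normalizer h1))

theorem Op_le_centralizer_Opp (p : ℕ) (M : Subgroup G) :
    Op p M ≤ centralizer (Opp p M : Set G) :=
  commutator_eq_bot_iff_le_centralizer.1 (commutator_eq_bot_of_inf_eq_bot
    ((FClass.radOf_le _ M).trans (FClass.le_normalizer_radOf_self _ M))
    ((FClass.radOf_le _ M).trans (FClass.le_normalizer_radOf_self _ M)) (Op_inf_Opp p M))

end Cfsg.Agent.Comp
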