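/-
Sylow subgroups of a subgroup, seen in the ambient group; structure of nilpotent subgroups.
-/
import Cfsg.Agent.Lib.Comp.Rad

set_option autoImplicit false

namespace Cfsg.Agent.Comp

open Subgroup

universe u

section
variable {G : Type*} [Group G]

/-- `P` is a Sylow `p`-subgroup of `M`: a maximal `p`-subgroup of `M`. -/
structure SylIn (p : ℕ) (P M : Subgroup G) : Prop where
  le : P ≤ M
  isP : IsPGroup p P
  max : ∀ Q : Subgroup G, IsPGroup p Q → P ≤ Q → Q ≤ M → Q = P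

variable {p : ℕ}

theorem isPGroup_map_subtype_iff {M : Subgroup G} {P : Subgroup M} :
    IsPGroup p (P.map M.subtype) ↔ IsPGroup p P :=
  ⟨fun h => h.of_equiv (equivMapOfInjective P _ M.subtype_injective).symm, fun h => h.map _⟩

theorem isPGroup_cj_iff {P : Subgroup G} {g : G} : IsPGroup p cj(g, P) ↔ IsPGroup p P :=
  ⟨fun h => h.of_equiv (cjEquiv g P).symm, fun h => h.map _⟩

theorem sylIn_sylow {M : Subgroup G} (S : Sylow p M) :
    SylIn p ((S : Subgroup M).map M.subtype) M := by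
  refine ⟨map_subtype_le _, S.isPGroup'.map _, fun Q h1 h2 h3 => ?_⟩
  have := S.is_maximal' (h1.comap_subtype (K := M)) (map_subtype_le_iff.1 h2)
  rw [← this, comap_subtype, map_subgroupOf_eq_of_le h3]

theorem sylIn_top (S : Sylow p G) : SylIn p (S : Subgroup G) ⊤ :=
  ⟨le_top, S.isPGroup', fun _ h1 h2 _ => S.is_maximal' h1 h2⟩

theorem sylIn_of_sylow_le (S : Sylow p G) {M : Subgroup G} (h : (S : Subgroup G) ≤ M) :
    SylIn p (S : Subgroup G) M :=
  ⟨h, S.isPGroup', fun _ h1 h2 _ => S.is_maximal' h1 h2⟩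

namespace SylIn

variable {P Q M : Subgroup G}

/-- The Sylow subgroup of `M` given by `SylIn`. -/
def toSylow (h : SylIn p P M) : Sylow p M where
  toSubgroup := P.subgroupOf M
  isPGroup' := h.isP.comap_subtype
  is_maximal' := by
    intro Q h1 h2
    rw [← h.max (Q.map M.subtype) (h1.map _) (le_map_subtype_iff.2 ⟨h.le, h2⟩) (map_subtype_le _),
      subgroupOf_map_subtype_self]

theorem coe_toSylow (h : SylIn p P M) : (h.toSylow : Subgroup M) = P.subgroupOf M := rfl

theorem map_toSylow (h : SylIn p P M) : (h.toSylow : Subgroup M).map M.subtype = P :=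
  map_subgroupOf_eq_of_le h.le

theorem exists_sylow (h : SylIn p P M) : ∃ S : Sylow p M, (S : Subgroup M).map M.subtype = P :=
  ⟨h.toSylow, h.map_toSylow⟩

/-- The Sylow subgroup of the ambient group given by `SylIn _ _ ⊤`. -/
def toSylowTop (h : SylIn p P ⊤) : Sylow p G where
  toSubgroup := P
  isPGroup' := h.isP
  is_maximal' := fun h1 h2 => h.max _ h1 h2 le_top

theorem of_le {K : Subgroup G} (h : SylIn p P M) (h1 : P ≤ K) (h2 : K ≤ M) : SylIn p P K :=
  ⟨h1, h.isP, fun Q a b c => h.max Q a b (c.trans h2)⟩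

theorem le_of_normalizer (h : SylIn p P M) (hQ : IsPGroup p Q) (h1 : Q ≤ M)
    (h2 : Q ≤ normalizer (P : Set G)) : Q ≤ P :=
  le_sup_left.trans (h.max (Q ⊔ P) (hQ.to_sup_of_normal_right' h.isP h2) le_sup_right
    (sup_le h1 h.le)).le

theorem le_of_normalizer' (h : SylIn p P M) (hQ : IsPGroup p Q) (h1 : Q ≤ M)
    (h2 : P ≤ normalizer (Q : Set G)) : Q ≤ P :=
  le_sup_right.trans (h.max (P ⊔ Q) (h.isP.to_sup_of_normal_right' hQ h2) le_sup_left
    (sup_le h.le h1)).le

theorem map_of_injective {G' : Type*} [Group G'] {f : G →* G'} (hf : Function.Injective f)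
    (h : SylIn p P M) : SylIn p (P.map f) (M.map f) := by
  refine ⟨map_mono h.le, h.isP.map f, fun Q a b c => ?_⟩
  have := h.max (Q.comap f) (a.comap_of_injective f hf) (map_le_iff_le_comap.1 b)
    ((comap_mono c).trans (comap_map_eq_self_of_injective hf M).le)
  rw [← this, map_comap_eq_self (c.trans (map_le_range f M))]

theorem cj (h : SylIn p P M) (g : G) : SylIn p cj(g, P) cj(g, M) :=
  h.map_of_injective (MulAut.conj g).injective

theorem cj_of_mem (h : SylIn p P M) {g : G} (hg : g ∈ normalizer (M : Set G)) :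
    SylIn p cj(g, P) M := by
  have := h.cj g
  rwa [cj_eq_self_iff.2 hg] at this

theorem subgroupOf {K : Subgroup G} (h : SylIn p P M) (hK : M ≤ K) :
    SylIn p (P.subgroupOf K) (M.subgroupOf K) := by
  refine ⟨subgroupOf_mono K h.le, h.isP.comap_subtype, fun Q a b c => ?_⟩
  rw [← h.max (Q.map K.subtype) (a.map _) (le_map_subtype_iff.2 ⟨h.le.trans hK, b⟩)
    (map_subtype_le_iff.2 c), subgroupOf_map_subtype_self]

end SylIn

theorem exists_sylIn_ge {Q M : Subgroup G} (hQ : IsPGroup p Q) (h : Q ≤ M) :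
    ∃ P, Q ≤ P ∧ SylIn p P M := by
  obtain ⟨S, hS⟩ := (hQ.comap_subtype (K := M)).exists_le_sylow
  exact ⟨_, le_map_subtype_iff.2 ⟨h, hS⟩, sylIn_sylow S⟩

theorem exists_sylIn (p : ℕ) (M : Subgroup G) : ∃ P, SylIn p P M := by
  obtain ⟨P, -, h⟩ := exists_sylIn_ge (IsPGroup.of_bot (p := p)) (bot_le : ⊥ ≤ M)
  exact ⟨P, h⟩

theorem sylIn_self {P : Subgroup G} (h : IsPGroup p P) : SylIn p P P :=
  ⟨le_rfl, h, fun _ _ a b => le_antisymm b a⟩

variable [Finite G] [hp : Fact p.Prime]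

namespace SylIn

variable {P Q M : Subgroup G}

theorem not_dvd_relIndex (h : SylIn p P M) : ¬ p ∣ P.relIndex M := h.toSylow.not_dvd_index

theorem card_eq (h : SylIn p P M) : Nat.card P = p ^ (Nat.card M).factorization p := by
  rw [← h.toSylow.card_eq_multiplicity, ← card_subgroupOf h.le]; rfl

theorem card_eq_card (h : SylIn p P M) (h' : SylIn p Q M) : Nat.card P = Nat.card Q := by
  rw [h.card_eq, h'.card_eq]

theorem exists_cj_eq (h : SylIn p P M) (h' : SylIn p Q M) : ∃ g ∈ M, cj(g, P) = Q := by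
  obtain ⟨g, hg⟩ := MulAction.exists_smul_eq M h.toSylow h'.toSylow
  refine ⟨g, g.2, ?_⟩
  have := congrArg (fun S : Sylow p M => (S : Subgroup M).map M.subtype) hg
  simp only [h'.map_toSylow] at this
  rw [← this, Sylow.coe_subgroup_smul, ← cj_smul, map_cj, h.map_toSylow]; rfl

theorem exists_cj_le (h : SylIn p P M) (hQ : IsPGroup p Q) (h' : Q ≤ M) :
    ∃ g ∈ M, cj(g, Q) ≤ P := by
  obtain ⟨R, h1, h2⟩ := exists_sylIn_ge hQ h'
  obtain ⟨g, hg, e⟩ := h2.exists_cj_eq h
  exact ⟨g, hg, e ▸ cj_mono g h1⟩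

theorem exists_le_cj (h : SylIn p P M) (hQ : IsPGroup p Q) (h' : Q ≤ M) :
    ∃ g ∈ M, Q ≤ cj(g, P) := by
  obtain ⟨g, hg, e⟩ := h.exists_cj_le hQ h'
  exact ⟨g⁻¹, inv_mem hg, cj_le_iff.1 e⟩

theorem card_le (h : SylIn p P M) (hQ : IsPGroup p Q) (h' : Q ≤ M) : Nat.card Q ≤ Nat.card P := by
  obtain ⟨g, -, e⟩ := h.exists_cj_le hQ h'
  rw [← card_cj g Q]; exact card_le_of_le e

theorem card_dvd (h : SylIn p P M) (hQ : IsPGroup p Q) (h' : Q ≤ M) : Nat.card Q ∣ Nat.card P := by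
  obtain ⟨g, -, e⟩ := h.exists_cj_le hQ h'
  rw [← card_cj g Q]; exact card_dvd_of_le e

theorem of_card_le (h : SylIn p P M) (hQ : IsPGroup p Q) (h' : Q ≤ M)
    (hc : Nat.card P ≤ Nat.card Q) : SylIn p Q M :=
  ⟨h', hQ, fun _ a b c => (eq_of_le_of_card_ge b ((h.card_le a c).trans hc)).symm⟩

end SylIn

theorem sylIn_of_not_dvd {P M : Subgroup G} (h1 : P ≤ M) (h2 : IsPGroup p P)
    (h3 : ¬ p ∣ P.relIndex M) : SylIn p P M := by
  refine ⟨h1, h2, fun Q a b c => ?_⟩
  obtain ⟨n, hn⟩ := a.index (P.subgroupOf Q)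
  have hd : P.relIndex Q ∣ P.relIndex M := Dvd.intro _ (relIndex_mul_relIndex P Q M b c)
  rw [relIndex, hn] at hd
  rcases n with _ | n
  · exact le_antisymm (subgroupOf_eq_top.1 (index_eq_one.1 (by simpa using hn))) b
  · exact absurd ((Dvd.intro_left _ (pow_succ p n).symm).trans hd) h3

theorem sylIn_iff {P M : Subgroup G} :
    SylIn p P M ↔ P ≤ M ∧ IsPGroup p P ∧ ¬ p ∣ P.relIndex M :=
  ⟨fun h => ⟨h.le, h.isP, h.not_dvd_relIndex⟩, fun h => sylIn_of_not_dvd h.1 h.2.1 h.2.2⟩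

namespace SylIn

variable {P Q M : Subgroup G}

theorem trans_of_not_dvd {K : Subgroup G} (h : SylIn p P M) (hK : M ≤ K) (hd : ¬ p ∣ M.relIndex K) :
    SylIn p P K := by
  refine sylIn_of_not_dvd (h.le.trans hK) h.isP ?_
  rw [← relIndex_mul_relIndex P M K h.le hK, hp.out.dvd_mul]
  exact fun h' => h'.elim h.not_dvd_relIndex hd

theorem not_dvd_relIndex_of_le {K : Subgroup G} (h : SylIn p P M) (h1 : P ≤ K) (h2 : K ≤ M) :
    ¬ p ∣ K.relIndex M := fun hd => h.not_dvd_relIndex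
  (hd.trans (Dvd.intro_left _ (relIndex_mul_relIndex P K M h1 h2)))

theorem inf_normal {N : Subgroup G} (h : SylIn p P M) (h1 : N ≤ M)
    (h2 : P ≤ normalizer (N : Set G)) : SylIn p (P ⊓ N) N := by
  refine sylIn_of_not_dvd inf_le_right h.isP.to_inf_left fun hd => ?_
  have h3 := (h.of_le le_sup_left (sup_le h.le h1)).not_dvd_relIndex
  apply h3
  have e1 := card_sup_mul_card_inf h2
  have e2 := relIndex_mul_card (inf_le_right : P ⊓ N ≤ N)
  have e3 := relIndex_mul_card (le_sup_left : P ≤ P ⊔ N)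
  have : P.relIndex (P ⊔ N) = (P ⊓ N).relIndex N := by
    have hpos : 0 < Nat.card P * Nat.card (P ⊓ N : Subgroup G) := Nat.mul_pos Nat.card_pos Nat.card_pos
    apply Nat.eq_of_mul_eq_mul_right hpos
    rw [← mul_assoc, e3, e1, mul_left_comm, e2]
  rwa [this]

theorem inf_subnIn {N : Subgroup G} (h : SylIn p P M) (h1 : SubnIn N M) : SylIn p (P ⊓ N) N := by
  induction h1 with
  | refl => rw [inf_eq_left.2 h.le]; exact h
  | step H K M a b _ ih =>
    have := (ih h).inf_normal a (inf_le_right.trans b)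
    rwa [inf_assoc, inf_eq_right.2 a] at this

theorem map {G' : Type*} [Group G'] (f : G →* G') (h : SylIn p P M) :
    SylIn p (P.map f) (M.map f) := by
  have := sylIn_sylow (h.toSylow.mapSurjective (f.subgroupMap_surjective M))
  convert this using 1
  rw [Sylow.coe_mapSurjective, map_map]
  conv_lhs => rw [← h.map_toSylow, map_map]
  congr 1

/-- The Frattini argument. -/
theorem frattini {N : Subgroup G} (h : SylIn p P N) (h1 : N ≤ M) (h2 : M ≤ normalizer (N : Set G)) :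
    N ⊔ (M ⊓ normalizer (P : Set G)) = M := by
  refine le_antisymm (sup_le h1 inf_le_left) fun g hg => ?_
  obtain ⟨n, hn, e⟩ := (h.cj_of_mem (h2 hg)).exists_cj_eq h
  rw [← cj_mul, cj_eq_self_iff] at e
  have : g = n⁻¹ * (n * g) := by group
  rw [this]
  exact mul_mem (mem_sup_left (inv_mem hn)) (mem_sup_right ⟨mul_mem (h1 hn) hg, e⟩)

theorem eq_bot_iff (h : SylIn p P M) : P = ⊥ ↔ ¬ p ∣ Nat.card M := by
  constructor
  · rintro rfl
    have := h.not_dvd_relIndex
    rwa [relIndex_bot_left] at this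
  · intro hd
    refine eq_bot_of_le_of_coprime le_rfl h.le ?_
    obtain ⟨n, hn⟩ := h.isP.exists_card_eq
    rw [hn]
    exact Nat.Coprime.pow_left _ ((Nat.Prime.coprime_iff_not_dvd hp.out).2 hd)

omit [Finite G] hp in
theorem eq_of_le (h : SylIn p P M) (h' : SylIn p Q M) (hle : P ≤ Q) : P = Q :=
  (h.max Q h'.isP hle h'.le).symm

/-- A Sylow subgroup of `N_M(Q)`-type argument: if `P` is Sylow in `M ⊓ N(P)`-larger groups. -/
theorem of_normalizer (h1 : P ≤ M) (h : SylIn p P (M ⊓ normalizer (P : Set G))) : SylIn p P M := by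
  refine ⟨h1, h.isP, fun Q a b c => ?_⟩
  by_contra hne
  have := lt_inf_normalizer_of_isPGroup a (lt_of_le_of_ne b (Ne.symm hne))
  exact this.ne' (h.max _ a.to_inf_left this.le (inf_le_inf_right _ c))

end SylIn

omit hp in
/-- A subgroup containing a Sylow subgroup for every prime is everything. -/
theorem eq_of_forall_sylIn {H M : Subgroup G} (h : H ≤ M)
    (hs : ∀ q : ℕ, q.Prime → q ∣ Nat.card M → ∃ P, SylIn q P M ∧ P ≤ H) : H = M := by
  by_contra hne
  have h1 : H.relIndex M ≠ 1 := fun h1 => hne (le_antisymm h (relIndex_eq_one.1 h1))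
  obtain ⟨q, hq, hd⟩ := Nat.exists_prime_and_dvd h1
  have : Fact q.Prime := ⟨hq⟩
  obtain ⟨P, hP, hPH⟩ := hs q hq (hd.trans (Dvd.intro _ (relIndex_mul_card h)))
  exact hP.not_dvd_relIndex_of_le hPH h hd

omit hp in
theorem exists_prime_order_mem {H : Subgroup G} (h : H ≠ ⊥) :
    ∃ x ∈ H, (orderOf x).Prime := by
  have h1 : Nat.card H ≠ 1 := fun h1 => h (eq_bot_of_card_eq H h1)
  obtain ⟨q, hq, hd⟩ := Nat.exists_prime_and_dvd h1
  have : Fact q.Prime := ⟨hq⟩
  obtain ⟨x, hx⟩ := exists_prime_orderOf_dvd_card' q hd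
  exact ⟨x, x.2, by rw [orderOf_coe, hx]; exact hq⟩

theorem exists_mem_orderOf_eq {H : Subgroup G} (h : p ∣ Nat.card H) : ∃ x ∈ H, orderOf x = p := by
  obtain ⟨x, hx⟩ := exists_prime_orderOf_dvd_card' p h
  exact ⟨x, x.2, by rw [orderOf_coe, hx]⟩

omit [Finite G] in
theorem dvd_card_of_isPGroup {H : Subgroup G} (h : IsPGroup p H) (hne : H ≠ ⊥) :
    p ∣ Nat.card H :=
  h.card_eq_or_dvd.resolve_left fun h1 => hne (eq_bot_of_card_eq H h1)

omit hp [Finite G] in
theorem isPGroup_zpowers {x : G} {n : ℕ} (h : x ^ p ^ n = 1) : IsPGroup p (zpowers x) := by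
  rintro ⟨_, k, rfl⟩
  refine ⟨n, Subtype.ext ?_⟩
  change (x ^ k) ^ p ^ n = 1
  rw [← zpow_natCast, ← zpow_mul, mul_comm, zpow_mul, zpow_natCast, h, one_zpow]

omit hp [Finite G] in
theorem isPGroup_zpowers_of_orderOf {x : G} {n : ℕ} (h : orderOf x = p ^ n) :
    IsPGroup p (zpowers x) := isPGroup_zpowers (n := n) (h ▸ pow_orderOf_eq_one x)

omit hp [Finite G] in
theorem isPGroup_zpowers_of_orderOf_eq {x : G} (h : orderOf x = p) :
    IsPGroup p (zpowers x) := isPGroup_zpowers_of_orderOf (n := 1) (by rw [h, pow_one])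

omit hp [Finite G] in
theorem IsPGroup.exists_pow_eq_one {H : Subgroup G} (h : IsPGroup p H) {x : G} (hx : x ∈ H) :
    ∃ n, x ^ p ^ n = 1 := by
  obtain ⟨n, hn⟩ := h ⟨x, hx⟩
  exact ⟨n, congrArg Subtype.val hn⟩

omit hp [Finite G] in
theorem isPGroup_of_forall {H : Subgroup G} (h : ∀ x ∈ H, ∃ n, x ^ p ^ n = 1) : IsPGroup p H :=
  fun x => (h x x.2).imp fun _ hn => Subtype.ext hn

theorem coprime_iff_not_dvd {n : ℕ} : n.Coprime p ↔ ¬ p ∣ n := by
  rw [Nat.coprime_comm, hp.out.coprime_iff_not_dvd]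

end

variable {G : Type u} [Group G] [Finite G] {p : ℕ}

theorem SylIn.Op_le {P M : Subgroup G} (h : SylIn p P M) : Op p M ≤ P :=
  h.le_of_normalizer' (isPGroup_Op p M) (FClass.radOf_le _ M)
    (h.le.trans (FClass.le_normalizer_radOf_self _ M))

theorem SylIn.eq_Op {P M : Subgroup G} (h : SylIn p P M) (hn : M ≤ normalizer (P : Set G)) :
    P = Op p M := le_antisymm (le_Op h.le hn h.isP) h.Op_le

theorem sylIn_Op_of_isNilpotent [Fact p.Prime] {M : Subgroup G} (hM : Group.IsNilpotent M) :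
    SylIn p (Op p M) M := by
  obtain ⟨P, hP⟩ := exists_sylIn p M
  have h1 : (hP.toSylow : Subgroup M).Normal := inferInstance
  rw [normal_iff_map_subtype, hP.map_toSylow] at h1
  rw [← hP.eq_Op h1]; exact hP

theorem le_Op_of_isNilpotent [Fact p.Prime] {Q M : Subgroup G} (hM : Group.IsNilpotent M)
    (h1 : Q ≤ M) (h2 : IsPGroup p Q) : Q ≤ Op p M :=
  (subnIn_of_isNilpotent hM h1).le_Op h2

theorem le_Opp_of_isNilpotent {Q M : Subgroup G} (hM : Group.IsNilpotent M)
    (h1 : Q ≤ M) (h2 : (Nat.card Q).Coprime p) : Q ≤ Opp p M :=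
  (subnIn_of_isNilpotent hM h1).le_Opp h2

theorem coprime_of_isPGroup_of_ne {q : ℕ} [Fact p.Prime] [Fact q.Prime] (h : q ≠ p)
    {Q : Subgroup G} (hQ : IsPGroup q Q) : (Nat.card Q).Coprime p := by
  obtain ⟨n, hn⟩ := hQ.exists_card_eq
  rw [hn]
  exact Nat.Coprime.pow_left _ ((Nat.coprime_primes Fact.out Fact.out).2 h)

theorem Op_le_Opp {q : ℕ} [Fact p.Prime] [Fact q.Prime] (h : q ≠ p) (M : Subgroup G) :
    Op q M ≤ Opp p M :=
  le_Opp (FClass.radOf_le _ M) (FClass.le_normalizer_radOf_self _ M)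
    (coprime_of_isPGroup_of_ne h (isPGroup_Op q M))

theorem le_of_isNilpotent_of_Op_le {M X : Subgroup G} (hM : Group.IsNilpotent M)
    (h : ∀ q : ℕ, q.Prime → q ∣ Nat.card M → Op q M ≤ X) : M ≤ X := by
  have := eq_of_forall_sylIn (inf_le_left : M ⊓ X ≤ M) fun q hq hd =>
    have : Fact q.Prime := ⟨hq⟩
    ⟨Op q M, sylIn_Op_of_isNilpotent hM, le_inf (FClass.radOf_le _ M) (h q hq hd)⟩
  exact inf_eq_left.1 this

theorem Op_sup_Opp_of_isNilpotent [Fact p.Prime] {M : Subgroup G} (hM : Group.IsNilpotent M) :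
    Op p M ⊔ Opp p M = M := by
  refine le_antisymm (sup_le (FClass.radOf_le _ M) (FClass.radOf_le _ M)) ?_
  refine le_of_isNilpotent_of_Op_le hM fun q hq _ => ?_
  have : Fact q.Prime := ⟨hq⟩
  by_cases h : q = p
  · subst h; exact le_sup_left
  · exact (Op_le_Opp h M).trans le_sup_right

theorem Op_Fit [Fact p.Prime] (M : Subgroup G) : Op p (Fit M) = Op p M := by
  rw [Op, FClass.radOf_eq_inf_of_subnIn (nilCl.radOf_subnIn M), inf_eq_left]
  exact Op_le_Fit p M

theorem Opp_Fit (M : Subgroup G) : Opp p (Fit M) = Fit (Opp p M) := by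
  rw [Opp, FClass.radOf_eq_inf_of_subnIn (nilCl.radOf_subnIn M), Fit,
    FClass.radOf_eq_inf_of_subnIn ((ppCl p).radOf_subnIn M), inf_comm]

theorem Fit_le_of_Op_le {M X : Subgroup G} (h : ∀ q : ℕ, q.Prime → Op q M ≤ X) : Fit M ≤ X :=
  le_of_isNilpotent_of_Op_le (isNilpotent_Fit M) fun q hq _ => by
    have : Fact q.Prime := ⟨hq⟩
    rw [Op_Fit]; exact h q hq

theorem Fit_eq_sup [Fact p.Prime] (M : Subgroup G) : Fit M = Op p M ⊔ Fit (Opp p M) := by
  rw [← Op_Fit, ← Opp_Fit, Op_sup_Opp_of_isNilpotent (isNilpotent_Fit M)]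

theorem Fit_eq_Op [Fact p.Prime] {M : Subgroup G} (h : Opp p M = ⊥) : Fit M = Op p M := by
  rw [Fit_eq_sup (p := p), h, Fit, FClass.radOf_bot, sup_bot_eq]

theorem Fit_le_Op_sup_Opp [Fact p.Prime] (M : Subgroup G) : Fit M ≤ Op p M ⊔ Opp p M := by
  rw [Fit_eq_sup (p := p)]; exact sup_le_sup_left (FClass.radOf_le _ _) _

theorem Fit_eq_bot_iff {M : Subgroup G} : Fit M = ⊥ ↔ ∀ q : ℕ, q.Prime → Op q M = ⊥ := by
  refine ⟨fun h q hq => ?_, fun h => le_bot_iff.1 (Fit_le_of_Op_le fun q hq => (h q hq).le)⟩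
  have : Fact q.Prime := ⟨hq⟩
  exact le_bot_iff.1 (h ▸ Op_le_Fit q M)

omit [Finite G] in
theorem isNilpotent_of_le_centralizer {A : Subgroup G} (h : A ≤ centralizer (A : Set G)) :
    Group.IsNilpotent A :=
  (isNilpotent_iff_lowerCentralSeries A).2 ⟨1, commutator_eq_bot_iff_le_centralizer.2 h⟩

omit [Finite G] in
theorem isSolvable_of_le_centralizer {A : Subgroup G} (h : A ≤ centralizer (A : Set G)) :
    Group.IsSolvable A :=
  have := isNilpotent_of_le_centralizer h
  inferInstance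

theorem center_le_Fit (M : Subgroup G) : M ⊓ centralizer (M : Set G) ≤ Fit M :=
  le_Fit inf_le_left (le_normalizer_inf le_normalizer (le_normalizer_centralizer le_normalizer))
    (isNilpotent_of_le_centralizer (inf_le_right.trans (centralizer_mono inf_le_left)))

omit [Finite G] in
/-- A nontrivial normal subgroup of a nilpotent group meets the centre. -/
theorem inf_centralizer_ne_bot_of_isNilpotent {M N : Subgroup G} (hM : Group.IsNilpotent M)
    (h1 : N ≤ M) (h2 : M ≤ normalizer (N : Set G)) (hN : N ≠ ⊥) :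
    N ⊓ centralizer (M : Set G) ≠ ⊥ := by
  intro h
  obtain ⟨n, hn⟩ := (isNilpotent_iff_lowerCentralSeries M).1 hM
  have key : ∀ k, k ≤ n → N ⊓ M.lowerCentralSeries (n - k) = ⊥ := by
    intro k
    induction k with
    | zero => intro _; simp [hn]
    | succ k ih =>
      intro hk
      refine le_bot_iff.1 (h ▸ le_inf inf_le_left ?_)
      rw [← commutator_eq_bot_iff_le_centralizer, ← le_bot_iff, ← ih (by omega)]
      refine le_inf ((commutator_mono inf_le_left le_rfl).trans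
        (commutator_le_left_of_le_normalizer h2)) ?_
      rw [show n - k = n - (k + 1) + 1 by omega]
      exact commutator_mono inf_le_right le_rfl
  have := key n le_rfl
  rw [Nat.sub_self, Subgroup.lowerCentralSeries_zero, inf_eq_left.2 h1] at this
  exact hN this

omit [Finite G] in
theorem commutator_lt_of_isNilpotent {M N : Subgroup G} (hM : Group.IsNilpotent M)
    (h1 : N ≤ M) (h2 : M ≤ normalizer (N : Set G)) (hN : N ≠ ⊥) : ⁅N, M⁆ < N := by
  refine lt_of_le_of_ne (commutator_le_left_of_le_normalizer h2) fun h => hN ?_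
  obtain ⟨n, hn⟩ := (isNilpotent_iff_lowerCentralSeries M).1 hM
  have key : ∀ k, N ≤ M.lowerCentralSeries k := by
    intro k
    induction k with
    | zero => exact h1
    | succ k ih => exact h.ge.trans (commutator_mono ih le_rfl)
  exact le_bot_iff.1 (hn ▸ key n)

omit [Finite G] in
theorem commutator_lt_of_isSolvable {N : Subgroup G} (hN : Group.IsSolvable N) (h : N ≠ ⊥) :
    ⁅N, N⁆ < N :=
  lt_of_le_of_ne (commutator_le_left_of_le_normalizer le_normalizer)
    fun e => h (solvable_perfect_eq_bot e hN)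

/-- A nontrivial solvable subgroup normalized by `M` contains a nontrivial abelian one. -/
theorem exists_abelian_normal {M N : Subgroup G} (hN : Group.IsSolvable N) (h : N ≠ ⊥)
    (h2 : M ≤ normalizer (N : Set G)) :
    ∃ A, A ≤ N ∧ A ≠ ⊥ ∧ M ≤ normalizer (A : Set G) ∧ A ≤ centralizer (A : Set G) := by
  obtain ⟨A, h1, ⟨h3, h4⟩, h5⟩ := exists_minimal_subgroup
    (P := fun A => A ≠ ⊥ ∧ M ≤ normalizer (A : Set G)) ⟨h, h2⟩
  refine ⟨A, h1, h3, h4, commutator_eq_bot_iff_le_centralizer.1 ?_⟩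
  by_contra hne
  have := commutator_lt_of_isSolvable (isSolvable_of_le h1 hN) h3
  exact this.ne (h5 _ ⟨hne, le_normalizer_commutator h4 h4⟩ this.le)

theorem Fit_ne_bot_of_isSolvable {M N : Subgroup G} (hN : Group.IsSolvable N) (h : N ≠ ⊥)
    (h1 : SubnIn N M) : Fit M ≠ ⊥ := by
  obtain ⟨A, a, b, c, d⟩ := exists_abelian_normal hN h le_normalizer
  intro e
  exact b (le_bot_iff.1 (e ▸ ((SubnIn.of_normalizer a c).trans h1).le_Fit
    (isNilpotent_of_le_centralizer d)))

theorem Sol_eq_bot_of_Fit_eq_bot {M : Subgroup G} (h : Fit M = ⊥) : Sol M = ⊥ := by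
  by_contra hne
  exact Fit_ne_bot_of_isSolvable (isSolvable_Sol M) hne (solCl.radOf_subnIn M) h

end Cfsg.Agent.Comp
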