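/-
Quasisimple subgroups, components, the layer and the generalized Fitting subgroup
of a subgroup `M` of an ambient finite group.
-/
import Cfsg.Agent.Lib.Comp.SylIn

set_option autoImplicit false

namespace Cfsg.Agent.Comp

open Subgroup

universe u

section
variable {G : Type*} [Group G]

/-- Ambient description of a quasisimple subgroup. -/
structure QS (K : Subgroup G) : Prop where
  perfect : ⁅K, K⁆ = K
  ne_bot : K ≠ ⊥
  normal : ∀ N, N ≤ K → K ≤ normalizer (N : Set G) → N = K ∨ N ≤ centralizer (K : Set G)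

theorem map_le_centralizer_map {G' : Type*} [Group G'] (f : G →* G') {A B : Subgroup G}
    (h : A ≤ centralizer (B : Set G)) : A.map f ≤ centralizer (B.map f : Set G') := by
  rw [← commutator_eq_bot_iff_le_centralizer] at h ⊢
  rw [← map_commutator, h, Subgroup.map_bot]

theorem map_le_normalizer_map {G' : Type*} [Group G'] (f : G →* G') {A B : Subgroup G}
    (h : A ≤ normalizer (B : Set G)) : A.map f ≤ normalizer (B.map f : Set G') :=
  (map_mono h).trans (le_normalizer_map f)

theorem le_normalizer_comap_of_map {G' : Type*} [Group G'] (f : G →* G') {A : Subgroup G}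
    {B : Subgroup G'} (h : A.map f ≤ normalizer (B : Set G')) :
    A ≤ normalizer (B.comap f : Set G) :=
  ((le_comap_map f A).trans (comap_mono h)).trans (le_normalizer_comap f)

theorem map_comap_inf {G' : Type*} [Group G'] (f : G →* G') {M : Subgroup G} {N : Subgroup G'}
    (h : N ≤ M.map f) : (N.comap f ⊓ M).map f = N := by
  apply le_antisymm
  · exact (map_mono inf_le_left).trans (map_comap_le _ _)
  · intro x hx
    obtain ⟨y, hy, rfl⟩ := h hx
    exact ⟨y, ⟨hx, hy⟩, rfl⟩

theorem le_normalizer_ker {G' : Type*} [Group G'] (f : G →* G') (A : Subgroup G) :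
    A ≤ normalizer (f.ker : Set G) := by rw [normalizer_eq_top]; exact le_top

theorem le_normalizer_normal (N : Subgroup G) [N.Normal] (A : Subgroup G) :
    A ≤ normalizer (N : Set G) := by rw [normalizer_eq_top]; exact le_top

/-- If `Y ≤ X` have the same image then `X = Y (X ∩ ker f)`. -/
theorem eq_sup_inf_ker {G' : Type*} [Group G'] (f : G →* G') {X Y : Subgroup G} (h1 : Y ≤ X)
    (h2 : X.map f ≤ Y.map f) : X = Y ⊔ (X ⊓ f.ker) := by
  rw [inf_comm, ← sup_inf_of_le_normalizer (le_normalizer_ker f Y) h1, eq_comm, inf_eq_right]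
  exact map_le_map_iff.1 h2

namespace QS

variable {K : Subgroup G}

theorem not_le_centralizer (h : QS K) : ¬ K ≤ centralizer (K : Set G) := fun h' =>
  h.ne_bot (h.perfect ▸ commutator_eq_bot_iff_le_centralizer.2 h')

theorem not_isSolvable (h : QS K) : ¬ Group.IsSolvable K := fun h' =>
  h.ne_bot (solvable_perfect_eq_bot h.perfect h')

theorem not_le_of_isSolvable (h : QS K) {H : Subgroup G} (hH : Group.IsSolvable H) : ¬ K ≤ H :=
  fun h' => h.not_isSolvable (isSolvable_of_le h' hH)

theorem subnIn (h : QS K) {H : Subgroup G} (hH : SubnIn H K) :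
    H = K ∨ H ≤ centralizer (K : Set G) := by
  obtain rfl | ⟨N, h1, h2, h3⟩ := hH.eq_or_exists_lt
  · exact Or.inl rfl
  · exact Or.inr (h3.le.trans ((h.normal N h1.le h2).resolve_left h1.ne))

theorem isQuasisimple (h : QS K) : IsQuasisimple K := by
  refine ⟨isPerfect_iff.2 h.perfect, ?_⟩
  have hnt : Nontrivial (K ⧸ center K) := by
    rw [QuotientGroup.nontrivial_iff]
    intro e
    apply h.not_le_centralizer
    rw [← subgroupOf_centralizer_self, subgroupOf_eq_top] at e
    exact e
  refine ⟨fun N hN => ?_⟩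
  have h1 : (N.comap (QuotientGroup.mk' (center K))).Normal := hN.comap _
  have hs := QuotientGroup.mk'_surjective (center K)
  rcases h.normal _ (map_subtype_le _) ((normal_iff_map_subtype _).1 h1) with e | e
  · right
    rw [← map_comap_eq_self_of_surjective hs N]
    have : N.comap (QuotientGroup.mk' (center K)) = ⊤ := by
      rw [← subgroupOf_map_subtype_self (N.comap _), e, subgroupOf_self]
    rw [this, map_top_of_surjective _ hs]
  · left
    rw [← map_comap_eq_self_of_surjective hs N, Subgroup.map_eq_bot_iff, QuotientGroup.ker_mk']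
    exact (map_subtype_le_iff.1 e).trans (subgroupOf_centralizer_self K).le

theorem of_isQuasisimple (h : IsQuasisimple K) : QS K := by
  obtain ⟨h1, h2⟩ := h
  have hp := isPerfect_iff.1 h1
  refine ⟨hp, ?_, fun N a b => ?_⟩
  · rintro rfl
    exact not_subsingleton ((⊥ : Subgroup G) ⧸ center (⊥ : Subgroup G))
      (Function.Surjective.subsingleton (QuotientGroup.mk'_surjective _))
  · have hn : (N.subgroupOf K).Normal := normal_subgroupOf_of_le_normalizer b
    have hs := QuotientGroup.mk'_surjective (center K)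
    rcases (hn.map _ hs).eq_bot_or_eq_top with e | e
    · right
      rw [Subgroup.map_eq_bot_iff, QuotientGroup.ker_mk', ← subgroupOf_centralizer_self] at e
      exact fun x hx => e (show (⟨x, a hx⟩ : K) ∈ N.subgroupOf K from hx)
    · left
      have e2 : N.subgroupOf K ⊔ center K = ⊤ := by
        have := congrArg (comap (QuotientGroup.mk' (center K))) e
        rwa [comap_map_eq, QuotientGroup.ker_mk', comap_top] at this
      have e3 : N ⊔ (K ⊓ centralizer (K : Set G)) = K := by
        have := congrArg (Subgroup.map K.subtype) e2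
        rwa [Subgroup.map_sup, map_center_subtype, map_subtype_top, map_subgroupOf_eq_of_le a]
          at this
      refine le_antisymm a ?_
      rw [← hp]
      conv_lhs => rw [← e3]
      rw [commutator_sup_central (inf_le_right.trans (centralizer_mono a))
        (inf_le_right.trans (centralizer_mono inf_le_left))]
      exact commutator_le_left_of_le_normalizer le_normalizer

theorem map {G' : Type*} [Group G'] (h : QS K) (f : G →* G') : K.map f = ⊥ ∨ QS (K.map f) := by
  refine or_iff_not_imp_left.2 fun hne => ⟨by rw [← map_commutator, h.perfect], hne, ?_⟩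
  intro N a b
  rcases h.normal (N.comap f ⊓ K) inf_le_right
    (le_normalizer_inf (le_normalizer_comap_of_map f b) le_normalizer) with e | e
  · left; rw [← map_comap_inf f a, e]
  · right; rw [← map_comap_inf f a]; exact map_le_centralizer_map f e

theorem map_of_not_le {G' : Type*} [Group G'] (h : QS K) {f : G →* G'} (hk : ¬ K ≤ f.ker) :
    QS (K.map f) := (h.map f).resolve_left (by rwa [Subgroup.map_eq_bot_iff])

theorem map_of_injective {G' : Type*} [Group G'] (h : QS K) {f : G →* G'}
    (hf : Function.Injective f) : QS (K.map f) :=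
  (h.map f).resolve_left (by rw [map_eq_bot_iff_of_injective _ hf]; exact h.ne_bot)

theorem cj (h : QS K) (g : G) : QS cj(g, K) := h.map_of_injective (MulAut.conj g).injective

/-- The derived group of a central extension of a quasisimple group is quasisimple. -/
theorem of_map_central {G' : Type*} [Group G'] (f : G →* G') {X : Subgroup G}
    (hc : X ⊓ f.ker ≤ centralizer (X : Set G)) (h : QS (X.map f)) :
    QS ⁅X, X⁆ ∧ (⁅X, X⁆ : Subgroup G).map f = X.map f := by
  have hY : (⁅X, X⁆ : Subgroup G).map f = X.map f := by rw [map_commutator, h.perfect]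
  have hle : ⁅X, X⁆ ≤ X := commutator_le_left_of_le_normalizer le_normalizer
  have key : ∀ N, N ≤ X → X.map f ≤ N.map f → ⁅X, X⁆ = ⁅N, N⁆ := fun N a b => by
    conv_lhs => rw [eq_sup_inf_ker f a b]
    exact commutator_sup_central (hc.trans (centralizer_mono a))
      (hc.trans (centralizer_mono inf_le_left))
  have hp : ⁅⁅X, X⁆, ⁅X, X⁆⁆ = ⁅X, X⁆ := (key _ hle hY.ge).symm
  refine ⟨⟨hp, fun e => h.ne_bot (by rw [← hY, e, Subgroup.map_bot]), fun N a b => ?_⟩, hY⟩
  rcases h.normal (N.map f) (map_mono (a.trans hle)) (hY ▸ map_le_normalizer_map f b) with e | e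
  · left
    refine le_antisymm a ?_
    rw [key N (a.trans hle) e.ge]
    exact commutator_le_left_of_le_normalizer le_normalizer
  · right
    rw [← commutator_eq_bot_iff_le_centralizer]
    refine commutator_eq_bot_of_perfect hp (commutator_eq_bot_iff_le_centralizer.2 ?_)
    refine le_trans (le_inf ?_ ?_) (hc.trans (centralizer_mono hle))
    · exact (commutator_le_left_of_le_normalizer b).trans (a.trans hle)
    · rw [← map_eq_bot_iff_le_ker', commutator_eq_bot_iff_le_centralizer, hY]; exact e

theorem of_map_injective {G' : Type*} [Group G'] {f : G →* G'} (hf : Function.Injective f)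
    (h : QS (K.map f)) : QS K := by
  have hp : ⁅K, K⁆ = K := map_injective hf (by rw [map_commutator, h.perfect])
  have := (of_map_central f (X := K) (by
    rw [(MonoidHom.ker_eq_bot_iff f).2 hf, inf_bot_eq]; exact bot_le) h).1
  rwa [hp] at this

theorem of_map_central_of_perfect {G' : Type*} [Group G'] (f : G →* G') {X : Subgroup G}
    (hp : ⁅X, X⁆ = X) (hc : X ⊓ f.ker ≤ centralizer (X : Set G)) (h : QS (X.map f)) : QS X :=
  hp ▸ (of_map_central f hc h).1

theorem commutator_eq_or (h : QS K) {A : Subgroup G} (hA : A ≤ normalizer (K : Set G)) :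
    ⁅K, A⁆ = K ∨ ⁅K, A⁆ = ⊥ := by
  rcases h.normal ⁅K, A⁆ (commutator_le_left_of_le_normalizer hA)
    (normalizer_commutator_ge_left _ _) with e | e
  · exact Or.inl e
  · right
    rw [commutator_comm] at e ⊢
    exact commutator_eq_bot_of_perfect h.perfect (commutator_eq_bot_iff_le_centralizer.2 e)

end QS

theorem qs_iff {K : Subgroup G} : QS K ↔ IsQuasisimple K := ⟨QS.isQuasisimple, QS.of_isQuasisimple⟩

theorem qs_map_iff {G' : Type*} [Group G'] {f : G →* G'} (hf : Function.Injective f)
    {K : Subgroup G} : QS (K.map f) ↔ QS K := ⟨QS.of_map_injective hf, fun h => h.map_of_injective hf⟩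

theorem isQuasisimple_congr {G' : Type*} [Group G'] (e : G ≃* G') (h : IsQuasisimple G) :
    IsQuasisimple G' := by
  obtain ⟨h1, h2⟩ := h
  refine ⟨Group.IsPerfect.ofSurjective (f := e.toMonoidHom) e.surjective, ?_⟩
  have : (center G).map (e : G →* G') = center G' := by
    ext x
    change x ∈ (center G).map e.toMonoidHom ↔ _
    rw [mem_map_equiv (f := e), mem_center_iff, mem_center_iff]
    exact ⟨fun h g => e.symm.injective (by simpa using h (e.symm g)),
      fun h g => e.injective (by simpa using h (e g))⟩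
  exact (QuotientGroup.congr (center G) (center G') e this).symm.isSimpleGroup

theorem qs_top_iff : QS (⊤ : Subgroup G) ↔ IsQuasisimple G :=
  qs_iff.trans ⟨isQuasisimple_congr topEquiv, isQuasisimple_congr topEquiv.symm⟩

/-- A minimal counterexample criterion for being quasisimple. -/
theorem qs_commutator_of_chief {X Z : Subgroup G} (h1 : Z ≤ X) (h2 : Z ≤ centralizer (X : Set G))
    (h3 : ∀ N, Z ≤ N → N ≤ X → X ≤ normalizer (N : Set G) → N = Z ∨ N = X) (h4 : ¬ ⁅X, X⁆ ≤ Z) :
    QS ⁅X, X⁆ ∧ ⁅X, X⁆ ⊔ Z = X := by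
  have hle : ⁅X, X⁆ ≤ X := commutator_le_left_of_le_normalizer le_normalizer
  have hZ : X ≤ normalizer (Z : Set G) := le_normalizer_of_le_centralizer (le_centralizer_iff.1 h2)
  have e : ⁅X, X⁆ ⊔ Z = X := (h3 _ le_sup_right (sup_le hle h1)
    (le_normalizer_sup (normalizer_commutator_ge_left _ _) hZ)).resolve_left
    fun e => h4 (le_sup_left.trans e.le)
  have key : ∀ N, N ≤ X → N ⊔ Z = X → ⁅X, X⁆ = ⁅N, N⁆ := fun N a b => by
    conv_lhs => rw [← b]
    exact commutator_sup_central (h2.trans (centralizer_mono a)) (h2.trans (centralizer_mono h1))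
  refine ⟨⟨(key _ hle e).symm, fun e => h4 (e ▸ bot_le), fun N a b => ?_⟩, e⟩
  have hN : X ≤ normalizer (N : Set G) := by
    rw [← e]
    exact sup_le b (le_normalizer_of_le_centralizer (h2.trans (centralizer_mono (a.trans hle))))
  rcases h3 (N ⊔ Z) le_sup_right (sup_le (a.trans hle) h1) (le_normalizer_sup hN hZ) with e' | e'
  · exact Or.inr ((le_sup_left.trans e'.le).trans (h2.trans (centralizer_mono hle)))
  · left
    refine le_antisymm a ?_
    rw [key N (a.trans hle) e']
    exact commutator_le_left_of_le_normalizer le_normalizer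

/-! ### Components -/

/-- `K` is a component of `M`. -/
structure CompIn (K M : Subgroup G) : Prop where
  subn : SubnIn K M
  qs : QS K

theorem compIn_top_iff {K : Subgroup G} : CompIn K ⊤ ↔ IsComponent K :=
  ⟨fun h => ⟨h.subn.isSubnormal, h.qs.isQuasisimple⟩,
    fun h => ⟨SubnIn.of_isSubnormal h.1, QS.of_isQuasisimple h.2⟩⟩

theorem compIn_map_iff {G' : Type*} [Group G'] {f : G →* G'} (hf : Function.Injective f)
    {K M : Subgroup G} : CompIn (K.map f) (M.map f) ↔ CompIn K M :=
  ⟨fun h => ⟨(subnIn_map_iff_of_injective hf).1 h.subn, (qs_map_iff hf).1 h.qs⟩,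
    fun h => ⟨h.subn.map f, h.qs.map_of_injective hf⟩⟩

theorem compIn_map_subtype_iff {M : Subgroup G} {K : Subgroup M} :
    CompIn (K.map M.subtype) M ↔ IsComponent K := by
  rw [← compIn_top_iff, ← compIn_map_iff M.subtype_injective, map_subtype_top]

theorem compIn_iff {K M : Subgroup G} : CompIn K M ↔ K ≤ M ∧ IsComponent (K.subgroupOf M) := by
  refine ⟨fun h => ⟨h.subn.le, compIn_map_subtype_iff.1 ?_⟩, fun h => ?_⟩
  · rwa [map_subgroupOf_eq_of_le h.subn.le]
  · have := compIn_map_subtype_iff.2 h.2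
    rwa [map_subgroupOf_eq_of_le h.1] at this

/-- The layer `E(M)` in the ambient group. -/
def Lay (M : Subgroup G) : Subgroup G := sSup {K | CompIn K M}

theorem map_layer (M : Subgroup G) : (layer M).map M.subtype = Lay M := by
  apply le_antisymm
  · rw [map_le_iff_le_comap]
    exact sSup_le fun K hK => map_le_iff_le_comap.1 (le_sSup (compIn_map_subtype_iff.2 hK))
  · refine sSup_le fun K hK => ?_
    obtain ⟨h1, h2⟩ := compIn_iff.1 hK
    exact le_map_subtype_iff.2 ⟨h1, le_sSup h2⟩

theorem Lay_top : Lay (⊤ : Subgroup G) = layer G := by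
  simp only [Lay, layer, compIn_top_iff]

theorem Lay_le (M : Subgroup G) : Lay M ≤ M := sSup_le fun _ h => h.subn.le

theorem Lay_le_iff {M X : Subgroup G} : Lay M ≤ X ↔ ∀ K, CompIn K M → K ≤ X := sSup_le_iff

theorem subgroupOf_Lay (M : Subgroup G) : (Lay M).subgroupOf M = layer M := by
  rw [← map_layer, subgroupOf_map_subtype_self]

namespace CompIn

variable {K L M N : Subgroup G}

theorem le (h : CompIn K M) : K ≤ M := h.subn.le

theorem le_Lay (h : CompIn K M) : K ≤ Lay M := le_sSup h

theorem trans (h : CompIn K N) (hN : SubnIn N M) : CompIn K M := ⟨h.subn.trans hN, h.qs⟩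

theorem of_le (h : CompIn K M) (h1 : K ≤ N) (h2 : N ≤ M) : CompIn K N := ⟨h.subn.of_le h1 h2, h.qs⟩

theorem cj (h : CompIn K M) (g : G) : CompIn cj(g, K) cj(g, M) :=
  (compIn_map_iff (MulAut.conj g).injective).2 h

theorem cj_of_mem (h : CompIn K M) {g : G} (hg : g ∈ normalizer (M : Set G)) :
    CompIn cj(g, K) M := ⟨h.subn.cj hg, h.qs.cj g⟩

theorem map {G' : Type*} [Group G'] (h : CompIn K M) (f : G →* G') :
    K.map f = ⊥ ∨ CompIn (K.map f) (M.map f) := (h.qs.map f).imp_right fun h' => ⟨h.subn.map f, h'⟩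

theorem map_of_not_le {G' : Type*} [Group G'] (h : CompIn K M) {f : G →* G'} (hk : ¬ K ≤ f.ker) :
    CompIn (K.map f) (M.map f) := ⟨h.subn.map f, h.qs.map_of_not_le hk⟩

theorem le_or_commutator [Finite G] {U : Subgroup G} (hK : CompIn K M) (hU : SubnIn U M) :
    K ≤ U ∨ ⁅U, K⁆ = ⊥ := by
  induction M using subgroup_induction generalizing U with
  | h M ih =>
    obtain rfl | ⟨N, h1, h2, h3⟩ := hK.subn.eq_or_exists_lt
    · rcases hK.qs.subnIn hU with e | e
      · exact Or.inl e.ge
      · exact Or.inr (commutator_eq_bot_iff_le_centralizer.2 e)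
    obtain rfl | ⟨R, h4, h5, h6⟩ := hU.eq_or_exists_lt
    · exact Or.inl hK.le
    have hN : ⁅U, K⁆ ≤ N := (commutator_mono le_rfl h3.le).trans
      (commutator_le_right_of_le_normalizer (hU.le.trans h2))
    have hR : ⁅U, K⁆ ≤ R := (commutator_mono h6.le le_rfl).trans
      (commutator_le_left_of_le_normalizer (hK.le.trans h5))
    have hlt : N ⊓ normalizer ((⁅U, K⁆ : Subgroup G) : Set G) < M := lt_of_le_of_lt inf_le_left h1
    rcases ih _ hlt (hK.of_le (le_inf h3.le (normalizer_commutator_ge_right _ _)) hlt.le)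
      (SubnIn.of_normalizer (le_inf hN le_normalizer) inf_le_right) with e | e
    · exact ih R h4 (hK.of_le (e.trans hR) h4.le) h6
    · exact Or.inr (commutator_eq_bot_of_perfect hK.qs.perfect e)

theorem le_or_le_centralizer [Finite G] {U : Subgroup G} (hK : CompIn K M) (hU : SubnIn U M) :
    K ≤ U ∨ U ≤ centralizer (K : Set G) :=
  (hK.le_or_commutator hU).imp_right commutator_eq_bot_iff_le_centralizer.1

theorem eq_of_le (hK : CompIn K M) (hL : CompIn L M) (h : K ≤ L) : K = L :=
  (hL.qs.subnIn (hK.subn.of_le h hL.le)).resolve_right fun e =>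
    hK.qs.not_le_centralizer (e.trans (centralizer_mono h))

theorem eq_or_le_centralizer [Finite G] (hK : CompIn K M) (hL : CompIn L M) :
    K = L ∨ K ≤ centralizer (L : Set G) :=
  (hL.le_or_le_centralizer hK.subn).imp_left fun h => (hL.eq_of_le hK h).symm

theorem le_centralizer_of_ne [Finite G] (hK : CompIn K M) (hL : CompIn L M) (h : K ≠ L) :
    K ≤ centralizer (L : Set G) := (hK.eq_or_le_centralizer hL).resolve_left h

theorem Lay_le_normalizer [Finite G] (hK : CompIn K M) : Lay M ≤ normalizer (K : Set G) :=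
  Lay_le_iff.2 fun L hL => by
    rcases hL.eq_or_le_centralizer hK with rfl | e
    · exact le_normalizer
    · exact le_normalizer_of_le_centralizer e

theorem compIn_Lay (hK : CompIn K M) : CompIn K (Lay M) := hK.of_le hK.le_Lay (Lay_le M)

/-- A component centralizes every solvable subgroup of `M` that it normalizes. -/
theorem le_centralizer_of_isSolvable [Finite G] {H : Subgroup G} (hK : CompIn K M) (h1 : H ≤ M)
    (h2 : K ≤ normalizer (H : Set G)) (h3 : Group.IsSolvable H) : H ≤ centralizer (K : Set G) :=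
  ((hK.of_le le_sup_left (sup_le hK.le h1)).le_or_le_centralizer
    (SubnIn.of_normalizer le_sup_right (sup_le h2 le_normalizer))).resolve_left
    (hK.qs.not_le_of_isSolvable h3)

/-- A component either lies in or centralizes a subgroup of `M` that it normalizes. -/
theorem le_or_le_centralizer_of_normalizer [Finite G] {H : Subgroup G} (hK : CompIn K M)
    (h1 : H ≤ M) (h2 : K ≤ normalizer (H : Set G)) : K ≤ H ∨ H ≤ centralizer (K : Set G) :=
  (hK.of_le le_sup_left (sup_le hK.le h1)).le_or_le_centralizer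
    (SubnIn.of_normalizer le_sup_right (sup_le h2 le_normalizer))

/-- For any subgroup `A` of `M`, either `K ≤ [K, A]` or `[K, A] = 1`. -/
theorem le_commutator_or [Finite G] {A : Subgroup G} (hK : CompIn K M) (h1 : A ≤ M) :
    K ≤ ⁅K, A⁆ ∨ ⁅K, A⁆ = ⊥ := by
  rcases hK.le_or_le_centralizer_of_normalizer ((commutator_le_sup K A).trans (sup_le hK.le h1))
    (normalizer_commutator_ge_left K A) with e | e
  · exact Or.inl e
  · right
    rw [commutator_comm] at e ⊢
    exact commutator_eq_bot_of_perfect hK.qs.perfect (commutator_eq_bot_iff_le_centralizer.2 e)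

/-- An element not normalizing... if `g K g⁻¹` does not centralize `K` then `g` normalizes `K`. -/
theorem mem_normalizer_of_not_le [Finite G] (hK : CompIn K M) {g : G}
    (hg : g ∈ normalizer (M : Set G)) (h : ¬ cj(g, K) ≤ centralizer (K : Set G)) :
    g ∈ normalizer (K : Set G) :=
  cj_eq_self_iff.1 (((hK.cj_of_mem hg).eq_or_le_centralizer hK).resolve_right h)

end CompIn

theorem normalizer_le_normalizer_Lay (M : Subgroup G) :
    normalizer (M : Set G) ≤ normalizer (Lay M : Set G) :=
  le_normalizer_sSup fun _ hg _ hK => CompIn.cj_of_mem hK hg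

theorem le_normalizer_Lay {A M : Subgroup G} (h : A ≤ normalizer (M : Set G)) :
    A ≤ normalizer (Lay M : Set G) := h.trans (normalizer_le_normalizer_Lay M)

theorem le_normalizer_Lay_self (M : Subgroup G) : M ≤ normalizer (Lay M : Set G) :=
  le_normalizer_Lay le_normalizer

theorem Lay_subnIn (M : Subgroup G) : SubnIn (Lay M) M :=
  SubnIn.of_normalizer (Lay_le M) (le_normalizer_Lay_self M)

instance layer_normal : (layer G).Normal := by
  rw [← Lay_top]; exact normal_iff_top_le_normalizer.2 (le_normalizer_Lay_self ⊤)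

instance Lay_normal (M : Subgroup G) [M.Normal] : (Lay M).Normal :=
  normal_iff_top_le_normalizer.2 (le_normalizer_Lay (le_normalizer_normal M ⊤))

theorem Lay_perfect (M : Subgroup G) : ⁅Lay M, Lay M⁆ = Lay M :=
  le_antisymm (commutator_le_left_of_le_normalizer le_normalizer) (Lay_le_iff.2 fun _ hK =>
    hK.qs.perfect.ge.trans (commutator_mono hK.le_Lay hK.le_Lay))

theorem Lay_mono_subnIn {N M : Subgroup G} (h : SubnIn N M) : Lay N ≤ Lay M :=
  Lay_le_iff.2 fun _ hK => (hK.trans h).le_Lay

theorem Lay_le_Lay_of_le {N M : Subgroup G} (h1 : Lay M ≤ N) (h2 : N ≤ M) : Lay M ≤ Lay N :=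
  Lay_le_iff.2 fun _ hK => (hK.of_le (hK.le_Lay.trans h1) h2).le_Lay

theorem Lay_Lay (M : Subgroup G) : Lay (Lay M) = Lay M :=
  le_antisymm (Lay_le _) (Lay_le_Lay_of_le le_rfl (Lay_le M))

theorem compIn_Lay_iff {K M : Subgroup G} : CompIn K (Lay M) ↔ CompIn K M :=
  ⟨fun h => h.trans (Lay_subnIn M), CompIn.compIn_Lay⟩

theorem Lay_eq_bot_iff {M : Subgroup G} : Lay M = ⊥ ↔ ∀ K, ¬ CompIn K M :=
  ⟨fun h _ hK => hK.qs.ne_bot (le_bot_iff.1 (h ▸ hK.le_Lay)),
    fun h => le_bot_iff.1 (Lay_le_iff.2 fun K hK => absurd hK (h K))⟩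

theorem Lay_eq_bot_of_isSolvable {M X : Subgroup G} (h : Lay M ≤ X) (hX : Group.IsSolvable X) :
    Lay M = ⊥ := solvable_perfect_eq_bot (Lay_perfect M) (isSolvable_of_le h hX)

theorem Lay_eq_of_qs {K : Subgroup G} (h : QS K) : Lay K = K :=
  le_antisymm (Lay_le K) (CompIn.le_Lay ⟨SubnIn.refl K, h⟩)

theorem map_Lay_le {G' : Type*} [Group G'] (f : G →* G') (M : Subgroup G) :
    (Lay M).map f ≤ Lay (M.map f) := by
  rw [map_le_iff_le_comap, Lay_le_iff]
  intro K hK
  rw [← map_le_iff_le_comap]
  rcases hK.map f with e | e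
  · rw [e]; exact bot_le
  · exact e.le_Lay

/-- Components of a central quotient lift to components. -/
theorem exists_compIn_map_eq {G' : Type*} [Group G'] (f : G →* G') {M : Subgroup G}
    {L : Subgroup G'} (hL : CompIn L (M.map f))
    (hc : L.comap f ⊓ M ⊓ f.ker ≤ centralizer ((L.comap f ⊓ M : Subgroup G) : Set G)) :
    ∃ K, CompIn K M ∧ K.map f = L := by
  have e := map_comap_inf f hL.le
  obtain ⟨h1, h2⟩ := QS.of_map_central f hc (by rw [e]; exact hL.qs)
  refine ⟨_, ⟨?_, h1⟩, h2.trans e⟩
  refine (SubnIn.of_normalizer (commutator_le_left_of_le_normalizer le_normalizer)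
    (normalizer_commutator_ge_left _ _)).trans ?_
  exact (hL.subn.comap f).inf_of_le (le_comap_map f M)

theorem map_Lay_of_central {G' : Type*} [Group G'] (f : G →* G') {M : Subgroup G}
    (hc : M ⊓ f.ker ≤ centralizer (M : Set G)) : (Lay M).map f = Lay (M.map f) := by
  refine le_antisymm (map_Lay_le f M) (Lay_le_iff.2 fun L hL => ?_)
  obtain ⟨K, h1, rfl⟩ := exists_compIn_map_eq f hL
    ((inf_le_inf_right _ inf_le_right).trans (hc.trans (centralizer_mono inf_le_right)))
  exact map_mono h1.le_Lay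

theorem map_Lay_of_injective {G' : Type*} [Group G'] {f : G →* G'} (hf : Function.Injective f)
    (M : Subgroup G) : (Lay M).map f = Lay (M.map f) :=
  map_Lay_of_central f (by rw [(MonoidHom.ker_eq_bot_iff f).2 hf, inf_bot_eq]; exact bot_le)

theorem cj_Lay (g : G) (M : Subgroup G) : cj(g, Lay M) = Lay cj(g, M) :=
  map_Lay_of_injective (MulAut.conj g).injective M

theorem map_layer_equiv {G' : Type*} [Group G'] (e : G ≃* G') :
    (layer G).map e.toMonoidHom = layer G' := by
  rw [← Lay_top, map_Lay_of_injective e.injective, map_top_of_surjective _ e.surjective, Lay_top]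

theorem map_subtype_Lay {K : Subgroup G} (M : Subgroup K) :
    (Lay M).map K.subtype = Lay (M.map K.subtype) := map_Lay_of_injective K.subtype_injective M

variable [Finite G]

theorem le_centralizer_Lay_of_isSolvable {H M : Subgroup G} (h1 : H ≤ M)
    (h2 : Lay M ≤ normalizer (H : Set G)) (h3 : Group.IsSolvable H) :
    H ≤ centralizer (Lay M : Set G) :=
  le_centralizer_iff.1 (Lay_le_iff.2 fun _ hK => le_centralizer_iff.1
    (hK.le_centralizer_of_isSolvable h1 (hK.le_Lay.trans h2) h3))

/-- The components of `M` not contained in `U`. -/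
def LayNot (M U : Subgroup G) : Subgroup G := sSup {K | CompIn K M ∧ ¬ K ≤ U}

omit [Finite G] in
theorem LayNot_le (M U : Subgroup G) : LayNot M U ≤ Lay M := sSup_le fun _ h => h.1.le_Lay

theorem LayNot_le_centralizer {M U : Subgroup G} (h : SubnIn U M) :
    LayNot M U ≤ centralizer (U : Set G) :=
  sSup_le fun _ hK => le_centralizer_iff.1 ((hK.1.le_or_le_centralizer h).resolve_left hK.2)

omit [Finite G] in
theorem Lay_sup_LayNot {M U : Subgroup G} (h : SubnIn U M) : Lay U ⊔ LayNot M U = Lay M := by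
  refine le_antisymm (sup_le (Lay_mono_subnIn h) (LayNot_le M U)) (Lay_le_iff.2 fun K hK => ?_)
  by_cases hU : K ≤ U
  · exact (hK.of_le hU h.le).le_Lay.trans le_sup_left
  · exact (le_sSup (show K ∈ {K | CompIn K M ∧ ¬ K ≤ U} from ⟨hK, hU⟩)).trans le_sup_right

theorem LayNot_subnIn (M U : Subgroup G) : SubnIn (LayNot M U) M :=
  SubnIn.sSup fun _ h => h.1.subn

omit [Finite G] in
theorem LayNot_perfect (M U : Subgroup G) : ⁅LayNot M U, LayNot M U⁆ = LayNot M U :=
  le_antisymm (commutator_le_left_of_le_normalizer le_normalizer) (sSup_le fun _ hK =>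
    hK.1.qs.perfect.ge.trans (commutator_mono (le_sSup hK) (le_sSup hK)))

omit [Finite G] in
/-- `E(M) = K · (the other components)`. -/
theorem CompIn.sup_LayNot {K M : Subgroup G} (h : CompIn K M) : K ⊔ LayNot M K = Lay M := by
  rw [← Lay_sup_LayNot h.subn, Lay_eq_of_qs h.qs]

theorem Lay_inf_le {M U : Subgroup G} (h : SubnIn U M) :
    Lay M ⊓ U ≤ Lay U ⊔ (Lay M ⊓ centralizer (Lay M : Set G)) := by
  have hc := LayNot_le_centralizer h
  have : Lay M ⊓ U = Lay U ⊔ (LayNot M U ⊓ U) := by
    rw [← Lay_sup_LayNot h, sup_inf_of_le_normalizer' (le_normalizer_of_le_centralizer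
      (hc.trans (centralizer_mono (Lay_le U)))) (Lay_le U)]
  rw [this]
  refine sup_le_sup_left (le_inf (inf_le_left.trans (LayNot_le M U)) ?_) _
  rw [← Lay_sup_LayNot h, centralizer_sup]
  exact le_inf (inf_le_left.trans (hc.trans (centralizer_mono (Lay_le U))))
    (inf_le_right.trans (le_centralizer_iff.1 hc))

/-- A subnormal subgroup of the layer has its derived group equal to its layer. -/
theorem commutator_eq_Lay_of_le {M U : Subgroup G} (h : SubnIn U M) (hU : U ≤ Lay M) :
    ⁅U, U⁆ = Lay U := by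
  have h1 : U ≤ Lay U ⊔ (Lay M ⊓ centralizer (Lay M : Set G)) :=
    (le_inf hU le_rfl).trans (Lay_inf_le h)
  refine le_antisymm ((commutator_mono h1 h1).trans ?_)
    ((Lay_perfect U).ge.trans (commutator_mono (Lay_le U) (Lay_le U)))
  rw [commutator_sup_central (inf_le_right.trans (centralizer_mono ((Lay_le U).trans hU)))
    (inf_le_right.trans (centralizer_mono inf_le_left)), Lay_perfect]

theorem center_Lay (M : Subgroup G) : Lay M ⊓ centralizer (Lay M : Set G) =
    ⨆ K : {K // CompIn K M}, (K.1 ⊓ centralizer (K.1 : Set G)) := by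
  apply le_antisymm
  · refine (sSup_induction_finite' (P := fun A => SubnIn A M ∧ A ⊓ centralizer (A : Set G) ≤
      ⨆ K : {K // CompIn K M}, (K.1 ⊓ centralizer (K.1 : Set G)))
      ⟨SubnIn.bot M, inf_le_left.trans bot_le⟩ ?_).2
    rintro A - ⟨h1, h2⟩ K (hK : CompIn K M)
    refine ⟨h1.sup hK.subn, ?_⟩
    rcases hK.le_or_le_centralizer h1 with e | e
    · rw [sup_eq_left.2 e]; exact h2
    rintro x ⟨hx1, hx2⟩
    rw [centralizer_sup] at hx2
    obtain ⟨a, ha, k, hk, rfl⟩ :=
      (mem_sup_of_le_normalizer (le_normalizer_of_le_centralizer e)).1 hx1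
    refine mul_mem (h2 ⟨ha, ?_⟩) (le_iSup (fun K : {K // CompIn K M} =>
      (K.1 ⊓ centralizer (K.1 : Set G))) ⟨K, hK⟩ ⟨hk, ?_⟩)
    · exact (Subgroup.mul_mem_cancel_right _ (le_centralizer_iff.1 e hk)).1 hx2.1
    · exact (Subgroup.mul_mem_cancel_left _ (e ha)).1 hx2.2
  · refine iSup_le fun K => le_inf (inf_le_left.trans K.2.le_Lay) ?_
    rw [← K.2.sup_LayNot, centralizer_sup]
    exact le_inf inf_le_right
      (inf_le_left.trans (le_centralizer_iff.1 (LayNot_le_centralizer K.2.subn)))

theorem CompIn.commutator_Lay {K M : Subgroup G} (h : CompIn K M) : ⁅K, Lay M⁆ = K :=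
  le_antisymm (commutator_le_left_of_le_normalizer h.Lay_le_normalizer)
    (h.qs.perfect.ge.trans (commutator_mono le_rfl h.le_Lay))

end

/-! ### The generalized Fitting subgroup -/

variable {G : Type u} [Group G]

/-- `F*(M)` in the ambient group. -/
def Fstar (M : Subgroup G) : Subgroup G := Lay M ⊔ Fit M

theorem map_fstar (M : Subgroup G) : (generalizedFittingSubgroup M).map M.subtype = Fstar M := by
  rw [generalizedFittingSubgroup, Subgroup.map_sup, map_layer, map_fitting, Fstar]

theorem subgroupOf_Fstar (M : Subgroup G) :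
    (Fstar M).subgroupOf M = generalizedFittingSubgroup M := by
  rw [← map_fstar, subgroupOf_map_subtype_self]

theorem Fstar_le (M : Subgroup G) : Fstar M ≤ M := sup_le (Lay_le M) (FClass.radOf_le _ M)

theorem Lay_le_Fstar (M : Subgroup G) : Lay M ≤ Fstar M := le_sup_left

theorem Fit_le_Fstar (M : Subgroup G) : Fit M ≤ Fstar M := le_sup_right

theorem le_normalizer_Fstar_self (M : Subgroup G) : M ≤ normalizer (Fstar M : Set G) :=
  le_normalizer_sup (le_normalizer_Lay_self M) (FClass.le_normalizer_radOf_self _ M)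

theorem Fstar_subnIn (M : Subgroup G) : SubnIn (Fstar M) M :=
  SubnIn.of_normalizer (Fstar_le M) (le_normalizer_Fstar_self M)

instance fstar_normal : (generalizedFittingSubgroup G).Normal :=
  inferInstanceAs (layer G ⊔ fittingSubgroup G).Normal

variable [Finite G]

theorem SubnIn.Op_eq {N M : Subgroup G} (h : SubnIn N M) (p : ℕ) : Op p N = Op p M ⊓ N :=
  FClass.radOf_eq_inf_of_subnIn h
theorem SubnIn.Opp_eq {N M : Subgroup G} (h : SubnIn N M) (p : ℕ) : Opp p N = Opp p M ⊓ N :=
  FClass.radOf_eq_inf_of_subnIn h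
theorem SubnIn.Fit_eq {N M : Subgroup G} (h : SubnIn N M) : Fit N = Fit M ⊓ N :=
  FClass.radOf_eq_inf_of_subnIn h
theorem SubnIn.Sol_eq {N M : Subgroup G} (h : SubnIn N M) : Sol N = Sol M ⊓ N :=
  FClass.radOf_eq_inf_of_subnIn h
theorem SubnIn.Op_le {N M : Subgroup G} (h : SubnIn N M) (p : ℕ) : Op p N ≤ Op p M :=
  FClass.radOf_le_radOf_of_subnIn h
theorem SubnIn.Opp_le {N M : Subgroup G} (h : SubnIn N M) (p : ℕ) : Opp p N ≤ Opp p M :=
  FClass.radOf_le_radOf_of_subnIn h
theorem SubnIn.Fit_le {N M : Subgroup G} (h : SubnIn N M) : Fit N ≤ Fit M :=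
  FClass.radOf_le_radOf_of_subnIn h
theorem SubnIn.Sol_le {N M : Subgroup G} (h : SubnIn N M) : Sol N ≤ Sol M :=
  FClass.radOf_le_radOf_of_subnIn h

theorem Fstar_top : Fstar (⊤ : Subgroup G) = generalizedFittingSubgroup G := by
  rw [Fstar, Lay_top, Fit_top, generalizedFittingSubgroup]

theorem le_normalizer_Fstar {A M : Subgroup G} (h : A ≤ normalizer (M : Set G)) :
    A ≤ normalizer (Fstar M : Set G) :=
  le_normalizer_sup (le_normalizer_Lay h) (FClass.le_normalizer_radOf _ h)

theorem Sol_le_centralizer_Lay (M : Subgroup G) : Sol M ≤ centralizer (Lay M : Set G) :=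
  le_centralizer_Lay_of_isSolvable (FClass.radOf_le _ M)
    ((Lay_le M).trans (FClass.le_normalizer_radOf_self _ M)) (isSolvable_Sol M)

theorem Fit_le_centralizer_Lay (M : Subgroup G) : Fit M ≤ centralizer (Lay M : Set G) :=
  (Fit_le_Sol M).trans (Sol_le_centralizer_Lay M)

theorem Op_le_centralizer_Lay (p : ℕ) [Fact p.Prime] (M : Subgroup G) :
    Op p M ≤ centralizer (Lay M : Set G) := (Op_le_Fit p M).trans (Fit_le_centralizer_Lay M)

theorem CompIn.Fstar_le_normalizer {K M : Subgroup G} (h : CompIn K M) :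
    Fstar M ≤ normalizer (K : Set G) :=
  sup_le h.Lay_le_normalizer (le_normalizer_of_le_centralizer
    ((Fit_le_centralizer_Lay M).trans (centralizer_mono h.le_Lay)))

theorem center_Lay_le_Fit (M : Subgroup G) : Lay M ⊓ centralizer (Lay M : Set G) ≤ Fit M :=
  (center_le_Fit _).trans (FClass.radOf_le_radOf_of_subnIn (Lay_subnIn M))

theorem Fstar_mono_subnIn {N M : Subgroup G} (h : SubnIn N M) : Fstar N ≤ Fstar M :=
  sup_le_sup (Lay_mono_subnIn h) (FClass.radOf_le_radOf_of_subnIn h)

omit [Finite G] in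
theorem commutator_Fstar_le (M : Subgroup G) :
    ⁅Fstar M, Fstar M⁆ ≤ Lay M ⊔ ⁅Fit M, Fit M⁆ := by
  have h1 : Lay M ≤ normalizer ((Lay M ⊔ ⁅Fit M, Fit M⁆ : Subgroup G) : Set G) :=
    le_sup_left.trans le_normalizer
  have h2 : Fit M ≤ normalizer ((Lay M ⊔ ⁅Fit M, Fit M⁆ : Subgroup G) : Set G) :=
    le_normalizer_sup ((FClass.radOf_le _ M).trans (le_normalizer_Lay_self M))
      (normalizer_commutator_ge_left _ _)
  refine commutator_sup_left_le h1 h2 ?_ (commutator_sup_right_le h1 h2 ?_ le_sup_right)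
  · exact (commutator_le_left_of_le_normalizer ((Fstar_le M).trans
      (le_normalizer_Lay_self M))).trans le_sup_left
  · exact (commutator_le_right_of_le_normalizer ((FClass.radOf_le _ M).trans
      (le_normalizer_Lay_self M))).trans le_sup_left

theorem Fstar_inf_centralizer_Lay (M : Subgroup G) :
    Fstar M ⊓ centralizer (Lay M : Set G) = Fit M := by
  refine le_antisymm ?_ (le_inf (Fit_le_Fstar M) (Fit_le_centralizer_Lay M))
  rw [Fstar, sup_comm, sup_inf_of_le_normalizer ((FClass.radOf_le _ M).trans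
    (le_normalizer_Lay_self M)) (Fit_le_centralizer_Lay M)]
  exact sup_le le_rfl (center_Lay_le_Fit M)

theorem Fstar_eq_inf_of_subnIn {U M : Subgroup G} (h : SubnIn U M) : Fstar U = Fstar M ⊓ U := by
  refine le_antisymm (le_inf (Fstar_mono_subnIn h) (Fstar_le U)) ?_
  have hc := LayNot_le_centralizer h
  have hF : Fit M ≤ centralizer (LayNot M U : Set G) :=
    (Fit_le_centralizer_Lay M).trans (centralizer_mono (LayNot_le M U))
  rw [Fstar, ← Lay_sup_LayNot h, sup_assoc, sup_inf_of_le_normalizer' (sup_le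
    (le_normalizer_of_le_centralizer (hc.trans (centralizer_mono (Lay_le U))))
    (le_normalizer_of_le_centralizer ((Fit_le_centralizer_Lay M).trans
      (centralizer_mono (Lay_mono_subnIn h))))) (Lay_le U)]
  refine sup_le_sup_left ?_ _
  rw [h.Fit_eq]
  refine le_inf ?_ inf_le_right
  refine (inf_le_inf_left _ (le_centralizer_iff.1 hc)).trans ?_
  rw [sup_comm, sup_inf_of_le_normalizer (le_normalizer_of_le_centralizer hF) hF]
  exact sup_le le_rfl ((center_le_Fit _).trans
    (FClass.radOf_le_radOf_of_subnIn (LayNot_subnIn M U)))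

theorem Fstar_Fstar (M : Subgroup G) : Fstar (Fstar M) = Fstar M := by
  rw [Fstar_eq_inf_of_subnIn (Fstar_subnIn M), inf_idem]

omit [Finite G] in
theorem Lay_Fstar (M : Subgroup G) : Lay (Fstar M) = Lay M :=
  le_antisymm (Lay_mono_subnIn (Fstar_subnIn M)) (Lay_le_Lay_of_le (Lay_le_Fstar M) (Fstar_le M))

theorem Fit_Fstar (M : Subgroup G) : Fit (Fstar M) = Fit M := by
  rw [Fit, FClass.radOf_eq_inf_of_subnIn (Fstar_subnIn M), inf_eq_left]; exact Fit_le_Fstar M

/-- A subnormal subgroup centralizing `F*(M)`-parts: if `L` is subnormal, centralizes `F(M)` and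
has no components, it is abelian. -/
theorem le_centralizer_self_of_subnIn {L M : Subgroup G} (h : SubnIn L M)
    (h1 : L ≤ centralizer (Fit M : Set G)) (h2 : Lay L = ⊥) : L ≤ centralizer (L : Set G) := by
  by_contra hne
  set Z := L ⊓ centralizer (L : Set G) with hZ
  have hZL : Z ≠ L := fun e => hne (e.ge.trans inf_le_right)
  obtain ⟨X, hXL, ⟨a, b, c⟩, hmin⟩ := exists_minimal_subgroup
    (P := fun X => SubnIn X L ∧ Z ≤ X ∧ X ≠ Z) ⟨SubnIn.refl L, inf_le_left, hZL.symm⟩
  have hZX : Z ≤ centralizer (X : Set G) := inf_le_right.trans (centralizer_mono hXL)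
  by_cases h4 : ⁅X, X⁆ ≤ Z
  · have hnil : Group.IsNilpotent X := (isNilpotent_iff_lowerCentralSeries X).2
      ⟨2, commutator_eq_bot_iff_le_centralizer.2 (h4.trans hZX)⟩
    exact c (le_antisymm (le_inf hXL (((a.trans h).le_Fit hnil).trans (le_centralizer_iff.1 h1))) b)
  · obtain ⟨h5, -⟩ := qs_commutator_of_chief b hZX (fun N d e f => by
      by_cases hN : N = Z
      · exact Or.inl hN
      · exact Or.inr (hmin N ⟨(SubnIn.of_normalizer e f).trans a, d, hN⟩ e)) h4
    exact Lay_eq_bot_iff.1 h2 _ ⟨(SubnIn.of_normalizer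
      (commutator_le_left_of_le_normalizer le_normalizer)
      (normalizer_commutator_ge_left _ _)).trans a, h5⟩

/-- Bender: `C_M(F*(M)) ≤ F(M)`. -/
theorem inf_centralizer_Fstar_le_Fit (M : Subgroup G) :
    M ⊓ centralizer (Fstar M : Set G) ≤ Fit M := by
  have hs : SubnIn (M ⊓ centralizer (Fstar M : Set G)) M := SubnIn.of_normalizer inf_le_left
    (le_normalizer_inf le_normalizer (le_normalizer_centralizer (le_normalizer_Fstar_self M)))
  refine hs.le_Fit (isNilpotent_of_le_centralizer (le_centralizer_self_of_subnIn hs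
    (inf_le_right.trans (centralizer_mono (Fit_le_Fstar M))) ?_))
  rw [← Lay_perfect, commutator_eq_bot_iff_le_centralizer]
  exact ((Lay_le _).trans inf_le_right).trans
    (centralizer_mono ((Lay_mono_subnIn hs).trans (Lay_le_Fstar M)))

theorem inf_centralizer_Fstar_le (M : Subgroup G) :
    M ⊓ centralizer (Fstar M : Set G) ≤ Fstar M :=
  (inf_centralizer_Fstar_le_Fit M).trans (Fit_le_Fstar M)

theorem le_Fit_of_le_centralizer_Fstar {A M : Subgroup G} (h1 : A ≤ M)
    (h2 : A ≤ centralizer (Fstar M : Set G)) : A ≤ Fit M :=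
  (le_inf h1 h2).trans (inf_centralizer_Fstar_le_Fit M)

theorem eq_bot_of_Fstar_eq_bot {M : Subgroup G} (h : Fstar M = ⊥) : M = ⊥ := by
  have := inf_centralizer_Fstar_le M
  rw [h, coe_bot, le_bot_iff] at this
  rw [← this, eq_comm, inf_eq_left]
  intro x _ y hy
  rw [Set.mem_singleton_iff.1 hy, one_mul, mul_one]

omit [Finite G] in
theorem Fstar_eq_Fit_of_isSolvable {M : Subgroup G} (h : Group.IsSolvable M) : Fstar M = Fit M := by
  rw [Fstar, Lay_eq_bot_of_isSolvable (Lay_le M) h, bot_sup_eq]

theorem inf_centralizer_Fit_le_of_isSolvable {M : Subgroup G} (h : Group.IsSolvable M) :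
    M ⊓ centralizer (Fit M : Set G) ≤ Fit M := by
  rw [← Fstar_eq_Fit_of_isSolvable h]; exact inf_centralizer_Fstar_le M

theorem map_Fstar_le {G' : Type u} [Group G'] [Finite G'] (f : G →* G') (M : Subgroup G) :
    (Fstar M).map f ≤ Fstar (M.map f) := by
  rw [Fstar, Subgroup.map_sup]
  exact sup_le_sup (map_Lay_le f M) (FClass.map_radOf_le _ f M)

theorem map_Fstar_of_injective {G' : Type u} [Group G'] [Finite G'] {f : G →* G'}
    (hf : Function.Injective f) (M : Subgroup G) : (Fstar M).map f = Fstar (M.map f) := by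
  rw [Fstar, Subgroup.map_sup, map_Lay_of_injective hf, Fit, FClass.map_radOf_of_injective _ hf,
    Fstar]

theorem cj_Fstar (g : G) (M : Subgroup G) : cj(g, Fstar M) = Fstar cj(g, M) :=
  map_Fstar_of_injective (MulAut.conj g).injective M

theorem map_subtype_Fstar {K : Subgroup G} (M : Subgroup K) :
    (Fstar M).map K.subtype = Fstar (M.map K.subtype) :=
  map_Fstar_of_injective K.subtype_injective M

theorem centralizer_fstar_le :
    centralizer (generalizedFittingSubgroup G : Set G) ≤ generalizedFittingSubgroup G := by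
  have := inf_centralizer_Fstar_le (⊤ : Subgroup G)
  rwa [top_inf_eq, Fstar_top] at this

end Cfsg.Agent.Comp
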