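/-
The residuals `O^π(X)`, `O^p(X)`, `O^{p'}(X)` of a subgroup, and groups of characteristic `p`.
-/
import Cfsg.Agent.Lib.Comp.Comp
import Cfsg.Agent.Lib.Solv.Coprime

set_option autoImplicit false
set_option linter.unusedSectionVars false

namespace Cfsg.Agent.Comp

open Subgroup

universe u

section
variable {G : Type*} [Group G]

theorem relIndex_sup_of_le_normalizer {H N : Subgroup G} (h : H ≤ normalizer (N : Set G)) :
    N.relIndex (H ⊔ N) = N.relIndex H := Solv.relIndex_sup_of_le_normalizer h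

theorem relIndex_dvd_card' (N H : Subgroup G) : N.relIndex H ∣ Nat.card H :=
  Dvd.intro _ (relIndex_mul_card_inf N H)

theorem relIndex_dvd_of_le_of_normalizer {H N X : Subgroup G} (h1 : N ≤ X) (h2 : H ≤ X)
    (h : H ≤ normalizer (N : Set G)) : N.relIndex H ∣ N.relIndex X := by
  rw [← relIndex_sup_of_le_normalizer h]
  exact Dvd.intro _ (relIndex_mul_relIndex N (H ⊔ N) X le_sup_right (sup_le h2 h1))

theorem le_of_coprime_relIndex {H N X : Subgroup G} (h1 : N ≤ X) (h2 : H ≤ X)
    (h : H ≤ normalizer (N : Set G)) (hc : (Nat.card H).Coprime (N.relIndex X)) : H ≤ N :=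
  relIndex_eq_one.1 (Nat.eq_one_of_dvd_coprimes hc
    (relIndex_dvd_card' N H) (relIndex_dvd_of_le_of_normalizer h1 h2 h))

theorem SubnIn.le_of_coprime {H N X : Subgroup G} (h1 : SubnIn N X) (h2 : H ≤ X)
    (hc : (Nat.card H).Coprime (N.relIndex X)) : H ≤ N := by
  induction h1 with
  | refl => exact h2
  | step N K M a b c ih =>
    rw [← relIndex_mul_relIndex N K M a c.le] at hc
    have := ih h2 (Nat.Coprime.coprime_mul_left_right hc)
    exact le_of_coprime_relIndex a this (this.trans b) (Nat.Coprime.coprime_mul_right_right hc)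

theorem relIndex_sup_dvd_card {H N : Subgroup G} [Finite G] (h : H ≤ normalizer (N : Set G)) :
    H.relIndex (H ⊔ N) ∣ Nat.card N := by
  have e1 := card_sup_mul_card_inf h
  have e3 := relIndex_mul_card (le_sup_left : H ≤ H ⊔ N)
  refine ⟨Nat.card (H ⊓ N : Subgroup G), ?_⟩
  apply Nat.eq_of_mul_eq_mul_left (Nat.card_pos (α := H))
  rw [← e1, ← e3]; ring

theorem relIndex_sup_dvd_card' {H N : Subgroup G} [Finite G] (h : N ≤ normalizer (H : Set G)) :
    H.relIndex (H ⊔ N) ∣ Nat.card N := by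
  rw [sup_comm, relIndex_sup_of_le_normalizer h]; exact relIndex_dvd_card' _ _

theorem commutator_sup_le_sup_commutator {N T : Subgroup G} (h : T ≤ normalizer (N : Set G)) :
    ⁅N ⊔ T, N ⊔ T⁆ ≤ N ⊔ ⁅T, T⁆ := by
  have h1 : N ≤ normalizer ((N ⊔ ⁅T, T⁆ : Subgroup G) : Set G) := le_sup_left.trans le_normalizer
  have h2 : T ≤ normalizer ((N ⊔ ⁅T, T⁆ : Subgroup G) : Set G) :=
    le_normalizer_sup h (normalizer_commutator_ge_left _ _)
  refine commutator_sup_left_le h1 h2 ?_ (commutator_sup_right_le h1 h2 ?_ le_sup_right)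
  · exact (commutator_le_left_of_le_normalizer (sup_le le_normalizer h)).trans le_sup_left
  · exact (commutator_le_right_of_le_normalizer h).trans le_sup_left

/-- A perfect group inside `N S` with `S` solvable normalizing `N` lies in `N`. -/
theorem le_of_perfect_of_le_sup [Finite G] {X N S : Subgroup G} (hX : ⁅X, X⁆ = X)
    (hS : Group.IsSolvable S) (h : S ≤ normalizer (N : Set G)) (hle : X ≤ N ⊔ S) : X ≤ N := by
  obtain ⟨T, a, b, c⟩ := exists_minimal_subgroup (P := fun T => X ≤ N ⊔ T) hle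
  have := c ⁅T, T⁆ (hX.ge.trans ((commutator_mono b b).trans
    (commutator_sup_le_sup_commutator (a.trans h))))
    (commutator_le_left_of_le_normalizer le_normalizer)
  rwa [solvable_perfect_eq_bot this (isSolvable_of_le a hS), sup_bot_eq] at b

theorem exists_isPGroup_map_eq [Finite G] {G' : Type*} [Group G'] (f : G →* G') {q : ℕ}
    [Fact q.Prime] {X : Subgroup G} {Q : Subgroup G'} (h1 : Q ≤ X.map f) (h2 : IsPGroup q Q) :
    ∃ P, P ≤ X ∧ IsPGroup q P ∧ P.map f = Q := by
  obtain ⟨P, hP⟩ := exists_sylIn q (Q.comap f ⊓ X)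
  have := hP.map f
  rw [map_comap_inf f h1] at this
  exact ⟨P, hP.le.trans inf_le_right, hP.isP, (this.max Q h2 this.le le_rfl).symm⟩

theorem isNilpotent_zpowers (x : G) : Group.IsNilpotent (zpowers x) :=
  isNilpotent_of_le_centralizer (by
    rw [centralizer_zpowers, zpowers_le, mem_centralizer_singleton_iff])

theorem isSolvable_of_isPGroup [Finite G] {p : ℕ} [Fact p.Prime] {P : Subgroup G}
    (h : IsPGroup p P) : Group.IsSolvable P :=
  have := h.isNilpotent
  inferInstance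

/-- `O^π(X)`: the subgroup generated by the `π'`-elements of `X`. -/
def ResPi (π : Set ℕ) (X : Subgroup G) : Subgroup G :=
  closure {x | x ∈ X ∧ ∀ q : ℕ, q.Prime → q ∣ orderOf x → q ∉ π}

variable {π : Set ℕ}

theorem ResPi_le (π : Set ℕ) (X : Subgroup G) : ResPi π X ≤ X :=
  (closure_le _).2 fun _ h => h.1

theorem ResPi_mono {X Y : Subgroup G} (h : X ≤ Y) : ResPi π X ≤ ResPi π Y :=
  closure_mono fun _ hx => ⟨h hx.1, hx.2⟩

theorem le_ResPi {Y X : Subgroup G} (h1 : Y ≤ X) (h2 : ∀ q : ℕ, q.Prime → q ∣ Nat.card Y → q ∉ π) :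
    Y ≤ ResPi π X := fun _ hx =>
  subset_closure ⟨h1 hx, fun q hq hd => h2 q hq (hd.trans (orderOf_dvd_natCard Y hx))⟩

theorem ResPi_ResPi (X : Subgroup G) : ResPi π (ResPi π X) = ResPi π X :=
  le_antisymm (ResPi_le _ _) (closure_mono fun _ hx => ⟨subset_closure hx, hx.2⟩)

theorem ResPi_le_ResPi {X Y : Subgroup G} (h : ResPi π X ≤ Y) : ResPi π X ≤ ResPi π Y :=
  (ResPi_ResPi X).ge.trans (ResPi_mono h)

theorem map_ResPi_le {G' : Type*} [Group G'] (f : G →* G') (X : Subgroup G) :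
    (ResPi π X).map f ≤ ResPi π (X.map f) := by
  rw [ResPi, MonoidHom.map_closure]
  refine closure_mono ?_
  rintro _ ⟨x, ⟨h1, h2⟩, rfl⟩
  exact ⟨⟨x, h1, rfl⟩, fun q hq hd => h2 q hq (hd.trans (orderOf_map_dvd f x))⟩

theorem le_normalizer_ResPi {A X : Subgroup G} (h : A ≤ normalizer (X : Set G)) :
    A ≤ normalizer (ResPi π X : Set G) :=
  le_normalizer_of_cj_le fun g hg => (map_ResPi_le _ X).trans (by rw [cj_eq_self_iff.2 (h hg)])

theorem ResPi_subnIn (π : Set ℕ) (X : Subgroup G) : SubnIn (ResPi π X) X :=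
  SubnIn.of_normalizer (ResPi_le π X) (le_normalizer_ResPi le_normalizer)

instance ResPi_normal (π : Set ℕ) (X : Subgroup G) [X.Normal] : (ResPi π X).Normal :=
  normal_iff_top_le_normalizer.2 (le_normalizer_ResPi (le_normalizer_normal X ⊤))

theorem SubnIn.ResPi_le {N X : Subgroup G} (h : SubnIn N X)
    (hi : ∀ q : ℕ, q.Prime → q ∣ N.relIndex X → q ∈ π) : ResPi π X ≤ N := by
  refine (closure_le _).2 fun x hx => ?_
  refine zpowers_le.1 (h.le_of_coprime (zpowers_le.2 hx.1) ?_)
  rw [Nat.card_zpowers]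
  exact Nat.coprime_of_dvd fun q hq h1 h2 => hx.2 q hq h1 (hi q hq h2)

variable [Finite G]

theorem mem_of_dvd_relIndex_ResPi {X : Subgroup G} {q : ℕ} (hq : q.Prime)
    (h : q ∣ (ResPi π X).relIndex X) : q ∈ π := by
  by_contra hn
  have : Fact q.Prime := ⟨hq⟩
  obtain ⟨P, hP⟩ := exists_sylIn q X
  refine hP.not_dvd_relIndex_of_le (le_ResPi hP.le fun r hr hd => ?_) (ResPi_le π X) h
  obtain ⟨n, hn'⟩ := hP.isP.exists_card_eq
  rw [hn'] at hd
  rwa [(Nat.prime_dvd_prime_iff_eq hr hq).1 (hr.dvd_of_dvd_pow hd)]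

theorem SubnIn.ResPi_eq {N X : Subgroup G} (h : SubnIn N X)
    (hi : ∀ q : ℕ, q.Prime → q ∣ N.relIndex X → q ∈ π) : ResPi π X = ResPi π N :=
  le_antisymm (ResPi_le_ResPi (h.ResPi_le hi)) (ResPi_mono h.le)

theorem ResPi_sup_eq {H X : Subgroup G} (h1 : H ≤ X)
    (h2 : ∀ q : ℕ, q.Prime → q ∣ H.relIndex X → q ∉ π) : ResPi π X ⊔ H = X := by
  have hle : ResPi π X ⊔ H ≤ X := sup_le (ResPi_le π X) h1
  refine le_antisymm hle (relIndex_eq_one.1 ?_)
  by_contra hne
  obtain ⟨q, hq, hd⟩ := Nat.exists_prime_and_dvd hne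
  exact h2 q hq (hd.trans (relIndex_dvd_of_le_left X le_sup_right))
    (mem_of_dvd_relIndex_ResPi hq (hd.trans (relIndex_dvd_of_le_left X le_sup_left)))

end

section
variable {G : Type u} [Group G] [Finite G] {π : Set ℕ}

theorem ResPi_le_of_forall {X Y : Subgroup G}
    (h : ∀ q : ℕ, q.Prime → q ∉ π → ∀ Q, Q ≤ X → IsPGroup q Q → Q ≤ Y) : ResPi π X ≤ Y := by
  refine (closure_le _).2 fun x hx => ?_
  refine zpowers_le.1 (le_of_isNilpotent_of_Op_le (isNilpotent_zpowers x) fun q hq hd => ?_)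
  rw [Nat.card_zpowers] at hd
  exact h q hq (hx.2 q hq hd) _ ((FClass.radOf_le _ _).trans (zpowers_le.2 hx.1)) (isPGroup_Op _ _)

theorem map_ResPi {G' : Type*} [Group G'] (f : G →* G') (X : Subgroup G) :
    (ResPi π X).map f = ResPi π (X.map f) := by
  refine le_antisymm (map_ResPi_le f X) ?_
  refine SubnIn.ResPi_le ((ResPi_subnIn π X).map f) fun q hq hd => ?_
  refine mem_of_dvd_relIndex_ResPi (X := X) hq (hd.trans ?_)
  rw [← relIndex_comap]
  exact relIndex_dvd_of_le_left X (le_comap_map f _)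

theorem cj_ResPi (g : G) (X : Subgroup G) : cj(g, ResPi π X) = ResPi π cj(g, X) := map_ResPi _ X

end

section
variable {G : Type*} [Group G] {p : ℕ}

/-- `O^p(X)`. -/
abbrev Res (p : ℕ) (X : Subgroup G) : Subgroup G := ResPi {p} X
/-- `O^{p'}(X)`. -/
abbrev Resp (p : ℕ) (X : Subgroup G) : Subgroup G := ResPi {p}ᶜ X

variable [hp : Fact p.Prime]

theorem forall_prime_not_mem_singleton {n : ℕ} :
    (∀ q : ℕ, q.Prime → q ∣ n → q ∉ ({p} : Set ℕ)) ↔ n.Coprime p := by
  rw [coprime_iff_not_dvd]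
  exact ⟨fun h hd => h p hp.out hd rfl, fun h q _ hd e => h (Set.mem_singleton_iff.1 e ▸ hd)⟩

theorem forall_prime_mem_singleton {n : ℕ} (hn : n ≠ 0) :
    (∀ q : ℕ, q.Prime → q ∣ n → q ∈ ({p} : Set ℕ)) ↔ ∃ k, n = p ^ k := by
  constructor
  · intro h
    exact ⟨_, Nat.eq_prime_pow_of_unique_prime_dvd hn fun hq hd => h _ hq hd⟩
  · rintro ⟨k, rfl⟩ q hq hd
    exact (Nat.prime_dvd_prime_iff_eq hq hp.out).1 (hq.dvd_of_dvd_pow hd)

theorem Res_eq_closure (X : Subgroup G) :
    Res p X = closure {x | x ∈ X ∧ (orderOf x).Coprime p} := by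
  simp only [Res, ResPi, forall_prime_not_mem_singleton]

theorem map_pResidual (X : Subgroup G) : (pResidual p X).map X.subtype = Res p X := by
  rw [Res_eq_closure, pResidual, MonoidHom.map_closure]
  congr 1
  ext x
  constructor
  · rintro ⟨y, hy, rfl⟩
    exact ⟨y.2, by rwa [coe_subtype, orderOf_coe]⟩
  · rintro ⟨h1, h2⟩
    exact ⟨⟨x, h1⟩, by rwa [Set.mem_ofPred_eq, ← orderOf_coe], rfl⟩

theorem Res_top : Res p (⊤ : Subgroup G) = pResidual p G := by
  rw [Res_eq_closure, pResidual]; simp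

theorem le_Res {Y X : Subgroup G} (h1 : Y ≤ X) (h2 : (Nat.card Y).Coprime p) : Y ≤ Res p X :=
  le_ResPi h1 (forall_prime_not_mem_singleton.2 h2)

variable [Finite G]

theorem Resp_eq_closure (X : Subgroup G) :
    Resp p X = closure {x | x ∈ X ∧ ∃ k, orderOf x = p ^ k} := by
  simp only [Resp, ResPi, Set.mem_compl_iff, not_not]
  congr 1
  ext x
  simp only [Set.mem_ofPred_eq, forall_prime_mem_singleton (orderOf_pos x).ne']

theorem le_Resp {Y X : Subgroup G} (h1 : Y ≤ X) (h2 : IsPGroup p Y) : Y ≤ Resp p X :=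
  le_ResPi h1 fun q hq hd hn =>
    hn ((forall_prime_mem_singleton Nat.card_pos.ne').2 h2.exists_card_eq q hq hd)

omit hp in
theorem relIndex_ne_zero' (H K : Subgroup G) : H.relIndex K ≠ 0 := index_ne_zero_of_finite

theorem relIndex_Res (X : Subgroup G) : ∃ k, (Res p X).relIndex X = p ^ k :=
  (forall_prime_mem_singleton (relIndex_ne_zero' _ _)).1 fun _ => mem_of_dvd_relIndex_ResPi

theorem relIndex_Resp (X : Subgroup G) : ((Resp p X).relIndex X).Coprime p :=
  forall_prime_not_mem_singleton.1 fun _ => mem_of_dvd_relIndex_ResPi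

theorem SubnIn.Res_le {N X : Subgroup G} (h : SubnIn N X) {k : ℕ} (hi : N.relIndex X ∣ p ^ k) :
    Res p X ≤ N :=
  h.ResPi_le fun _ hq hd =>
    (Nat.prime_dvd_prime_iff_eq hq hp.out).1 (hq.dvd_of_dvd_pow (hd.trans hi))

omit [Finite G] in
theorem SubnIn.Resp_le {N X : Subgroup G} (h : SubnIn N X) (hi : (N.relIndex X).Coprime p) :
    Resp p X ≤ N := h.ResPi_le (forall_prime_not_mem_singleton.2 hi)

theorem SylIn.Res_sup {P X : Subgroup G} (h : SylIn p P X) : Res p X ⊔ P = X :=
  ResPi_sup_eq h.le (forall_prime_not_mem_singleton.2 (coprime_iff_not_dvd.2 h.not_dvd_relIndex))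

theorem Res_eq_self_of_perfect {X : Subgroup G} (h : ⁅X, X⁆ = X) : Res p X = X := by
  obtain ⟨P, hP⟩ := exists_sylIn p X
  exact le_antisymm (ResPi_le _ _) (le_of_perfect_of_le_sup h (isSolvable_of_isPGroup hP.isP)
    (le_normalizer_ResPi (hP.le.trans le_normalizer)) hP.Res_sup.ge)

theorem le_Res_of_perfect {Y X : Subgroup G} (h : ⁅Y, Y⁆ = Y) (h1 : Y ≤ X) : Y ≤ Res p X :=
  (Res_eq_self_of_perfect h).ge.trans (ResPi_mono h1)

theorem Res_eq_bot_iff {X : Subgroup G} : Res p X = ⊥ ↔ IsPGroup p X := by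
  constructor
  · intro h
    obtain ⟨P, hP⟩ := exists_sylIn p X
    have := hP.Res_sup
    rw [h, bot_sup_eq] at this
    exact this ▸ hP.isP
  · intro h
    obtain ⟨k, hk⟩ := h.exists_card_eq
    exact le_bot_iff.1 ((SubnIn.bot X).Res_le (k := k) (by rw [relIndex_bot_left, hk]))

theorem Resp_eq_bot_iff {X : Subgroup G} : Resp p X = ⊥ ↔ (Nat.card X).Coprime p := by
  constructor
  · intro h
    have := relIndex_Resp (p := p) X
    rwa [h, relIndex_bot_left] at this
  · intro h
    exact le_bot_iff.1 ((SubnIn.bot X).Resp_le (by rwa [relIndex_bot_left]))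

/-- If `N` is subnormal in `N R` with `R` a `p'`-group then `O^{p'}(N R) ≤ N`. -/
theorem Resp_sup_le {N R : Subgroup G} (h : SubnIn N (N ⊔ R)) (h1 : N ≤ normalizer (R : Set G))
    (h2 : (Nat.card R).Coprime p) : Resp p (N ⊔ R) ≤ N :=
  h.Resp_le (h2.coprime_dvd_left (relIndex_sup_dvd_card h1))

theorem Res_sup_le {N R : Subgroup G} (h : SubnIn N (N ⊔ R)) (h1 : N ≤ normalizer (R : Set G))
    (h2 : IsPGroup p R) : Res p (N ⊔ R) ≤ N := by
  obtain ⟨k, hk⟩ := h2.exists_card_eq
  exact h.Res_le (k := k) (hk ▸ relIndex_sup_dvd_card h1)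

theorem Resp_sup_le' {N R : Subgroup G} (h1 : R ≤ normalizer (N : Set G))
    (h2 : (Nat.card R).Coprime p) : Resp p (N ⊔ R) ≤ N :=
  (SubnIn.of_normalizer le_sup_left (sup_le le_normalizer h1)).Resp_le
    (h2.coprime_dvd_left (relIndex_sup_dvd_card' h1))

theorem Res_sup_le' {N R : Subgroup G} (h1 : R ≤ normalizer (N : Set G))
    (h2 : IsPGroup p R) : Res p (N ⊔ R) ≤ N := by
  obtain ⟨k, hk⟩ := h2.exists_card_eq
  exact (SubnIn.of_normalizer le_sup_left (sup_le le_normalizer h1)).Res_le (k := k)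
    (hk ▸ relIndex_sup_dvd_card' h1)

theorem isPGroup_of_forall_coprime {X : Subgroup G}
    (h : ∀ Y, Y ≤ X → (Nat.card Y).Coprime p → Y = ⊥) : IsPGroup p X := by
  rw [← Res_eq_bot_iff, ← le_bot_iff, Res_eq_closure, closure_le]
  rintro x ⟨h1, h2⟩
  have := h (zpowers x) (zpowers_le.2 h1) (by rwa [Nat.card_zpowers])
  exact this.le (mem_zpowers x)

theorem Res_le_of_forall_coprime {X Y : Subgroup G}
    (h : ∀ Q, Q ≤ X → (Nat.card Q).Coprime p → Q ≤ Y) : Res p X ≤ Y := by
  rw [Res_eq_closure, closure_le]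
  rintro x ⟨h1, h2⟩
  exact h (zpowers x) (zpowers_le.2 h1) (by rwa [Nat.card_zpowers]) (mem_zpowers x)

theorem Resp_le_of_forall {X Y : Subgroup G}
    (h : ∀ Q, Q ≤ X → IsPGroup p Q → Q ≤ Y) : Resp p X ≤ Y := by
  rw [Resp_eq_closure, closure_le]
  rintro x ⟨h1, k, h2⟩
  exact h (zpowers x) (zpowers_le.2 h1) (isPGroup_zpowers_of_orderOf h2) (mem_zpowers x)

theorem SylIn.Resp_le {P X N : Subgroup G} (h : SylIn p P X) (h1 : P ≤ N)
    (h2 : X ≤ normalizer (N : Set G)) : Resp p X ≤ N :=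
  Resp_le_of_forall fun _ a b => by
    obtain ⟨g, hg, e⟩ := h.exists_le_cj b a
    exact e.trans (cj_le_of_mem h1 (h2 hg))

theorem SylIn.Resp_eq {P X : Subgroup G} (h : SylIn p P X) : Resp p X = P ⊔ ⁅P, X⁆ :=
  le_antisymm (h.Resp_le le_sup_left (le_normalizer_sup_commutator P X))
    (sup_commutator_le (le_Resp h.le h.isP) (le_normalizer_ResPi le_normalizer))

/-- Schur–Zassenhaus, ambient form. -/
theorem exists_complement_of_coprime {N X : Subgroup G} (h1 : N ≤ X)
    (h2 : X ≤ normalizer (N : Set G)) (hc : (Nat.card N).Coprime (N.relIndex X)) :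
    ∃ H, H ≤ X ∧ N ⊓ H = ⊥ ∧ N ⊔ H = X ∧ Nat.card H = N.relIndex X := by
  have : (N.subgroupOf X).Normal := normal_subgroupOf_of_le_normalizer h2
  obtain ⟨H, hH⟩ := exists_right_complement'_of_coprime (N := N.subgroupOf X)
    (by rwa [card_subgroupOf h1])
  refine ⟨H.map X.subtype, map_subtype_le _, ?_, ?_, ?_⟩
  · rw [← map_subgroupOf_eq_of_le h1, ← map_inf _ _ _ X.subtype_injective, hH.disjoint.eq_bot,
      Subgroup.map_bot]
  · rw [← map_subgroupOf_eq_of_le h1, ← Subgroup.map_sup, hH.sup_eq_top, map_subtype_top]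
  · rw [card_map_subtype, relIndex, hH.symm.index_eq_card]

theorem QS.Resp_eq {K : Subgroup G} (h : QS K) (hd : p ∣ Nat.card K) : Resp p K = K := by
  refine (h.normal _ (ResPi_le _ _) (le_normalizer_ResPi le_normalizer)).resolve_right fun e => ?_
  obtain ⟨P, hP⟩ := exists_sylIn p K
  have hc : P ≤ centralizer (K : Set G) := (le_Resp hP.le hP.isP).trans e
  obtain ⟨k, hk⟩ := hP.isP.exists_card_eq
  obtain ⟨H, a, b, c, d⟩ := exists_complement_of_coprime hP.le
    (le_normalizer_of_le_centralizer (le_centralizer_iff.1 hc))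
    (by rw [hk]; exact (coprime_iff_not_dvd.2 hP.not_dvd_relIndex).symm.pow_left _)
  have : K ≤ H := le_of_perfect_of_le_sup h.perfect (isSolvable_of_isPGroup hP.isP)
    (le_normalizer_of_le_centralizer (hc.trans (centralizer_mono a))) (by rw [sup_comm, c])
  exact hP.not_dvd_relIndex (d ▸ hd.trans (card_dvd_of_le this))

end

/-! ### Specialisations of the radical lemmas -/

variable {G : Type u} [Group G] [Finite G] {p : ℕ}

theorem Op_le (p : ℕ) (M : Subgroup G) : Op p M ≤ M := FClass.radOf_le _ M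
theorem Opp_le (p : ℕ) (M : Subgroup G) : Opp p M ≤ M := FClass.radOf_le _ M
theorem Fit_le (M : Subgroup G) : Fit M ≤ M := FClass.radOf_le _ M
theorem Sol_le (M : Subgroup G) : Sol M ≤ M := FClass.radOf_le _ M
theorem le_normalizer_Op {A M : Subgroup G} (h : A ≤ normalizer (M : Set G)) :
    A ≤ normalizer (Op p M : Set G) := FClass.le_normalizer_radOf _ h
theorem le_normalizer_Opp {A M : Subgroup G} (h : A ≤ normalizer (M : Set G)) :
    A ≤ normalizer (Opp p M : Set G) := FClass.le_normalizer_radOf _ h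
theorem le_normalizer_Fit {A M : Subgroup G} (h : A ≤ normalizer (M : Set G)) :
    A ≤ normalizer (Fit M : Set G) := FClass.le_normalizer_radOf _ h
theorem le_normalizer_Sol {A M : Subgroup G} (h : A ≤ normalizer (M : Set G)) :
    A ≤ normalizer (Sol M : Set G) := FClass.le_normalizer_radOf _ h
theorem le_normalizer_Op_of_le {A M : Subgroup G} (h : A ≤ M) :
    A ≤ normalizer (Op p M : Set G) := le_normalizer_Op (h.trans le_normalizer)
theorem le_normalizer_Opp_of_le {A M : Subgroup G} (h : A ≤ M) :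
    A ≤ normalizer (Opp p M : Set G) := le_normalizer_Opp (h.trans le_normalizer)
theorem le_normalizer_Fit_of_le {A M : Subgroup G} (h : A ≤ M) :
    A ≤ normalizer (Fit M : Set G) := le_normalizer_Fit (h.trans le_normalizer)
theorem le_normalizer_Sol_of_le {A M : Subgroup G} (h : A ≤ M) :
    A ≤ normalizer (Sol M : Set G) := le_normalizer_Sol (h.trans le_normalizer)
theorem Op_subnIn (p : ℕ) (M : Subgroup G) : SubnIn (Op p M) M := FClass.radOf_subnIn _ M
theorem Opp_subnIn (p : ℕ) (M : Subgroup G) : SubnIn (Opp p M) M := FClass.radOf_subnIn _ M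
theorem Fit_subnIn (M : Subgroup G) : SubnIn (Fit M) M := FClass.radOf_subnIn _ M
theorem Sol_subnIn (M : Subgroup G) : SubnIn (Sol M) M := FClass.radOf_subnIn _ M
theorem cj_Op (g : G) (M : Subgroup G) : cj(g, Op p M) = Op p cj(g, M) := FClass.cj_radOf _ g M
theorem cj_Opp (g : G) (M : Subgroup G) : cj(g, Opp p M) = Opp p cj(g, M) := FClass.cj_radOf _ g M
theorem cj_Fit (g : G) (M : Subgroup G) : cj(g, Fit M) = Fit cj(g, M) := FClass.cj_radOf _ g M
theorem cj_Sol (g : G) (M : Subgroup G) : cj(g, Sol M) = Sol cj(g, M) := FClass.cj_radOf _ g M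
theorem Op_inf_le {K M : Subgroup G} (h : K ≤ M) : Op p M ⊓ K ≤ Op p K := FClass.radOf_inf_le h
theorem Opp_inf_le {K M : Subgroup G} (h : K ≤ M) : Opp p M ⊓ K ≤ Opp p K := FClass.radOf_inf_le h
theorem Fit_inf_le {K M : Subgroup G} (h : K ≤ M) : Fit M ⊓ K ≤ Fit K := FClass.radOf_inf_le h
theorem Sol_inf_le {K M : Subgroup G} (h : K ≤ M) : Sol M ⊓ K ≤ Sol K := FClass.radOf_inf_le h
theorem Op_le_Op {K M : Subgroup G} (h : K ≤ M) (h2 : Op p M ≤ K) : Op p M ≤ Op p K :=
  FClass.radOf_le_radOf_of_le h h2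
theorem Opp_le_Opp {K M : Subgroup G} (h : K ≤ M) (h2 : Opp p M ≤ K) : Opp p M ≤ Opp p K :=
  FClass.radOf_le_radOf_of_le h h2
theorem Fit_le_Fit {K M : Subgroup G} (h : K ≤ M) (h2 : Fit M ≤ K) : Fit M ≤ Fit K :=
  FClass.radOf_le_radOf_of_le h h2
theorem Op_eq_self {M : Subgroup G} (h : IsPGroup p M) : Op p M = M := FClass.radOf_eq_self h
theorem Opp_eq_self {M : Subgroup G} (h : (Nat.card M).Coprime p) : Opp p M = M :=
  FClass.radOf_eq_self h
theorem Fit_eq_self {M : Subgroup G} (h : Group.IsNilpotent M) : Fit M = M := FClass.radOf_eq_self h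
theorem Sol_eq_self {M : Subgroup G} (h : Group.IsSolvable M) : Sol M = M := FClass.radOf_eq_self h
theorem Op_bot : Op p (⊥ : Subgroup G) = ⊥ := FClass.radOf_bot _
theorem Opp_bot : Opp p (⊥ : Subgroup G) = ⊥ := FClass.radOf_bot _

section
variable {G' : Type u} [Group G'] [Finite G'] (f : G →* G') (M : Subgroup G)
theorem map_Op_le : (Op p M).map f ≤ Op p (M.map f) := FClass.map_radOf_le _ f M
theorem map_Opp_le : (Opp p M).map f ≤ Opp p (M.map f) := FClass.map_radOf_le _ f M
theorem map_Fit_le : (Fit M).map f ≤ Fit (M.map f) := FClass.map_radOf_le _ f M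
theorem map_Sol_le : (Sol M).map f ≤ Sol (M.map f) := FClass.map_radOf_le _ f M
variable {M}
theorem map_Op (hk : IsPGroup p (M ⊓ f.ker : Subgroup G)) : (Op p M).map f = Op p (M.map f) :=
  FClass.map_radOf_of_ext (pCl_ext p) f M hk
theorem map_Opp (hk : (Nat.card (M ⊓ f.ker : Subgroup G)).Coprime p) :
    (Opp p M).map f = Opp p (M.map f) := FClass.map_radOf_of_ext (ppCl_ext p) f M hk
theorem map_Sol (hk : Group.IsSolvable (M ⊓ f.ker : Subgroup G)) :
    (Sol M).map f = Sol (M.map f) := FClass.map_radOf_of_ext solCl_ext f M hk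
variable {f} (hf : Function.Injective f) (M)
include hf
theorem map_Op_of_injective : (Op p M).map f = Op p (M.map f) :=
  FClass.map_radOf_of_injective _ hf M
theorem map_Opp_of_injective : (Opp p M).map f = Opp p (M.map f) :=
  FClass.map_radOf_of_injective _ hf M
theorem map_Fit_of_injective : (Fit M).map f = Fit (M.map f) :=
  FClass.map_radOf_of_injective _ hf M
theorem map_Sol_of_injective : (Sol M).map f = Sol (M.map f) :=
  FClass.map_radOf_of_injective _ hf M
end

theorem map_subtype_Op {K : Subgroup G} (M : Subgroup K) :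
    (Op p M).map K.subtype = Op p (M.map K.subtype) := map_Op_of_injective M K.subtype_injective
theorem map_subtype_Opp {K : Subgroup G} (M : Subgroup K) :
    (Opp p M).map K.subtype = Opp p (M.map K.subtype) := map_Opp_of_injective M K.subtype_injective
theorem map_subtype_Fit {K : Subgroup G} (M : Subgroup K) :
    (Fit M).map K.subtype = Fit (M.map K.subtype) := map_Fit_of_injective M K.subtype_injective
theorem subgroupOf_Op (M : Subgroup G) : (Op p M).subgroupOf M = pCore p M :=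
  subgroupOf_map_subtype_self _
theorem subgroupOf_Opp (M : Subgroup G) : (Opp p M).subgroupOf M = pPrimeCore p M :=
  subgroupOf_map_subtype_self _
theorem subgroupOf_Fit (M : Subgroup G) : (Fit M).subgroupOf M = fittingSubgroup M :=
  subgroupOf_map_subtype_self _
theorem Op_eq_bot_iff {M : Subgroup G} : Op p M = ⊥ ↔ pCore p M = ⊥ :=
  FClass.radOf_eq_bot_iff (C := pCl p)
theorem Opp_eq_bot_iff {M : Subgroup G} : Opp p M = ⊥ ↔ pPrimeCore p M = ⊥ :=
  FClass.radOf_eq_bot_iff (C := ppCl p)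
theorem pPrimeCore_quotient : pPrimeCore p (G ⧸ pPrimeCore p G) = ⊥ :=
  FClass.rad_quotient_rad (C := ppCl p) (ppCl_ext p)
theorem pCore_quotient : pCore p (G ⧸ pCore p G) = ⊥ :=
  FClass.rad_quotient_rad (C := pCl p) (pCl_ext p)

theorem map_Res {G' : Type*} [Group G'] (f : G →* G') (X : Subgroup G) :
    (Res p X).map f = Res p (X.map f) := map_ResPi f X
theorem map_Resp {G' : Type*} [Group G'] (f : G →* G') (X : Subgroup G) :
    (Resp p X).map f = Resp p (X.map f) := map_ResPi f X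
theorem cj_Res (g : G) (X : Subgroup G) : cj(g, Res p X) = Res p cj(g, X) := map_ResPi _ X
theorem cj_Resp (g : G) (X : Subgroup G) : cj(g, Resp p X) = Resp p cj(g, X) := map_ResPi _ X
theorem Res_Res (X : Subgroup G) : Res p (Res p X) = Res p X := ResPi_ResPi X
theorem Resp_Resp (X : Subgroup G) : Resp p (Resp p X) = Resp p X := ResPi_ResPi X

/-! ### Groups of characteristic `p` -/

/-- `M` has characteristic `p`: `C_M(O_p(M)) ≤ O_p(M)`. -/
def CharP (p : ℕ) (M : Subgroup G) : Prop := M ⊓ centralizer (Op p M : Set G) ≤ Op p M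

omit [Finite G] in
theorem charP_iff_subtype {M : Subgroup G} :
    CharP p M ↔ centralizer (pCore p M : Set M) ≤ pCore p M := by
  rw [CharP, ← map_pCore, ← map_subtype_centralizer, map_le_map_iff_of_injective M.subtype_injective]

theorem charP_top_iff : CharP p (⊤ : Subgroup G) ↔ centralizer (pCore p G : Set G) ≤ pCore p G := by
  rw [CharP, top_inf_eq, Op_top]

theorem charP_of_isPGroup_centralizer {Q M : Subgroup G} (h1 : Q ≤ Op p M)
    (h2 : IsPGroup p (M ⊓ centralizer (Q : Set G) : Subgroup G)) : CharP p M :=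
  le_Op inf_le_left (le_normalizer_inf le_normalizer
    (le_normalizer_centralizer (FClass.le_normalizer_radOf_self _ M)))
    (h2.to_le (inf_le_inf_left _ (centralizer_mono h1)))

theorem CharP.isPGroup {M : Subgroup G} (h : CharP p M) :
    IsPGroup p (M ⊓ centralizer (Op p M : Set G) : Subgroup G) := (isPGroup_Op p M).to_le h

theorem CharP.eq_bot {M Y : Subgroup G} (h : CharP p M) (h1 : Y ≤ M)
    (h2 : Y ≤ centralizer (Op p M : Set G)) (h3 : (Nat.card Y).Coprime p) : Y = ⊥ :=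
  eq_bot_of_isPGroup_of_coprime (h.isPGroup.to_le (le_inf h1 h2)) h3

theorem CharP.le_Op {M Y : Subgroup G} (h : CharP p M) (h1 : Y ≤ M)
    (h2 : Y ≤ centralizer (Op p M : Set G)) : Y ≤ Op p M := (le_inf h1 h2).trans h

theorem CharP.Opp_eq_bot {M : Subgroup G} (h : CharP p M) : Opp p M = ⊥ :=
  h.eq_bot (FClass.radOf_le _ _) (le_centralizer_iff.1 (Op_le_centralizer_Opp p M)) (coprime_Opp p M)

theorem CharP.of_Op_le {H M : Subgroup G} (h : CharP p M) (h1 : Op p M ≤ H) (h2 : H ≤ M) :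
    CharP p H :=
  charP_of_isPGroup_centralizer (FClass.radOf_le_radOf_of_le h2 h1)
    (h.isPGroup.to_le (inf_le_inf_right _ h2))

theorem charP_of_isPGroup {M : Subgroup G} (h : IsPGroup p M) : CharP p M :=
  charP_of_isPGroup_centralizer le_rfl h.to_inf_left

theorem charP_map_iff {G' : Type u} [Group G'] [Finite G'] {f : G →* G'}
    (hf : Function.Injective f) {M : Subgroup G} : CharP p (M.map f) ↔ CharP p M := by
  have e : (M ⊓ centralizer (Op p M : Set G)).map f =
      M.map f ⊓ centralizer (Op p (M.map f) : Set G') := by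
    rw [← map_Op_of_injective _ hf]
    apply le_antisymm
    · exact le_inf (map_mono inf_le_left) (map_le_centralizer_map f inf_le_right)
    · rintro _ ⟨⟨x, hx, rfl⟩, h2⟩
      exact ⟨x, ⟨hx, fun y hy => hf (by simpa using h2 _ ⟨y, hy, rfl⟩)⟩, rfl⟩
  rw [CharP, CharP, ← e, ← map_Op_of_injective _ hf, map_le_map_iff_of_injective hf]

theorem CharP.cj {M : Subgroup G} (h : CharP p M) (g : G) : CharP p cj(g, M) :=
  (charP_map_iff (MulAut.conj g).injective).2 h

theorem charP_map_subtype_iff {K : Subgroup G} {M : Subgroup K} :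
    CharP p (M.map K.subtype) ↔ CharP p M := charP_map_iff K.subtype_injective

variable [hp : Fact p.Prime]

theorem charP_of_forall {M : Subgroup G}
    (h : ∀ Y, Y ≤ M → Y ≤ centralizer (Op p M : Set G) → (Nat.card Y).Coprime p → Y = ⊥) :
    CharP p M :=
  charP_of_isPGroup_centralizer le_rfl (isPGroup_of_forall_coprime fun Y a b =>
    h Y (a.trans inf_le_left) (a.trans inf_le_right) b)

theorem CharP.Lay_eq_bot {M : Subgroup G} (h : CharP p M) : Lay M = ⊥ :=
  Lay_eq_bot_of_isSolvable (h.le_Op (Lay_le M) (le_centralizer_iff.1 (Op_le_centralizer_Lay p M)))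
    (isSolvable_of_isPGroup (isPGroup_Op p M))

theorem CharP.Fit_eq {M : Subgroup G} (h : CharP p M) : Fit M = Op p M := Fit_eq_Op h.Opp_eq_bot

theorem CharP.Fstar_eq {M : Subgroup G} (h : CharP p M) : Fstar M = Op p M := by
  rw [Fstar, h.Lay_eq_bot, h.Fit_eq, bot_sup_eq]

theorem Op_le_Fstar (M : Subgroup G) : Op p M ≤ Fstar M := (Op_le_Fit p M).trans (Fit_le_Fstar M)

theorem charP_iff_Fstar {M : Subgroup G} : CharP p M ↔ Fstar M = Op p M :=
  ⟨CharP.Fstar_eq, fun h => by rw [CharP, ← h]; exact inf_centralizer_Fstar_le M⟩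

theorem charP_iff_isPGroup_Fstar {M : Subgroup G} : CharP p M ↔ IsPGroup p (Fstar M) :=
  charP_iff_Fstar.trans ⟨fun h => h ▸ isPGroup_Op p M, fun h =>
    le_antisymm (le_Op (Fstar_le M) (le_normalizer_Fstar_self M) h) (Op_le_Fstar M)⟩

theorem charP_iff_Lay_Opp {M : Subgroup G} : CharP p M ↔ Lay M = ⊥ ∧ Opp p M = ⊥ :=
  ⟨fun h => ⟨h.Lay_eq_bot, h.Opp_eq_bot⟩, fun h => charP_iff_Fstar.2 (by
    rw [Fstar, h.1, Fit_eq_Op h.2, bot_sup_eq])⟩

theorem charP_iff_fstar_subtype {M : Subgroup G} :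
    CharP p M ↔ generalizedFittingSubgroup M = pCore p M := by
  rw [charP_iff_Fstar, ← map_fstar, ← map_pCore]
  exact (map_injective M.subtype_injective).eq_iff

theorem charP_top_iff_fstar :
    CharP p (⊤ : Subgroup G) ↔ generalizedFittingSubgroup G = pCore p G := by
  rw [charP_iff_Fstar, Fstar_top, Op_top]

theorem charP_of_isSolvable {M : Subgroup G} (h1 : Group.IsSolvable M) (h2 : Opp p M = ⊥) :
    CharP p M := charP_iff_Lay_Opp.2 ⟨Lay_eq_bot_of_isSolvable (Lay_le M) h1, h2⟩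

theorem CharP.subnIn {N M : Subgroup G} (h : CharP p M) (hN : SubnIn N M) : CharP p N :=
  charP_iff_isPGroup_Fstar.2 ((charP_iff_isPGroup_Fstar.1 h).to_le (Fstar_mono_subnIn hN))

theorem CharP.Op_ne_bot {M : Subgroup G} (h : CharP p M) (hM : M ≠ ⊥) : Op p M ≠ ⊥ :=
  fun e => hM (eq_bot_of_Fstar_eq_bot (h.Fstar_eq.trans e))

/-- A `p'`-subgroup of `M` centralizing `P` and `C_{O_p(M)}(P)` centralizes `O_p(M)`. -/
theorem le_centralizer_Op_of_pxq {M P Y : Subgroup G} (hP : IsPGroup p P) (h1 : P ≤ M) (h2 : Y ≤ M)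
    (hY : (Nat.card Y).Coprime p) (h3 : Y ≤ centralizer (P : Set G))
    (h4 : Op p M ⊓ centralizer (P : Set G) ≤ centralizer (Y : Set G)) :
    Y ≤ centralizer (Op p M : Set G) :=
  Solv.thompson_pxq hP hY (isPGroup_Op p M) (le_centralizer_iff.1 h3)
    (h1.trans (FClass.le_normalizer_radOf_self _ M)) (h2.trans (FClass.le_normalizer_radOf_self _ M))
    h4

/-- A `p'`-subgroup centralizing `O_p(H)` for `P C_M(P) ≤ H ≤ N_M(P)` centralizes `O_p(M)`. -/
theorem le_centralizer_Op_of_local {M P H Y : Subgroup G} (hP : IsPGroup p P) (h1 : P ≤ H)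
    (h2 : M ⊓ centralizer (P : Set G) ≤ H) (h3 : H ≤ M) (h4 : H ≤ normalizer (P : Set G))
    (hY : (Nat.card Y).Coprime p) (a : Y ≤ M) (b : Y ≤ centralizer (Op p H : Set G)) :
    Y ≤ centralizer (Op p M : Set G) := by
  refine le_centralizer_Op_of_pxq hP (h1.trans h3) a hY
    (b.trans (centralizer_mono (le_Op h1 h4 hP))) ?_
  refine le_centralizer_iff.1 (b.trans (centralizer_mono ?_))
  exact (le_inf inf_le_left ((inf_le_inf_right _ (FClass.radOf_le _ _)).trans h2)).trans
    (FClass.radOf_inf_le h3)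

theorem CharP.of_local {M P H : Subgroup G} (h : CharP p M) (hP : IsPGroup p P) (h1 : P ≤ H)
    (h2 : M ⊓ centralizer (P : Set G) ≤ H) (h3 : H ≤ M) (h4 : H ≤ normalizer (P : Set G)) :
    CharP p H :=
  charP_of_forall fun _ a b c => h.eq_bot (a.trans h3)
    (le_centralizer_Op_of_local hP h1 h2 h3 h4 c (a.trans h3) b) c

theorem CharP.inf_normalizer {M P : Subgroup G} (h : CharP p M) (hP : IsPGroup p P) (h1 : P ≤ M) :
    CharP p (M ⊓ normalizer (P : Set G)) :=
  h.of_local hP (le_inf h1 le_normalizer) (inf_le_inf_left _ (centralizer_le_normalizer _))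
    inf_le_left inf_le_right

theorem CharP.inf_centralizer {M P : Subgroup G} (h : CharP p M) (hP : IsPGroup p P) (h1 : P ≤ M) :
    CharP p (M ⊓ centralizer (P : Set G)) :=
  (h.inf_normalizer hP h1).subnIn (SubnIn.of_normalizer
    (inf_le_inf_left _ (centralizer_le_normalizer _))
    (le_normalizer_inf (inf_le_left.trans le_normalizer) (le_normalizer_centralizer inf_le_right)))

/-- An extension of a `p`-group by a group of characteristic `p` has characteristic `p`. -/
theorem CharP.of_map {G' : Type u} [Group G'] [Finite G'] (f : G →* G') {M : Subgroup G}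
    (hk : IsPGroup p (M ⊓ f.ker : Subgroup G)) (h : CharP p (M.map f)) : CharP p M := by
  refine charP_of_forall fun Y a b c => ?_
  have h1 : Y.map f = ⊥ := by
    refine h.eq_bot (map_mono a) ?_ (c.coprime_dvd_left (card_map_dvd Y f))
    rw [← map_Op f hk]
    exact map_le_centralizer_map f b
  exact eq_bot_of_isPGroup_of_coprime (hk.to_le (le_inf a ((Subgroup.map_eq_bot_iff Y).1 h1))) c

/-- If a normal subgroup `N` of characteristic `p` has `p`-power index, `M` has characteristic `p`. -/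
theorem CharP.of_Res_le {N M : Subgroup G} (h : CharP p N) (hN : SubnIn N M) (h1 : Res p M ≤ N) :
    CharP p M :=
  charP_of_forall fun _ a b c => h.eq_bot ((le_Res a c).trans h1)
    (b.trans (centralizer_mono (hN.Op_le p))) c

theorem CharP.sup_isPGroup {N P : Subgroup G} (h : CharP p N) (hP : IsPGroup p P)
    (h1 : P ≤ normalizer (N : Set G)) : CharP p (N ⊔ P) :=
  h.of_Res_le (SubnIn.of_normalizer le_sup_left (sup_le le_normalizer h1)) (Res_sup_le' h1 hP)

/-- A central quotient of a group of characteristic `p` has characteristic `p`. -/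
theorem CharP.map_of_central {G' : Type u} [Group G'] [Finite G'] (f : G →* G') {M : Subgroup G}
    (h : CharP p M) (hk : M ⊓ f.ker ≤ centralizer (M : Set G)) : CharP p (M.map f) := by
  have hk' : M ⊓ f.ker ≤ Op p M :=
    h.le_Op inf_le_left (hk.trans (centralizer_mono (FClass.radOf_le _ _)))
  have hkp : IsPGroup p (M ⊓ f.ker : Subgroup G) := (isPGroup_Op p M).to_le hk'
  refine charP_of_isPGroup_centralizer le_rfl ?_
  rw [← Res_eq_bot_iff, ← map_comap_inf f (inf_le_left : M.map f ⊓ _ ≤ M.map f), ← map_Res,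
    Subgroup.map_eq_bot_iff]
  refine Res_le_of_forall_coprime fun Y a c => ?_
  rw [h.eq_bot (a.trans inf_le_right) ?_ c]
  · exact bot_le
  refine Solv.coprime_le_centralizer_of_commutator_le (N := M ⊓ f.ker)
    (coprime_of_isPGroup hkp c).symm (le_inf ?_ ?_) ((a.trans inf_le_right).trans
      (le_centralizer_iff.1 hk))
  · exact (commutator_le_sup _ _).trans (sup_le (FClass.radOf_le _ _) (a.trans inf_le_right))
  · rw [← map_eq_bot_iff_le_ker', commutator_eq_bot_iff', map_Op f hkp]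
    exact ((map_mono (a.trans inf_le_left)).trans (map_comap_le _ _)).trans inf_le_right

end Cfsg.Agent.Comp
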