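/-
`p`-components and the `p`-layer `L_{p'}(M)` of a subgroup `M` of a finite group.
-/
import Cfsg.Agent.Lib.Comp.Res

set_option autoImplicit false
set_option linter.unusedSectionVars false

namespace Cfsg.Agent.Comp

open Subgroup

universe u

variable {G : Type u} [Group G] [Finite G] {p : ℕ}

/-- `K = O^{p'}(K)` and `K / O_{p'}(K)` is quasisimple. -/
structure PQS (p : ℕ) (K : Subgroup G) : Prop where
  perfect : ⁅K, K⁆ = K
  resp : Resp p K = K
  ne_bot : K ≠ ⊥
  normal : ∀ N, N ≤ K → K ≤ normalizer (N : Set G) → N = K ∨ ⁅N, K⁆ ≤ Opp p K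

variable [hp : Fact p.Prime]

theorem le_of_resp_eq_of_le_sup {K N R : Subgroup G} (hK : Resp p K = K) (h : SubnIn N (N ⊔ R))
    (h1 : N ≤ normalizer (R : Set G)) (h2 : (Nat.card R).Coprime p) (hle : K ≤ N ⊔ R) : K ≤ N :=
  hK.ge.trans ((ResPi_mono hle).trans (Resp_sup_le h h1 h2))

theorem coprime_of_le {A B : Subgroup G} {n : ℕ} (h : (Nat.card B).Coprime n) (hle : A ≤ B) :
    (Nat.card A).Coprime n := h.coprime_dvd_left (card_dvd_of_le hle)

theorem coprime_map {G' : Type*} [Group G'] (f : G →* G') {A : Subgroup G} {n : ℕ}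
    (h : (Nat.card A).Coprime n) : (Nat.card (A.map f)).Coprime n :=
  h.coprime_dvd_left (card_map_dvd A f)

theorem coprime_sup {A B : Subgroup G} {n : ℕ} (h : A ≤ normalizer (B : Set G))
    (hA : (Nat.card A).Coprime n) (hB : (Nat.card B).Coprime n) :
    (Nat.card (A ⊔ B : Subgroup G)).Coprime n := (hA.mul_left hB).coprime_dvd_left (card_sup_dvd h)

theorem coprime_sup' {A B : Subgroup G} {n : ℕ} (h : B ≤ normalizer (A : Set G))
    (hA : (Nat.card A).Coprime n) (hB : (Nat.card B).Coprime n) :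
    (Nat.card (A ⊔ B : Subgroup G)).Coprime n := by
  rw [sup_comm]; exact coprime_sup h hB hA

theorem coprime_of_map {G' : Type u} [Group G'] (f : G →* G') {A : Subgroup G} {n : ℕ}
    (h1 : (Nat.card (A.map f)).Coprime n) (h2 : (Nat.card (A ⊓ f.ker : Subgroup G)).Coprime n) :
    (Nat.card A).Coprime n := FClass.of_map (C := ppCl n) (ppCl_ext n) f h1 h2

theorem coprime_bot {n : ℕ} : (Nat.card (⊥ : Subgroup G)).Coprime n := by simp

/-- If `f` kills a `p'`-part of `M`, the preimage in `M` of `O_{p'}(f M)` is `O_{p'}(M)`. -/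
theorem le_Opp_of_map_le {G' : Type u} [Group G'] [Finite G'] (f : G →* G') {M A : Subgroup G}
    (hk : (Nat.card (M ⊓ f.ker : Subgroup G)).Coprime p) (h1 : A ≤ M)
    (h2 : A.map f ≤ Opp p (M.map f)) : A ≤ Opp p M := by
  rw [← map_Opp f hk, Subgroup.map_le_map_iff] at h2
  have := le_inf h2 h1
  rw [sup_inf_of_le_normalizer (le_normalizer_ker f _) (Opp_le p M)] at this
  refine this.trans (sup_le le_rfl (le_Opp inf_le_right
    (le_normalizer_inf (le_normalizer_ker f _) le_normalizer) (by rwa [inf_comm])))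

theorem le_Op_of_map_le {G' : Type u} [Group G'] [Finite G'] (f : G →* G') {M A : Subgroup G}
    (hk : IsPGroup p (M ⊓ f.ker : Subgroup G)) (h1 : A ≤ M)
    (h2 : A.map f ≤ Op p (M.map f)) : A ≤ Op p M := by
  rw [← map_Op f hk, Subgroup.map_le_map_iff] at h2
  have := le_inf h2 h1
  rw [sup_inf_of_le_normalizer (le_normalizer_ker f _) (Op_le p M)] at this
  refine this.trans (sup_le le_rfl (le_Op inf_le_right
    (le_normalizer_inf (le_normalizer_ker f _) le_normalizer) (by rwa [inf_comm])))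

namespace PQS

variable {K : Subgroup G}

theorem not_coprime (h : PQS p K) : ¬ (Nat.card K).Coprime p := fun hc =>
  h.ne_bot (h.resp ▸ Resp_eq_bot_iff.2 hc)

theorem dvd_card (h : PQS p K) : p ∣ Nat.card K := by
  have := h.not_coprime
  rwa [coprime_iff_not_dvd, not_not] at this

theorem not_le_of_coprime (h : PQS p K) {R : Subgroup G} (hR : (Nat.card R).Coprime p) :
    ¬ K ≤ R := fun hle => h.not_coprime (coprime_of_le hR hle)

theorem not_isSolvable (h : PQS p K) : ¬ Group.IsSolvable K := fun h' =>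
  h.ne_bot (solvable_perfect_eq_bot h.perfect h')

theorem not_le_centralizer (h : PQS p K) : ¬ K ≤ centralizer (K : Set G) := fun h' =>
  h.not_isSolvable (isSolvable_of_le_centralizer h')

theorem subnIn (h : PQS p K) {H : Subgroup G} (hH : SubnIn H K) : H = K ∨ ⁅H, K⁆ ≤ Opp p K := by
  obtain rfl | ⟨N, h1, h2, h3⟩ := hH.eq_or_exists_lt
  · exact Or.inl rfl
  · exact Or.inr ((commutator_mono h3.le le_rfl).trans ((h.normal N h1.le h2).resolve_left h1.ne))

theorem qs_iff (h : PQS p K) : QS K ↔ Opp p K ≤ centralizer (K : Set G) := by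
  constructor
  · intro hq
    exact (hq.normal _ (Opp_le p K) (le_normalizer_Opp le_normalizer)).resolve_left
      fun e => h.not_le_of_coprime (coprime_Opp p K) e.ge
  · intro hc
    refine ⟨h.perfect, h.ne_bot, fun N a b => (h.normal N a b).imp_right fun e => ?_⟩
    rw [← commutator_eq_bot_iff_le_centralizer]
    exact commutator_eq_bot_of_perfect h.perfect
      (commutator_eq_bot_iff_le_centralizer.2 (e.trans hc))

theorem qs_of_Opp_eq_bot (h : PQS p K) (hb : Opp p K = ⊥) : QS K := h.qs_iff.2 (hb ▸ bot_le)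

theorem map {G' : Type u} [Group G'] [Finite G'] (h : PQS p K) (f : G →* G') :
    K.map f = ⊥ ∨ PQS p (K.map f) := by
  refine or_iff_not_imp_left.2 fun hne => ⟨by rw [← map_commutator, h.perfect],
    by rw [← map_Resp, h.resp], hne, fun N a b => ?_⟩
  rcases h.normal (N.comap f ⊓ K) inf_le_right
    (le_normalizer_inf (le_normalizer_comap_of_map f b) le_normalizer) with e | e
  · left; rw [← map_comap_inf f a, e]
  · right
    rw [← map_comap_inf f a, ← map_commutator]
    exact (map_mono e).trans (map_Opp_le f K)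

theorem map_of_coprime {G' : Type u} [Group G'] [Finite G'] (h : PQS p K) (f : G →* G')
    (hk : (Nat.card (K ⊓ f.ker : Subgroup G)).Coprime p) : PQS p (K.map f) :=
  (h.map f).resolve_left fun e => h.not_le_of_coprime hk
    (le_inf le_rfl ((Subgroup.map_eq_bot_iff K).1 e))

theorem of_map {G' : Type u} [Group G'] [Finite G'] (f : G →* G') (hr : Resp p K = K)
    (hk : (Nat.card (K ⊓ f.ker : Subgroup G)).Coprime p) (h : PQS p (K.map f)) : PQS p K := by
  have key : ∀ N, N ≤ K → K ≤ normalizer (N : Set G) → K.map f ≤ N.map f → N = K := by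
    intro N a b c
    have e := eq_sup_inf_ker f a c
    exact le_antisymm a (hr.ge.trans ((ResPi_mono e.le).trans
      (Resp_sup_le' (inf_le_left.trans b) hk)))
  refine ⟨key _ (commutator_le_left_of_le_normalizer le_normalizer)
    (normalizer_commutator_ge_left _ _) (by rw [map_commutator, h.perfect]), hr,
    fun e => h.ne_bot (by rw [e, Subgroup.map_bot]), fun N a b => ?_⟩
  rcases h.normal (N.map f) (map_mono a) (map_le_normalizer_map f b) with e | e
  · exact Or.inl (key N a b e.ge)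
  · right
    refine le_Opp_of_map_le f hk ((commutator_le_left_of_le_normalizer b).trans a) ?_
    rwa [map_commutator]

theorem map_of_injective {G' : Type u} [Group G'] [Finite G'] (h : PQS p K) {f : G →* G'}
    (hf : Function.Injective f) : PQS p (K.map f) :=
  h.map_of_coprime f (by rw [(MonoidHom.ker_eq_bot_iff f).2 hf, inf_bot_eq]; exact coprime_bot)

theorem of_map_injective {G' : Type u} [Group G'] [Finite G'] {f : G →* G'}
    (hf : Function.Injective f) (h : PQS p (K.map f)) : PQS p K :=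
  of_map f (map_injective hf (by rw [map_Resp, h.resp]))
    (by rw [(MonoidHom.ker_eq_bot_iff f).2 hf, inf_bot_eq]; exact coprime_bot) h

theorem cj (h : PQS p K) (g : G) : PQS p cj(g, K) := h.map_of_injective (MulAut.conj g).injective

theorem qs_map {G' : Type u} [Group G'] [Finite G'] (h : PQS p K) (f : G →* G')
    (hk : K ⊓ f.ker = Opp p K) : QS (K.map f) := by
  have hc : (Nat.card (K ⊓ f.ker : Subgroup G)).Coprime p := hk ▸ coprime_Opp p K
  refine (h.map_of_coprime f hc).qs_of_Opp_eq_bot ?_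
  rw [← map_Opp f hc, Subgroup.map_eq_bot_iff, ← hk]
  exact inf_le_right

theorem isQuasisimple_quotient (h : PQS p K) : IsQuasisimple (K ⧸ pPrimeCore p K) := by
  have h1 : PQS p (⊤ : Subgroup K) :=
    of_map_injective K.subtype_injective (by rwa [map_subtype_top])
  have := h1.qs_map (QuotientGroup.mk' (pPrimeCore p K))
    (by rw [top_inf_eq, QuotientGroup.ker_mk', Opp_top])
  rwa [map_top_of_surjective _ (QuotientGroup.mk'_surjective _), qs_top_iff] at this

theorem commutator_Op (h : PQS p K) : Op p K ≤ centralizer (K : Set G) := by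
  rw [← commutator_eq_bot_iff_le_centralizer, ← le_bot_iff, ← Op_inf_Opp p K]
  refine le_inf (commutator_le_left_of_le_normalizer (le_normalizer_Op le_normalizer)) ?_
  exact (h.normal _ (Op_le p K) (le_normalizer_Op le_normalizer)).resolve_left fun e =>
    h.not_isSolvable (e ▸ isSolvable_of_isPGroup (isPGroup_Op p K))

end PQS

theorem QS.pqs {K : Subgroup G} (h : QS K) (hd : p ∣ Nat.card K) : PQS p K :=
  ⟨h.perfect, h.Resp_eq hd, h.ne_bot, fun N a b => (h.normal N a b).imp_right fun e => by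
    rw [commutator_eq_bot_iff_le_centralizer.2 e]; exact bot_le⟩

theorem pqs_of_isQuasisimple_quotient {K : Subgroup G} (hr : Resp p K = K)
    (h : IsQuasisimple (K ⧸ pPrimeCore p K)) : PQS p K := by
  have hs := QuotientGroup.mk'_surjective (pPrimeCore p K)
  have hr' : Resp p (⊤ : Subgroup K) = ⊤ :=
    map_injective K.subtype_injective (by rw [map_Resp, map_subtype_top, hr])
  have hq : QS ((⊤ : Subgroup K).map (QuotientGroup.mk' (pPrimeCore p K))) := by
    rwa [map_top_of_surjective _ hs, qs_top_iff]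
  have := (PQS.of_map (QuotientGroup.mk' (pPrimeCore p K)) hr'
    (by rw [top_inf_eq, QuotientGroup.ker_mk']; exact coprime_pPrimeCore p) (hq.pqs (by
      by_contra hd
      apply hq.ne_bot
      rw [← Resp_eq_bot_iff.2 (coprime_iff_not_dvd.2 hd), ← map_Resp, hr']))).map_of_injective
        K.subtype_injective
  rwa [map_subtype_top] at this

/-- `K` is a `p`-component of `M`. -/
structure PCompIn (p : ℕ) (K M : Subgroup G) : Prop where
  subn : SubnIn K M
  pqs : PQS p K

/-- The `p`-layer `L_{p'}(M)`. -/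
def PLay (p : ℕ) (M : Subgroup G) : Subgroup G := sSup {K | PCompIn p K M}

theorem PLay_le (p : ℕ) (M : Subgroup G) : PLay p M ≤ M := sSup_le fun _ h => h.subn.le

theorem PLay_le_iff {M X : Subgroup G} : PLay p M ≤ X ↔ ∀ K, PCompIn p K M → K ≤ X := sSup_le_iff

theorem pCompIn_map_iff {G' : Type u} [Group G'] [Finite G'] {f : G →* G'}
    (hf : Function.Injective f) {K M : Subgroup G} :
    PCompIn p (K.map f) (M.map f) ↔ PCompIn p K M :=
  ⟨fun h => ⟨(subnIn_map_iff_of_injective hf).1 h.subn, PQS.of_map_injective hf h.pqs⟩,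
    fun h => ⟨h.subn.map f, h.pqs.map_of_injective hf⟩⟩

theorem CompIn.pCompIn {K M : Subgroup G} (h : CompIn K M) (hd : p ∣ Nat.card K) :
    PCompIn p K M := ⟨h.subn, h.qs.pqs hd⟩

theorem CompIn.le_Opp_or_pCompIn (p : ℕ) [Fact p.Prime] {K M : Subgroup G} (h : CompIn K M) :
    K ≤ Opp p M ∨ PCompIn p K M := by
  by_cases hd : p ∣ Nat.card K
  · exact Or.inr (h.pCompIn hd)
  · exact Or.inl (h.subn.le_Opp (coprime_iff_not_dvd.2 hd))

theorem CompIn.pCompIn_of_Opp_eq_bot {K M : Subgroup G} (h : CompIn K M) (hb : Opp p M = ⊥) :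
    PCompIn p K M :=
  (h.le_Opp_or_pCompIn p).resolve_left fun e => h.qs.ne_bot (le_bot_iff.1 (hb ▸ e))

namespace PCompIn

variable {K L M N : Subgroup G}

theorem le (h : PCompIn p K M) : K ≤ M := h.subn.le

theorem le_PLay (h : PCompIn p K M) : K ≤ PLay p M := le_sSup h

theorem trans (h : PCompIn p K N) (hN : SubnIn N M) : PCompIn p K M := ⟨h.subn.trans hN, h.pqs⟩

theorem of_le (h : PCompIn p K M) (h1 : K ≤ N) (h2 : N ≤ M) : PCompIn p K N :=
  ⟨h.subn.of_le h1 h2, h.pqs⟩

theorem cj (h : PCompIn p K M) (g : G) : PCompIn p cj(g, K) cj(g, M) :=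
  (pCompIn_map_iff (MulAut.conj g).injective).2 h

theorem cj_of_mem (h : PCompIn p K M) {g : G} (hg : g ∈ normalizer (M : Set G)) :
    PCompIn p cj(g, K) M := ⟨h.subn.cj hg, h.pqs.cj g⟩

theorem map {G' : Type u} [Group G'] [Finite G'] (h : PCompIn p K M) (f : G →* G') :
    K.map f = ⊥ ∨ PCompIn p (K.map f) (M.map f) :=
  (h.pqs.map f).imp_right fun h' => ⟨h.subn.map f, h'⟩

theorem map_of_coprime {G' : Type u} [Group G'] [Finite G'] (h : PCompIn p K M) (f : G →* G')
    (hk : (Nat.card (K ⊓ f.ker : Subgroup G)).Coprime p) : PCompIn p (K.map f) (M.map f) :=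
  ⟨h.subn.map f, h.pqs.map_of_coprime f hk⟩

theorem Opp_eq (h : PCompIn p K M) : Opp p K = Opp p M ⊓ K := h.subn.Opp_eq p

theorem compIn_of_Opp_eq_bot (h : PCompIn p K M) (hb : Opp p M = ⊥) : CompIn K M :=
  ⟨h.subn, h.pqs.qs_of_Opp_eq_bot (le_bot_iff.1 (hb ▸ h.subn.Opp_le p))⟩

theorem compIn_iff (h : PCompIn p K M) : CompIn K M ↔ Opp p K ≤ centralizer (K : Set G) :=
  ⟨fun h' => h.pqs.qs_iff.1 h'.qs, fun h' => ⟨h.subn, h.pqs.qs_iff.2 h'⟩⟩

theorem compIn_map {G' : Type u} [Group G'] [Finite G'] (h : PCompIn p K M) (f : G →* G')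
    (hk : M ⊓ f.ker = Opp p M) : CompIn (K.map f) (M.map f) :=
  ⟨h.subn.map f, h.pqs.qs_map f (by rw [h.Opp_eq, ← hk, inf_right_comm, inf_eq_right.2 h.le])⟩

theorem le_or_commutator {U : Subgroup G} (hK : PCompIn p K M) (hU : SubnIn U M) :
    K ≤ U ∨ ⁅U, K⁆ ≤ Opp p M := by
  induction M using subgroup_induction generalizing U with
  | h M ih =>
    obtain rfl | ⟨N, h1, h2, h3⟩ := hK.subn.eq_or_exists_lt
    · exact (hK.pqs.subnIn hU).imp_left Eq.ge
    obtain rfl | ⟨R, h4, h5, h6⟩ := hU.eq_or_exists_lt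
    · exact Or.inl hK.le
    have hN : ⁅U, K⁆ ≤ N := (commutator_mono le_rfl h3.le).trans
      (commutator_le_right_of_le_normalizer (hU.le.trans h2))
    have hR : ⁅U, K⁆ ≤ R := (commutator_mono h6.le le_rfl).trans
      (commutator_le_left_of_le_normalizer (hK.le.trans h5))
    have hlt : N ⊓ normalizer ((⁅U, K⁆ : Subgroup G) : Set G) < M := lt_of_le_of_lt inf_le_left h1
    rcases ih _ hlt (hK.of_le (le_inf h3.le (normalizer_commutator_ge_right _ _)) hlt.le)
      (SubnIn.of_normalizer (le_inf hN le_normalizer) inf_le_right) with e | e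
    · exact (ih R h4 (hK.of_le (e.trans hR) h4.le) h6).imp_right fun e' =>
        e'.trans ((SubnIn.of_normalizer h4.le h5).Opp_le p)
    · right
      refine commutator_le_of_perfect hK.pqs.perfect (le_normalizer_Opp_of_le hU.le)
        (le_normalizer_Opp_of_le hK.le) ?_
      have s1 : SubnIn ⁅U, K⁆ M := (SubnIn.of_normalizer (commutator_le_sup U K)
        (sup_le_normalizer_commutator U K)).trans (hU.sup hK.subn)
      have s2 : SubnIn ⁅⁅U, K⁆, K⁆ M := (SubnIn.of_normalizer (commutator_le_sup _ K)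
        (sup_le_normalizer_commutator _ K)).trans (s1.sup hK.subn)
      exact s2.le_Opp (coprime_of_le (coprime_Opp p _) e)

theorem Resp_sup_Opp (hK : PCompIn p K M) : Resp p (K ⊔ Opp p M) = K :=
  le_antisymm (Resp_sup_le (hK.subn.of_le le_sup_left (sup_le hK.le (Opp_le p M)))
    (le_normalizer_Opp_of_le hK.le) (coprime_Opp p M))
    (hK.pqs.resp.ge.trans (ResPi_mono le_sup_left))

theorem le_normalizer_of_sup {A : Subgroup G} (hK : PCompIn p K M)
    (h : A ≤ normalizer ((K ⊔ Opp p M : Subgroup G) : Set G)) : A ≤ normalizer (K : Set G) := by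
  rw [← hK.Resp_sup_Opp]; exact le_normalizer_ResPi h

theorem le_normalizer_of_commutator_le {A : Subgroup G} (hK : PCompIn p K M) (h1 : A ≤ M)
    (h : ⁅A, K⁆ ≤ Opp p M) : A ≤ normalizer (K : Set G) := by
  refine hK.le_normalizer_of_sup (le_normalizer_iff_commutator_le_right.2 ?_)
  refine commutator_sup_right_le (le_sup_left.trans le_normalizer)
    (le_sup_right.trans le_normalizer) (h.trans le_sup_right) ?_
  exact (commutator_le_right_of_le_normalizer (le_normalizer_Opp_of_le h1)).trans le_sup_right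

theorem Opp_le_normalizer (hK : PCompIn p K M) : Opp p M ≤ normalizer (K : Set G) :=
  hK.le_normalizer_of_sup (le_sup_right.trans le_normalizer)

theorem le_or_commutator_le {U : Subgroup G} (hK : PCompIn p K M) (hU : SubnIn U M) :
    K ≤ U ∨ ⁅U, K⁆ ≤ Opp p K := (hK.le_or_commutator hU).imp_right fun e => by
  rw [hK.Opp_eq]
  exact le_inf e (commutator_le_right_of_le_normalizer (hK.le_normalizer_of_commutator_le hU.le e))

theorem eq_of_le (hK : PCompIn p K M) (hL : PCompIn p L M) (h : K ≤ L) : K = L :=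
  (hL.pqs.subnIn (hK.subn.of_le h hL.le)).resolve_right fun e =>
    hK.pqs.not_le_of_coprime (coprime_Opp p L) (hK.pqs.perfect.ge.trans
      ((commutator_mono le_rfl h).trans e))

theorem eq_or_commutator_le (hK : PCompIn p K M) (hL : PCompIn p L M) :
    K = L ∨ ⁅K, L⁆ ≤ Opp p K ⊓ Opp p L := by
  refine or_iff_not_imp_left.2 fun hne => le_inf ?_ ?_
  · rw [commutator_comm]
    exact (hK.le_or_commutator_le hL.subn).resolve_left fun e => hne (hK.eq_of_le hL e)
  · exact (hL.le_or_commutator_le hK.subn).resolve_left fun e => hne (hL.eq_of_le hK e).symm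

theorem PLay_le_normalizer (hK : PCompIn p K M) : PLay p M ≤ normalizer (K : Set G) :=
  PLay_le_iff.2 fun L hL => by
    rcases hL.eq_or_commutator_le hK with rfl | e
    · exact le_normalizer
    · exact le_normalizer_iff_commutator_le_right.2 (e.trans (inf_le_right.trans (Opp_le p K)))

theorem eq_of_sup_Opp_eq (hK : PCompIn p K M) (hL : PCompIn p L M)
    (h : K ⊔ Opp p M = L ⊔ Opp p M) : K = L := by
  rw [← hK.Resp_sup_Opp, h, hL.Resp_sup_Opp]

/-- A `p`-component centralizes, modulo `p'`-elements, each solvable subgroup it normalizes. -/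
theorem commutator_le_of_isSolvable {H : Subgroup G} (hK : PCompIn p K M) (h1 : H ≤ M)
    (h2 : K ≤ normalizer (H : Set G)) (h3 : Group.IsSolvable H) : ⁅H, K⁆ ≤ Opp p K :=
  ((hK.of_le le_sup_left (sup_le hK.le h1)).le_or_commutator_le
    (SubnIn.of_normalizer le_sup_right (sup_le h2 le_normalizer))).resolve_left
    fun e => hK.pqs.not_isSolvable (isSolvable_of_le e h3)

theorem le_centralizer_of_isPGroup {H : Subgroup G} (hK : PCompIn p K M) (h1 : H ≤ M)
    (h2 : K ≤ normalizer (H : Set G)) (h3 : IsPGroup p H) : H ≤ centralizer (K : Set G) := by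
  rw [← commutator_eq_bot_iff_le_centralizer]
  exact eq_bot_of_isPGroup_of_coprime (h3.to_le (commutator_le_left_of_le_normalizer h2))
    (coprime_of_le (coprime_Opp p K)
      (hK.commutator_le_of_isSolvable h1 h2 (isSolvable_of_isPGroup h3)))

theorem le_commutator_or {A : Subgroup G} (hK : PCompIn p K M) (h1 : A ≤ M) :
    K ≤ ⁅K, A⁆ ∨ (Nat.card (⁅⁅K, A⁆, K⁆ : Subgroup G)).Coprime p := by
  rcases (hK.of_le le_sup_left (sup_le hK.le h1)).le_or_commutator (SubnIn.of_normalizer
    (commutator_le_sup K A) (sup_le_normalizer_commutator K A)) with e | e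
  · exact Or.inl e
  · exact Or.inr (coprime_of_le (coprime_Opp p _) e)

end PCompIn

theorem exists_pCompIn_map_eq {G' : Type u} [Group G'] [Finite G'] (f : G →* G') {M : Subgroup G}
    (hk : (Nat.card (M ⊓ f.ker : Subgroup G)).Coprime p) {L : Subgroup G'}
    (hL : PCompIn p L (M.map f)) :
    PCompIn p (Resp p (L.comap f ⊓ M)) M ∧ (Resp p (L.comap f ⊓ M)).map f = L := by
  have e : (Resp p (L.comap f ⊓ M)).map f = L := by
    rw [map_Resp, map_comap_inf f hL.le, hL.pqs.resp]
  refine ⟨⟨(ResPi_subnIn _ _).trans ((hL.subn.comap f).inf_of_le (le_comap_map f M)),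
    PQS.of_map f (Resp_Resp _) (coprime_of_le hk (inf_le_inf_right _
      ((ResPi_le _ _).trans inf_le_right))) (by rw [e]; exact hL.pqs)⟩, e⟩

theorem map_PLay_le {G' : Type u} [Group G'] [Finite G'] (f : G →* G') (M : Subgroup G) :
    (PLay p M).map f ≤ PLay p (M.map f) := by
  rw [map_le_iff_le_comap, PLay_le_iff]
  intro K hK
  rw [← map_le_iff_le_comap]
  rcases hK.map f with e | e
  · rw [e]; exact bot_le
  · exact e.le_PLay

theorem map_PLay {G' : Type u} [Group G'] [Finite G'] (f : G →* G') {M : Subgroup G}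
    (hk : (Nat.card (M ⊓ f.ker : Subgroup G)).Coprime p) :
    (PLay p M).map f = PLay p (M.map f) := by
  refine le_antisymm (map_PLay_le f M) (PLay_le_iff.2 fun L hL => ?_)
  obtain ⟨h1, h2⟩ := exists_pCompIn_map_eq f hk hL
  rw [← h2]
  exact map_mono h1.le_PLay

theorem map_PLay_of_injective {G' : Type u} [Group G'] [Finite G'] {f : G →* G'}
    (hf : Function.Injective f) (M : Subgroup G) : (PLay p M).map f = PLay p (M.map f) :=
  map_PLay f (by rw [(MonoidHom.ker_eq_bot_iff f).2 hf, inf_bot_eq]; exact coprime_bot)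

theorem cj_PLay (g : G) (M : Subgroup G) : cj(g, PLay p M) = PLay p cj(g, M) :=
  map_PLay_of_injective (MulAut.conj g).injective M

theorem PLay_eq_Lay {M : Subgroup G} (h : Opp p M = ⊥) : PLay p M = Lay M := by
  unfold PLay Lay
  congr 1
  ext K
  exact ⟨fun hK => PCompIn.compIn_of_Opp_eq_bot hK h, fun hK => CompIn.pCompIn_of_Opp_eq_bot hK h⟩

theorem Opp_map_eq_bot {G' : Type u} [Group G'] [Finite G'] (f : G →* G') {M : Subgroup G}
    (hk : M ⊓ f.ker = Opp p M) : Opp p (M.map f) = ⊥ := by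
  rw [← map_Opp f (hk ▸ coprime_Opp p M), Subgroup.map_eq_bot_iff, ← hk]; exact inf_le_right

theorem map_PLay_eq_Lay {G' : Type u} [Group G'] [Finite G'] (f : G →* G') {M : Subgroup G}
    (hk : M ⊓ f.ker = Opp p M) : (PLay p M).map f = Lay (M.map f) := by
  rw [map_PLay f (hk ▸ coprime_Opp p M), PLay_eq_Lay (Opp_map_eq_bot f hk)]

theorem top_inf_ker_mk_pPrimeCore :
    (⊤ : Subgroup G) ⊓ (QuotientGroup.mk' (pPrimeCore p G)).ker = Opp p ⊤ := by
  rw [top_inf_eq, QuotientGroup.ker_mk', Opp_top]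

theorem map_top_mk (N : Subgroup G) [N.Normal] : (⊤ : Subgroup G).map (QuotientGroup.mk' N) = ⊤ :=
  map_top_of_surjective _ (QuotientGroup.mk'_surjective N)

theorem pCompIn_top_iff {K : Subgroup G} : PCompIn p K ⊤ ↔ IsPComponent p K := by
  have hk := top_inf_ker_mk_pPrimeCore (G := G) (p := p)
  have hc : (Nat.card ((⊤ : Subgroup G) ⊓ (QuotientGroup.mk' (pPrimeCore p G)).ker :
    Subgroup G)).Coprime p := hk ▸ coprime_Opp p ⊤
  constructor
  · intro h
    refine ⟨h.subn.isSubnormal, ?_, fun H a b c => ?_⟩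
    · rw [← compIn_top_iff, ← map_top_mk]; exact h.compIn_map _ hk
    · refine le_antisymm b (le_of_resp_eq_of_le_sup (R := Opp p ⊤) h.pqs.resp
        ((SubnIn.of_isSubnormal a).of_le le_sup_left le_top) (le_normalizer_Opp_of_le le_top)
        (coprime_Opp p ⊤) ?_)
      have := map_le_map_iff.1 c.ge
      rwa [QuotientGroup.ker_mk', ← Opp_top] at this
  · rintro ⟨a, b, c⟩
    have hb : PCompIn p (K.map (QuotientGroup.mk' (pPrimeCore p G)))
        ((⊤ : Subgroup G).map (QuotientGroup.mk' (pPrimeCore p G))) :=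
      CompIn.pCompIn_of_Opp_eq_bot (by rw [map_top_mk]; exact compIn_top_iff.2 b)
        (Opp_map_eq_bot _ hk)
    have hr : Resp p K = K := c _ ((ResPi_subnIn _ K).trans (SubnIn.of_isSubnormal a)).isSubnormal
      (ResPi_le _ _) (by rw [map_Resp, hb.pqs.resp])
    exact ⟨SubnIn.of_isSubnormal a,
      PQS.of_map _ hr (coprime_of_le hc (inf_le_inf_right _ le_top)) hb.pqs⟩

theorem pCompIn_map_subtype_iff {M : Subgroup G} {K : Subgroup M} :
    PCompIn p (K.map M.subtype) M ↔ IsPComponent p K := by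
  rw [← pCompIn_top_iff, ← pCompIn_map_iff M.subtype_injective, map_subtype_top]

theorem pCompIn_iff {K M : Subgroup G} :
    PCompIn p K M ↔ K ≤ M ∧ IsPComponent p (K.subgroupOf M) := by
  refine ⟨fun h => ⟨h.subn.le, pCompIn_map_subtype_iff.1 ?_⟩, fun h => ?_⟩
  · rwa [map_subgroupOf_eq_of_le h.subn.le]
  · have := pCompIn_map_subtype_iff.2 h.2
    rwa [map_subgroupOf_eq_of_le h.1] at this

theorem PLay_top : PLay p (⊤ : Subgroup G) = pLayer p G := by
  simp only [PLay, pLayer, pCompIn_top_iff]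

theorem map_pLayer (M : Subgroup G) : (pLayer p M).map M.subtype = PLay p M := by
  rw [← PLay_top, map_PLay_of_injective M.subtype_injective, map_subtype_top]

theorem map_pLayer_mk :
    (pLayer p G).map (QuotientGroup.mk' (pPrimeCore p G)) = layer (G ⧸ pPrimeCore p G) := by
  rw [← PLay_top, map_PLay_eq_Lay _ top_inf_ker_mk_pPrimeCore, map_top_mk, Lay_top]

theorem comap_layer_mk :
    (layer (G ⧸ pPrimeCore p G)).comap (QuotientGroup.mk' (pPrimeCore p G)) =
      pLayer p G ⊔ pPrimeCore p G := by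
  rw [← map_pLayer_mk, comap_map_eq, QuotientGroup.ker_mk']

/-- The full preimage of the layer of `M / O_{p'}(M)`. -/
theorem map_comap_layer_mk (M : Subgroup G) :
    ((layer (M ⧸ pPrimeCore p M)).comap (QuotientGroup.mk' (pPrimeCore p M))).map M.subtype =
      PLay p M ⊔ Opp p M := by
  rw [comap_layer_mk, Subgroup.map_sup, map_pLayer, map_pPrimeCore]

theorem le_normalizer_PLay {A M : Subgroup G} (h : A ≤ normalizer (M : Set G)) :
    A ≤ normalizer (PLay p M : Set G) :=
  le_normalizer_sSup fun _ hg _ hK => PCompIn.cj_of_mem hK (h hg)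

theorem PLay_subnIn (M : Subgroup G) : SubnIn (PLay p M) M :=
  SubnIn.of_normalizer (PLay_le p M) (le_normalizer_PLay le_normalizer)

instance pLayer_normal : (pLayer p G).Normal := by
  rw [← PLay_top]; exact normal_iff_top_le_normalizer.2 (le_normalizer_PLay le_normalizer)

theorem PLay_perfect (M : Subgroup G) : ⁅PLay p M, PLay p M⁆ = PLay p M :=
  le_antisymm (commutator_le_left_of_le_normalizer le_normalizer) (PLay_le_iff.2 fun _ hK =>
    hK.pqs.perfect.ge.trans (commutator_mono hK.le_PLay hK.le_PLay))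

theorem Resp_PLay (M : Subgroup G) : Resp p (PLay p M) = PLay p M :=
  le_antisymm (ResPi_le _ _) (PLay_le_iff.2 fun _ hK =>
    hK.pqs.resp.ge.trans (ResPi_mono hK.le_PLay))

theorem PLay_mono_subnIn {N M : Subgroup G} (h : SubnIn N M) : PLay p N ≤ PLay p M :=
  PLay_le_iff.2 fun _ hK => (hK.trans h).le_PLay

theorem PLay_le_PLay_of_le {N M : Subgroup G} (h1 : PLay p M ≤ N) (h2 : N ≤ M) :
    PLay p M ≤ PLay p N :=
  PLay_le_iff.2 fun _ hK => (hK.of_le (hK.le_PLay.trans h1) h2).le_PLay

theorem PLay_PLay (M : Subgroup G) : PLay p (PLay p M) = PLay p M :=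
  le_antisymm (PLay_le _ _) (PLay_le_PLay_of_le le_rfl (PLay_le p M))

theorem pCompIn_PLay_iff {K M : Subgroup G} : PCompIn p K (PLay p M) ↔ PCompIn p K M :=
  ⟨fun h => h.trans (PLay_subnIn M), fun h => h.of_le h.le_PLay (PLay_le p M)⟩

theorem PLay_eq_of_pqs {K : Subgroup G} (h : PQS p K) : PLay p K = K :=
  le_antisymm (PLay_le p K) (PCompIn.le_PLay ⟨SubnIn.refl K, h⟩)

theorem PLay_eq_bot_iff {M : Subgroup G} : PLay p M = ⊥ ↔ ∀ K, ¬ PCompIn p K M :=
  ⟨fun h _ hK => hK.pqs.ne_bot (le_bot_iff.1 (h ▸ hK.le_PLay)),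
    fun h => le_bot_iff.1 (PLay_le_iff.2 fun K hK => absurd hK (h K))⟩

theorem Op_le_centralizer_PLay (M : Subgroup G) : Op p M ≤ centralizer (PLay p M : Set G) :=
  le_centralizer_iff.1 (PLay_le_iff.2 fun _ hK => le_centralizer_iff.1
    (hK.le_centralizer_of_isPGroup (Op_le p M) (le_normalizer_Op_of_le hK.le) (isPGroup_Op p M)))

theorem Lay_le_PLay_sup_Opp (M : Subgroup G) : Lay M ≤ PLay p M ⊔ Opp p M :=
  Lay_le_iff.2 fun _ hK => (hK.le_Opp_or_pCompIn p).elim (fun e => e.trans le_sup_right)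
    fun e => e.le_PLay.trans le_sup_left

theorem Resp_PLay_sup_Opp (M : Subgroup G) : Resp p (PLay p M ⊔ Opp p M) = PLay p M :=
  le_antisymm (Resp_sup_le' (le_normalizer_PLay ((Opp_le p M).trans le_normalizer))
    (coprime_Opp p M)) ((Resp_PLay M).ge.trans (ResPi_mono le_sup_left))

theorem Resp_Lay_le_PLay (M : Subgroup G) : Resp p (Lay M) ≤ PLay p M :=
  (ResPi_mono (Lay_le_PLay_sup_Opp M)).trans (Resp_PLay_sup_Opp M).le

theorem PLay_sup_Opp_le_Res (M : Subgroup G) :
    PLay p M ⊔ Opp p M = Res p (PLay p M ⊔ Opp p M) :=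
  le_antisymm (sup_le (le_Res_of_perfect (PLay_perfect M) le_sup_left)
    (le_Res le_sup_right (coprime_Opp p M))) (ResPi_le _ _)

/-- `L_{p'}(H) O_{p'}(H)` centralizes `O_p(M)` for `P C_M(P) ≤ H ≤ N_M(P)`. -/
theorem PLay_sup_Opp_le_centralizer_Op {M P H : Subgroup G} (hP : IsPGroup p P) (h1 : P ≤ H)
    (h2 : M ⊓ centralizer (P : Set G) ≤ H) (h3 : H ≤ M) (h4 : H ≤ normalizer (P : Set G)) :
    PLay p H ⊔ Opp p H ≤ centralizer (Op p M : Set G) := by
  rw [PLay_sup_Opp_le_Res]
  refine Res_le_of_forall_coprime fun Q a b => le_centralizer_Op_of_local hP h1 h2 h3 h4 b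
    (a.trans ((sup_le (PLay_le p H) (Opp_le p H)).trans h3)) (a.trans (sup_le ?_ ?_))
  · exact le_centralizer_iff.1 (Op_le_centralizer_PLay H)
  · exact le_centralizer_iff.1 (Op_le_centralizer_Opp p H)

end Cfsg.Agent.Comp
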