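/-
Action of `L_{p'}(N(P)) O_{p'}(N(P))` on the components of a group with trivial `p'`-core.
-/
import Cfsg.Agent.Lib.Comp.PComp

set_option autoImplicit false
set_option linter.unusedSectionVars false

namespace Cfsg.Agent.Comp

open Subgroup
open scoped commutatorElement

universe u

section
variable {G : Type*} [Group G]

theorem mem_zpowers_pow_of_coprime {y : G} {n : ℕ} (h : (orderOf y).Coprime n) :
    y ∈ zpowers (y ^ n) := by
  obtain ⟨m, hm⟩ := exists_pow_eq_self_of_coprime h.symm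
  exact ⟨m, by simpa using hm⟩

theorem mem_of_pow_mem_of_coprime {y : G} {n : ℕ} (h : (orderOf y).Coprime n) {H : Subgroup G}
    (hy : y ^ n ∈ H) : y ∈ H := zpowers_le.2 hy (mem_zpowers_pow_of_coprime h)

theorem cj_pow_eq_of_commute {y g : G} (hc : Commute y g) {L : Subgroup G}
    (h : cj(y, L) = cj(g, L)) (k : ℕ) : cj(y ^ k, L) = cj(g ^ k, L) := by
  induction k with
  | zero => rw [pow_zero, pow_zero]
  | succ k ih =>
    rw [pow_succ, cj_mul, h, ← cj_mul, (hc.pow_left k).eq, cj_mul, ih, ← cj_mul, ← pow_succ']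

theorem le_centralizer_sSup {S : Set (Subgroup G)} {A : Subgroup G} :
    A ≤ centralizer ((sSup S : Subgroup G) : Set G) ↔ ∀ K ∈ S, A ≤ centralizer (K : Set G) := by
  rw [le_centralizer_iff, sSup_le_iff]
  simp only [le_centralizer_iff (K := A)]

theorem le_centralizer_iSup {ι : Sort*} {S : ι → Subgroup G} {A : Subgroup G} :
    A ≤ centralizer ((⨆ i, S i : Subgroup G) : Set G) ↔ ∀ i, A ≤ centralizer (S i : Set G) := by
  rw [le_centralizer_iff, iSup_le_iff]
  simp only [le_centralizer_iff (K := A)]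

theorem le_centralizer_sup {A B C : Subgroup G} (h1 : A ≤ centralizer (B : Set G))
    (h2 : A ≤ centralizer (C : Set G)) : A ≤ centralizer ((B ⊔ C : Subgroup G) : Set G) := by
  rw [centralizer_sup]; exact le_inf h1 h2

theorem zpowers_le_centralizer_singleton (x : G) : zpowers x ≤ centralizer ({x} : Set G) := by
  rw [zpowers_le, mem_centralizer_singleton_iff]

theorem mem_centralizer_singleton_self (x : G) : x ∈ centralizer ({x} : Set G) := by
  rw [mem_centralizer_singleton_iff]

/-- The diagonal element `∏ x^i l x^{-i}`. -/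
theorem exists_diagonal {L E : Subgroup G} {x : G} {n : ℕ} (hn : x ^ n = 1) (hpos : 0 < n)
    (hLE : L ≤ E) (hx : x ∈ normalizer (E : Set G))
    (hc : ∀ i, 0 < i → i < n → cj(x ^ i, L) ≤ centralizer (L : Set G)) {l : G} (hl : l ∈ L) :
    ∃ c ∈ E ⊓ centralizer ({x} : Set G), l⁻¹ * c ∈ E ⊓ centralizer (L : Set G) := by
  have key : ∀ k, k < n → l⁻¹ * ((l * x) ^ (k + 1) * (x ^ (k + 1))⁻¹) ∈
      E ⊓ centralizer (L : Set G) := by
    intro k
    induction k with
    | zero => intro _; simp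
    | succ k ih =>
      intro hk
      have e : l⁻¹ * ((l * x) ^ (k + 1 + 1) * (x ^ (k + 1 + 1))⁻¹) =
          l⁻¹ * ((l * x) ^ (k + 1) * (x ^ (k + 1))⁻¹) * (x ^ (k + 1) * l * (x ^ (k + 1))⁻¹) := by
        rw [pow_succ (l * x) (k + 1), pow_succ' x (k + 1)]; group
      rw [e]
      exact mul_mem (ih (by omega)) ⟨conj_mem_of_mem_normalizer (pow_mem hx _) (hLE hl),
        hc (k + 1) (by omega) hk (conj_mem_cj.2 hl)⟩
  obtain ⟨k, rfl⟩ : ∃ k, n = k + 1 := ⟨n - 1, by omega⟩
  have h := key k (by omega)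
  rw [hn, inv_one, mul_one] at h
  refine ⟨(l * x) ^ (k + 1), ⟨(E.mul_mem_cancel_left (inv_mem (hLE hl))).1 h.1, ?_⟩, h⟩
  refine mem_centralizer_singleton_iff.2 ?_
  have h1 : Commute ((l * x) ^ (k + 1)) (l * x) := (Commute.refl _).pow_left _
  have h2 : Commute ((l * x) ^ (k + 1)) l := by
    have h3 : Commute l (l⁻¹ * (l * x) ^ (k + 1)) := h.2 l hl
    have := ((Commute.refl l).mul_right h3).symm
    rwa [mul_inv_cancel_left] at this
  have := h2.inv_right.mul_right h1
  rwa [inv_mul_cancel_left] at this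

theorem CompIn.le_sup_of_not_mem_normalizer [Finite G] {L M : Subgroup G} (hL : CompIn L M) {x : G}
    (hp : (orderOf x).Prime) (hx : x ∈ normalizer (M : Set G)) (hn : x ∉ normalizer (L : Set G)) :
    L ≤ (Lay M ⊓ centralizer ({x} : Set G)) ⊔ (Lay M ⊓ centralizer (L : Set G)) := by
  intro l hl
  obtain ⟨c, h1, h2⟩ := exists_diagonal (pow_orderOf_eq_one x) hp.pos hL.le_Lay
    (normalizer_le_normalizer_Lay M hx) (fun i a b => (hL.cj_of_mem (pow_mem hx i)).le_centralizer_of_ne
      hL fun e => hn (mem_of_pow_mem_of_coprime (Nat.coprime_of_lt_prime a.ne' b hp)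
        (cj_eq_self_iff.1 e))) hl
  have : l = c * (l⁻¹ * c)⁻¹ := by group
  rw [this]
  exact mul_mem (mem_sup_left h1) (mem_sup_right (inv_mem h2))

end

variable {G : Type u} [Group G] [Finite G] {p : ℕ} [hp : Fact p.Prime]

theorem PLay_sup_Opp_le_of_le_subnIn {C N N' : Subgroup G} (h1 : C ≤ N) (h2 : SubnIn C N')
    (h3 : PLay p N ⊔ Opp p N ≤ C) : PLay p N ⊔ Opp p N ≤ PLay p N' ⊔ Opp p N' :=
  sup_le_sup ((PLay_le_PLay_of_le (le_sup_left.trans h3) h1).trans (PLay_mono_subnIn h2))
    ((Opp_le_Opp h1 (le_sup_right.trans h3)).trans (h2.Opp_le p))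

theorem PLay_sup_Opp_le_centralizer {N : Subgroup G} :
    PLay p N ⊔ Opp p N ≤ centralizer (Op p N : Set G) :=
  sup_le (le_centralizer_iff.1 (Op_le_centralizer_PLay N))
    (le_centralizer_iff.1 (Op_le_centralizer_Opp p N))

/-- Passing from `P` to `P O_p(M)`. -/
theorem PLay_sup_Opp_le_local {M P H : Subgroup G} (hP : IsPGroup p P) (h1 : P ≤ H)
    (h2 : M ⊓ centralizer (P : Set G) ≤ H) (h3 : H ≤ M) (h4 : H ≤ normalizer (P : Set G)) :
    PLay p H ⊔ Opp p H ≤ PLay p (M ⊓ normalizer ((P ⊔ Op p M : Subgroup G) : Set G)) ⊔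
      Opp p (M ⊓ normalizer ((P ⊔ Op p M : Subgroup G) : Set G)) := by
  refine PLay_sup_Opp_le_of_le_subnIn (C := M ⊓ centralizer ((P ⊔ Op p M : Subgroup G) : Set G))
    ((inf_le_inf_left _ (centralizer_mono le_sup_left)).trans h2)
    (SubnIn.of_normalizer (inf_le_inf_left _ (centralizer_le_normalizer _))
      (le_normalizer_inf (inf_le_left.trans le_normalizer) (le_normalizer_centralizer inf_le_right)))
    (le_inf ((sup_le (PLay_le p H) (Opp_le p H)).trans h3) (le_centralizer_sup ?_ ?_))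
  · exact PLay_sup_Opp_le_centralizer.trans (centralizer_mono (le_Op h1 h4 hP))
  · exact PLay_sup_Opp_le_centralizer_Op hP h1 h2 h3 h4

theorem CompIn.Resp_eq {L M : Subgroup G} (hL : CompIn L M) (hO : Opp p M = ⊥) : Resp p L = L :=
  (hL.pCompIn_of_Opp_eq_bot hO).pqs.resp

theorem CompIn.mem_normalizer_of_commutator_coprime {L M P R : Subgroup G} (hL : CompIn L M)
    (hO : Opp p M = ⊥) (hP : IsPGroup p P) (h1 : P ≤ M) (h2 : Op p M ≤ P) {y : G} (hy : y ∈ M)
    (hy1 : (orderOf y).Coprime p) (hy2 : y ∈ centralizer (P : Set G))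
    (hR : (Nat.card R).Coprime p)
    (hy3 : ∀ t ∈ Lay M ⊓ normalizer (P : Set G), ⁅y, t⁆ ∈ R) : y ∈ normalizer (L : Set G) := by
  by_cases hA : ∃ g ∈ P, cj(y, L) = cj(g, L)
  · obtain ⟨g, hg, e⟩ := hA
    obtain ⟨k, hk⟩ := IsPGroup.exists_pow_eq_one hP hg
    have := cj_pow_eq_of_commute (show Commute y g from (hy2 g hg).symm) e (p ^ k)
    rw [hk, cj_one, cj_eq_self_iff] at this
    exact mem_of_pow_mem_of_coprime (hy1.pow_right k) this
  exfalso
  push Not at hA
  set D := L ⊔ ⁅L, P⁆ with hD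
  have hDi : D = ⨆ g : P, cj((g : G), L) := sup_commutator_eq_iSup L P
  have hcomp : ∀ g ∈ M, CompIn cj(g, L) M := fun g hg => hL.cj_of_mem (le_normalizer hg)
  have hDE : D ≤ Lay M := by rw [hDi]; exact iSup_le fun g => (hcomp g (h1 g.2)).le_Lay
  have hDM : SubnIn D M := by rw [hDi]; exact SubnIn.iSup fun g => (hcomp g (h1 g.2)).subn
  have hPD : P ≤ normalizer (D : Set G) := le_normalizer_sup_commutator L P
  have hyD : cj(y, D) ≤ centralizer (D : Set G) := by
    rw [hDi, Subgroup.map_iSup, iSup_le_iff]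
    intro g
    rw [le_centralizer_iSup]
    intro g'
    rw [← cj_mul]
    refine (hcomp _ (mul_mem hy (h1 g.2))).le_centralizer_of_ne (hcomp _ (h1 g'.2)) fun e => ?_
    refine hA ((g : G)⁻¹ * g') (mul_mem (inv_mem g.2) g'.2) ?_
    rw [← hy2 g g.2, cj_mul] at e
    rw [cj_mul, ← e, cj_inv_cj]
  obtain ⟨S, hPS, hS⟩ := exists_sylIn_ge hP (le_sup_right : P ≤ D ⊔ P)
  have hU : SylIn p (S ⊓ D) D := hS.inf_normal le_sup_left (hS.le.trans (sup_le le_normalizer hPD))
  have hUC : ¬ S ⊓ D ≤ centralizer (D : Set G) := fun h => hL.qs.not_le_centralizer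
    (((hL.Resp_eq hO).ge.trans ((ResPi_mono le_sup_left).trans (hU.Resp_le h
      (le_normalizer_centralizer le_normalizer)))).trans (centralizer_mono le_sup_left))
  have hZ : D ⊓ centralizer (D : Set G) ≤ P :=
    ((center_le_Fit D).trans hDM.Fit_le).trans ((Fit_eq_Op hO).le.trans h2)
  obtain ⟨t, ht1, ht2, ht3⟩ : ∃ t ∈ S ⊓ D, t ∈ normalizer (P : Set G) ∧
      t ∉ centralizer (D : Set G) := by
    by_cases hle : S ⊓ D ≤ P
    · obtain ⟨t, a, b⟩ := SetLike.not_le_iff_exists.1 hUC
      exact ⟨t, a, le_normalizer (hle a), b⟩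
    · have hlt : P < P ⊔ (S ⊓ D) := left_lt_sup.2 hle
      have := lt_inf_normalizer_of_isPGroup (hS.isP.to_le (sup_le hPS inf_le_left)) hlt
      rw [sup_inf_of_le_normalizer (le_normalizer_inf (hPS.trans le_normalizer) hPD) le_normalizer,
        left_lt_sup] at this
      obtain ⟨t, a, b⟩ := SetLike.not_le_iff_exists.1 this
      exact ⟨t, a.1, a.2, fun c => b (hZ ⟨a.1.2, c⟩)⟩
  have hpg : IsPGroup p (cj(y, S ⊓ D) ⊔ (S ⊓ D) : Subgroup G) :=
    (isPGroup_cj_iff.2 hU.isP).to_sup_of_normal_right' hU.isP (le_normalizer_of_le_centralizer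
      (((cj_mono y inf_le_right).trans hyD).trans (centralizer_mono inf_le_right)))
  have hm : ⁅y, t⁆ ∈ (cj(y, S ⊓ D) ⊔ (S ⊓ D)) ⊓ R :=
    ⟨mul_mem (mem_sup_left (conj_mem_cj.2 ht1)) (mem_sup_right (inv_mem ht1)),
      hy3 t ⟨hDE ht1.2, ht2⟩⟩
  rw [inf_eq_bot_of_isPGroup hpg hR, mem_bot, commutatorElement_def, mul_inv_eq_one] at hm
  exact ht3 (hm ▸ hyD (conj_mem_cj.2 ht1.2))

theorem CompIn.PLay_sup_Opp_le_normalizer_aux {L M P : Subgroup G} (hL : CompIn L M)
    (hO : Opp p M = ⊥) (hP : IsPGroup p P) (h1 : P ≤ M) (h2 : Op p M ≤ P) :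
    PLay p (M ⊓ normalizer (P : Set G)) ⊔ Opp p (M ⊓ normalizer (P : Set G)) ≤
      normalizer (L : Set G) := by
  set N := M ⊓ normalizer (P : Set G) with hN
  have hPN : P ≤ Op p N := le_Op (le_inf h1 le_normalizer) inf_le_right hP
  have hEN : SubnIn (Lay M ⊓ normalizer (P : Set G)) N := (Lay_subnIn M).inf_right _
  have key : ∀ Y, Y ≤ PLay p N ⊔ Opp p N → Res p Y = Y →
      ⁅Y, Lay M ⊓ normalizer (P : Set G)⁆ ≤ Opp p N → Y ≤ normalizer (L : Set G) := by
    intro Y a b c
    rw [← b, Res_eq_closure, closure_le]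
    rintro y ⟨d, e⟩
    exact hL.mem_normalizer_of_commutator_coprime hO hP h1 h2
      (((sup_le (PLay_le p N) (Opp_le p N)).trans inf_le_left) (a d)) e
      ((PLay_sup_Opp_le_centralizer.trans (centralizer_mono hPN)) (a d)) (coprime_Opp p N)
      fun t ht => c (commutator_mem_commutator d ht)
  refine sup_le (PLay_le_iff.2 fun K hK => ?_) (key _ le_sup_right
    (le_antisymm (ResPi_le _ _) (le_Res le_rfl (coprime_Opp p N)))
    (commutator_le_left_of_le_normalizer (le_normalizer_Opp_of_le hEN.le)))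
  rcases hK.le_or_commutator hEN with e | e
  · exact (e.trans inf_le_left).trans hL.Lay_le_normalizer
  · exact key K (hK.le_PLay.trans le_sup_left) (Res_eq_self_of_perfect hK.pqs.perfect)
      (by rwa [commutator_comm])

/-- If `O_{p'}(M) = 1`, then `L_{p'}(H) O_{p'}(H)` normalizes each component of `M`,
for `P C_M(P) ≤ H ≤ N_M(P)`. -/
theorem CompIn.PLay_sup_Opp_le_normalizer {L M P H : Subgroup G} (hL : CompIn L M)
    (hO : Opp p M = ⊥) (hP : IsPGroup p P) (h1 : P ≤ H)
    (h2 : M ⊓ centralizer (P : Set G) ≤ H) (h3 : H ≤ M) (h4 : H ≤ normalizer (P : Set G)) :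
    PLay p H ⊔ Opp p H ≤ normalizer (L : Set G) :=
  (PLay_sup_Opp_le_local hP h1 h2 h3 h4).trans (hL.PLay_sup_Opp_le_normalizer_aux hO
    (hP.to_sup_of_normal_right' (isPGroup_Op p M) (le_normalizer_Op_of_le (h1.trans h3)))
    (sup_le (h1.trans h3) (Op_le p M)) le_sup_right)

theorem CompIn.PLay_sup_Opp_centralizer_le_normalizer {L M : Subgroup G} (hL : CompIn L M)
    (hO : Opp p M = ⊥) {x : G} (hx : x ∈ M) (hx' : IsPGroup p (zpowers x)) :
    PLay p (M ⊓ centralizer ({x} : Set G)) ⊔ Opp p (M ⊓ centralizer ({x} : Set G)) ≤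
      normalizer (L : Set G) :=
  hL.PLay_sup_Opp_le_normalizer hO hx'
    (le_inf (zpowers_le.2 hx) (zpowers_le_centralizer_singleton x)) (by rw [centralizer_zpowers])
    inf_le_left (inf_le_right.trans
      (by rw [← centralizer_zpowers]; exact centralizer_le_normalizer _))

theorem PLay_sup_Opp_centralizer_le_centralizer_Op {M : Subgroup G} {x : G} (hx : x ∈ M)
    (hx' : IsPGroup p (zpowers x)) :
    PLay p (M ⊓ centralizer ({x} : Set G)) ⊔ Opp p (M ⊓ centralizer ({x} : Set G)) ≤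
      centralizer (Op p M : Set G) :=
  PLay_sup_Opp_le_centralizer_Op hx'
    (le_inf (zpowers_le.2 hx) (zpowers_le_centralizer_singleton x)) (by rw [centralizer_zpowers])
    inf_le_left (inf_le_right.trans
      (by rw [← centralizer_zpowers]; exact centralizer_le_normalizer _))

/-- A subgroup `X ≤ C_M(x)` normalizing the component `L` moved by `x` and acting on
`C_{E(M)}(x)` with commutator a `p'`-group centralizes `L`. -/
theorem CompIn.le_centralizer_of_not_mem_normalizer {L M X R : Subgroup G} (hL : CompIn L M)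
    (hr : Resp p L = L) {x : G} (hx : (orderOf x).Prime) (hxM : x ∈ normalizer (M : Set G))
    (hn : x ∉ normalizer (L : Set G)) (hX : X ≤ normalizer (L : Set G))
    (hR : (Nat.card R).Coprime p) (hRE : R ≤ Lay M)
    (hR1 : Lay M ⊓ centralizer ({x} : Set G) ≤ normalizer (R : Set G))
    (hR2 : ⁅Lay M ⊓ centralizer ({x} : Set G), X⁆ ≤ R) : X ≤ centralizer (L : Set G) := by
  have hle := hL.le_sup_of_not_mem_normalizer hx hxM hn
  have hC : Lay M ≤ normalizer ((Lay M ⊓ centralizer (L : Set G) : Subgroup G) : Set G) :=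
    le_normalizer_inf le_normalizer (le_normalizer_centralizer hL.Lay_le_normalizer)
  have h1 : R ≤ centralizer (L : Set G) := by
    refine le_sup_right.trans ((hL.compIn_Lay.le_or_le_centralizer_of_normalizer
      (H := (Lay M ⊓ centralizer (L : Set G)) ⊔ R) (sup_le inf_le_left hRE) (hle.trans (sup_le
        (le_normalizer_sup (inf_le_left.trans hC) hR1)
        (le_sup_left.trans le_normalizer)))).resolve_left fun e => hL.qs.not_le_centralizer ?_)
    exact (hr.ge.trans ((ResPi_mono e).trans (Resp_sup_le' (hRE.trans hC) hR))).trans inf_le_right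
  have h2 : ⁅L, X⁆ ≤ centralizer (L : Set G) := by
    refine (commutator_mono hle le_rfl).trans (commutator_sup_left_le
      (le_normalizer_centralizer (inf_le_left.trans hL.Lay_le_normalizer))
      (inf_le_right.trans le_normalizer) (hR2.trans h1) ?_)
    exact (commutator_mono inf_le_right le_rfl).trans
      (commutator_le_left_of_le_normalizer (le_normalizer_centralizer hX))
  rw [← commutator_eq_bot_iff_le_centralizer]
  rw [commutator_comm] at h2
  exact commutator_eq_bot_of_perfect hL.qs.perfect (commutator_eq_bot_iff_le_centralizer.2 h2)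

theorem CompIn.Opp_centralizer_le_centralizer {L M : Subgroup G} (hL : CompIn L M)
    (hO : Opp p M = ⊥) {x : G} (hxM : x ∈ M) (hx : orderOf x = p) (hne : ⁅L, zpowers x⁆ ≠ L) :
    Opp p (M ⊓ centralizer ({x} : Set G)) ≤ centralizer (L : Set G) := by
  by_cases hn : x ∈ normalizer (L : Set G)
  · have h1 := (hL.qs.commutator_eq_or (zpowers_le.2 hn)).resolve_left hne
    rw [commutator_eq_bot_iff_le_centralizer, centralizer_zpowers] at h1
    refine ((hL.of_le (le_inf hL.le h1) inf_le_left).le_or_le_centralizer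
      (Opp_subnIn p _)).resolve_left fun e => ?_
    exact (hL.pCompIn_of_Opp_eq_bot hO).pqs.not_le_of_coprime (coprime_Opp p _) e
  · have hle : Lay M ⊓ centralizer ({x} : Set G) ≤ M ⊓ centralizer ({x} : Set G) :=
      inf_le_inf_right _ (Lay_le M)
    refine hL.le_centralizer_of_not_mem_normalizer (hL.Resp_eq hO) (hx ▸ hp.out)
      (le_normalizer hxM) hn (le_sup_right.trans (hL.PLay_sup_Opp_centralizer_le_normalizer hO hxM
        (isPGroup_zpowers_of_orderOf_eq hx)))
      (R := Opp p (M ⊓ centralizer ({x} : Set G)) ⊓ Lay M)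
      (coprime_of_le (coprime_Opp p _) inf_le_left) inf_le_right
      (le_normalizer_inf (le_normalizer_Opp_of_le hle) (inf_le_left.trans le_normalizer))
      (le_inf (commutator_le_right_of_le_normalizer (le_normalizer_Opp_of_le hle)) ?_)
    exact (commutator_mono inf_le_left le_rfl).trans (commutator_le_left_of_le_normalizer
      (le_normalizer_Lay (((Opp_le p _).trans inf_le_left).trans le_normalizer)))

theorem centralizerPPrimeCore_eq (p : ℕ) (x : G) :
    centralizerPPrimeCore p x = Opp p (centralizer ({x} : Set G)) := rfl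

end Cfsg.Agent.Comp
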