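/-
Centralizers and normalizers in coprime quotients, `O_{p',p}`, `p`-constraint, hyperplanes,
products of subgroups, and the action on the central quotient.
-/
import Cfsg.Agent.Lib.Comp.Bal
import Cfsg.Agent.Lib.Solv.Gen

set_option autoImplicit false
set_option linter.unusedSectionVars false

namespace Cfsg.Agent.Comp

open Subgroup
open scoped commutatorElement Pointwise

universe u

section
variable {G : Type*} [Group G]

theorem subgroupOf_centralizer {P M : Subgroup G} (h : P ≤ M) :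
    (centralizer (P : Set G)).subgroupOf M = centralizer (P.subgroupOf M : Set M) := by
  apply map_injective M.subtype_injective
  rw [map_subtype_centralizer, map_subgroupOf_eq_of_le h, subgroupOf_map_subtype, inf_comm]

theorem subgroupOf_centralizer_singleton {M : Subgroup G} (x : M) :
    (centralizer ({(x : G)} : Set G)).subgroupOf M = centralizer ({x} : Set M) := by
  ext y
  rw [mem_subgroupOf, mem_centralizer_singleton_iff, mem_centralizer_singleton_iff, Subtype.ext_iff]
  rfl

theorem map_subtype_centralizer_singleton {M : Subgroup G} (x : M) :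
    (centralizer ({x} : Set M)).map M.subtype = M ⊓ centralizer ({(x : G)} : Set G) := by
  rw [← subgroupOf_centralizer_singleton, subgroupOf_map_subtype, inf_comm]

theorem subgroupOf_inf' (A B M : Subgroup G) :
    (A ⊓ B).subgroupOf M = A.subgroupOf M ⊓ B.subgroupOf M := comap_inf _ _ _

theorem isMulCommutative_iff_le {A : Subgroup G} :
    IsMulCommutative A ↔ A ≤ centralizer (A : Set G) := le_centralizer_iff_isMulCommutative.symm

theorem le_normalizer_of_forall {A K : Subgroup G} (h : ∀ b ∈ A, ∀ x ∈ K, b * x * b⁻¹ ∈ K) :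
    A ≤ normalizer (K : Set G) := le_normalizer_iff.2 h

theorem le_normalizer_centralizer_singleton {A : Subgroup G} {a : G}
    (h : A ≤ centralizer ({a} : Set G)) : A ≤ normalizer (centralizer ({a} : Set G) : Set G) :=
  h.trans le_normalizer

theorem centralizer_le_centralizer_singleton {A : Subgroup G} {a : G} (h : a ∈ A) :
    centralizer (A : Set G) ≤ centralizer ({a} : Set G) := centralizer_le (Set.singleton_subset_iff.2 h)

theorem le_centralizer_iff_forall {A K : Subgroup G} :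
    K ≤ centralizer (A : Set G) ↔ ∀ a ∈ A, K ≤ centralizer ({a} : Set G) :=
  ⟨fun h _ ha => h.trans (centralizer_le_centralizer_singleton ha),
    fun h _ hx a ha => (mem_centralizer_singleton_iff.1 (h a ha hx)).symm⟩

theorem le_centralizer_one (K : Subgroup G) : K ≤ centralizer ({1} : Set G) := fun x _ => by
  rw [mem_centralizer_singleton_iff, mul_one, one_mul]

theorem IsElementaryAbelian.le_centralizer {p : ℕ} {A : Subgroup G} (h : IsElementaryAbelian p A) :
    A ≤ centralizer (A : Set G) := isMulCommutative_iff_le.1 h.1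

theorem IsElementaryAbelian.isPGroup {p : ℕ} {A : Subgroup G} (h : IsElementaryAbelian p A) :
    IsPGroup p A := isPGroup_of_forall fun x hx => ⟨1, by rw [pow_one]; exact h.2 x hx⟩

theorem IsElementaryAbelian.of_le {p : ℕ} {A B : Subgroup G} (h : IsElementaryAbelian p A)
    (hB : B ≤ A) : IsElementaryAbelian p B :=
  ⟨isMulCommutative_iff_le.2 (hB.trans ((IsElementaryAbelian.le_centralizer h).trans
    (centralizer_mono hB))), fun a ha => h.2 a (hB ha)⟩

theorem IsElementaryAbelian.orderOf_eq {p : ℕ} [Fact p.Prime] {A : Subgroup G}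
    (h : IsElementaryAbelian p A) {a : G} (ha : a ∈ A) (h1 : a ≠ 1) : orderOf a = p :=
  orderOf_eq_prime (h.2 a ha) h1

theorem IsElementaryAbelian.le_centralizer_singleton {p : ℕ} {A : Subgroup G}
    (h : IsElementaryAbelian p A) {a : G} (ha : a ∈ A) : A ≤ centralizer ({a} : Set G) :=
  (IsElementaryAbelian.le_centralizer h).trans (centralizer_le_centralizer_singleton ha)

theorem IsElementaryAbelian.map {p : ℕ} {A : Subgroup G} (h : IsElementaryAbelian p A)
    {G' : Type*} [Group G'] (f : G →* G') : IsElementaryAbelian p (A.map f) :=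
  ⟨isMulCommutative_iff_le.2 (map_le_centralizer_map f (IsElementaryAbelian.le_centralizer h)), by
    rintro _ ⟨a, ha, rfl⟩; rw [← map_pow, h.2 a ha, map_one]⟩

theorem isElementaryAbelian_zpowers {p : ℕ} {x : G} (h : x ^ p = 1) :
    IsElementaryAbelian p (zpowers x) :=
  ⟨inferInstance, by rintro _ ⟨k, rfl⟩; rw [← zpow_natCast, ← zpow_mul, mul_comm, zpow_mul,
    zpow_natCast, h, one_zpow]⟩

theorem IsElementaryAbelian.sup {p : ℕ} {A B : Subgroup G} (hA : IsElementaryAbelian p A)
    (hB : IsElementaryAbelian p B) (h : A ≤ centralizer (B : Set G)) :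
    IsElementaryAbelian p (A ⊔ B) := by
  refine ⟨isMulCommutative_iff_le.2 (sup_le (le_centralizer_sup
    (IsElementaryAbelian.le_centralizer hA) h) (le_centralizer_sup (le_centralizer_iff.1 h)
    (IsElementaryAbelian.le_centralizer hB))), fun x hx => ?_⟩
  obtain ⟨a, ha, b, hb, rfl⟩ := (mem_sup_of_le_normalizer (le_normalizer_of_le_centralizer h)).1 hx
  rw [Commute.mul_pow (h ha b hb).symm, hA.2 a ha, hB.2 b hb, one_mul]

theorem IsElementaryAbelian.not_isCyclic {p : ℕ} [hp : Fact p.Prime] {A : Subgroup G}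
    (h : IsElementaryAbelian p A) (h2 : p ^ 2 ≤ Nat.card A) : ¬ IsCyclic A := by
  intro hc
  obtain ⟨a, ha, hle⟩ := Solv.isCyclic_iff_exists_le_zpowers.1 hc
  have h1 : Nat.card A ∣ p := by
    refine (card_dvd_of_le hle).trans ?_
    rw [Nat.card_zpowers]; exact orderOf_dvd_of_pow_eq_one (h.2 a ha)
  have := Nat.le_of_dvd hp.out.pos h1
  have h3 := hp.out.one_lt
  nlinarith

variable [Finite G]

theorem map_inf_centralizer {G' : Type*} [Group G'] (f : G →* G') {M A : Subgroup G}
    (hA : A ≤ normalizer (M : Set G))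
    (hcop : (Nat.card A).Coprime (Nat.card (M ⊓ f.ker : Subgroup G)))
    (hs : Group.IsSolvable A ∨ Group.IsSolvable (M ⊓ f.ker : Subgroup G)) :
    (M ⊓ centralizer (A : Set G)).map f = M.map f ⊓ centralizer (A.map f : Set G') := by
  refine le_antisymm (le_inf (map_mono inf_le_left) (map_le_centralizer_map f inf_le_right)) ?_
  rintro _ ⟨⟨x, hx, rfl⟩, h2⟩
  obtain ⟨n, hn, hc⟩ := Solv.coprime_fixed_coset (le_normalizer_inf hA (le_normalizer_ker f A))
    hcop hs (le_normalizer_inf le_normalizer (le_normalizer_ker f M) hx) (fun a ha =>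
      ⟨M.mul_mem (conj_mem_of_le_normalizer hA ha hx) (M.inv_mem hx), by
        have : f a * f x = f x * f a := h2 _ ⟨a, ha, rfl⟩
        change f _ = 1
        simp only [map_mul, map_inv, this]; group⟩)
  exact ⟨n * x, ⟨mul_mem hn.1 hx, hc⟩, by rw [map_mul, (show f n = 1 from hn.2), one_mul]⟩

theorem map_inf_centralizer_singleton {G' : Type*} [Group G'] (f : G →* G') {M : Subgroup G} {a : G}
    (hA : a ∈ normalizer (M : Set G))
    (hcop : (orderOf a).Coprime (Nat.card (M ⊓ f.ker : Subgroup G))) :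
    (M ⊓ centralizer ({a} : Set G)).map f = M.map f ⊓ centralizer ({f a} : Set G') := by
  rw [← centralizer_zpowers, ← centralizer_zpowers, ← MonoidHom.map_zpowers]
  exact map_inf_centralizer f (zpowers_le.2 hA) (by rwa [Nat.card_zpowers])
    (Or.inl (Solv.isSolvable_zpowers a))

theorem coprime_card_of_isPGroup {p : ℕ} {A : Subgroup G} {n : ℕ} (hA : IsPGroup p A)
    (hB : n.Coprime p) : (Nat.card A).Coprime n := by
  obtain ⟨k, hk⟩ := isPGroup_iff_card_dvd_pow.1 hA
  exact (Nat.Coprime.pow_right k hB).symm.coprime_dvd_left hk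

theorem map_inf_normalizer {G' : Type*} [Group G'] (f : G →* G') {p : ℕ} [Fact p.Prime]
    {M P : Subgroup G} (hPM : P ≤ M) (hP : IsPGroup p P)
    (hcop : (Nat.card (M ⊓ f.ker : Subgroup G)).Coprime p) :
    (M ⊓ normalizer (P : Set G)).map f = M.map f ⊓ normalizer (P.map f : Set G') := by
  refine le_antisymm (le_inf (map_mono inf_le_left) (map_le_normalizer_map f inf_le_right)) ?_
  rintro _ ⟨⟨x, hx, rfl⟩, h2⟩
  have hN : M ≤ normalizer ((M ⊓ f.ker : Subgroup G) : Set G) :=
    le_normalizer_inf le_normalizer (le_normalizer_ker f M)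
  have hS : SylIn p P (P ⊔ (M ⊓ f.ker)) := sylIn_of_not_dvd le_sup_left hP fun hd =>
    coprime_iff_not_dvd.1 hcop (hd.trans (relIndex_sup_dvd_card (hPM.trans hN)))
  have hx2 : x ∈ normalizer ((P ⊔ (M ⊓ f.ker) : Subgroup G) : Set G) := by
    refine mem_normalizer_of_conj_mem fun k hk => cj_le_iff'.1 ?_ k hk
    rw [cj_sup, cj_eq_self_iff.2 (hN hx)]
    refine sup_le ?_ le_sup_right
    have e : (cj(x, P)).map f ≤ P.map f := by rw [map_cj, cj_eq_self_iff.2 h2]
    rw [inf_comm, ← sup_inf_of_le_normalizer (le_normalizer_ker f P) hPM]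
    exact le_inf (Subgroup.map_le_map_iff.1 e) (cj_le_of_mem hPM (le_normalizer hx))
  obtain ⟨g, hg, e⟩ := (hS.cj_of_mem hx2).exists_cj_eq hS
  obtain ⟨a, ha, n, hn, rfl⟩ := (mem_sup_of_le_normalizer (hPM.trans hN)).1 hg
  rw [← cj_mul, cj_eq_self_iff, mul_assoc] at e
  exact ⟨n * x, ⟨mul_mem hn.1 hx, (Subgroup.mul_mem_cancel_left _ (le_normalizer ha)).1 e⟩,
    by rw [map_mul, (show f n = 1 from hn.2), one_mul]⟩

/-! ### Hyperplanes -/

theorem exists_relIndex_eq_prime {p : ℕ} [hp : Fact p.Prime] {A B : Subgroup G} (hA : IsPGroup p A)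
    (h : B < A) : ∃ D, B ≤ D ∧ D ≤ A ∧ D.relIndex A = p ∧ A ≤ normalizer (D : Set G) := by
  obtain ⟨D, h1, h2, h3⟩ := exists_maximal_subgroup (P := fun D => D < A) h
  have hn : A ≤ normalizer (D : Set G) := by
    have := lt_inf_normalizer_of_isPGroup hA h2
    by_contra hne
    exact this.ne' (h3 _ (lt_of_le_of_ne inf_le_left fun e => hne (inf_eq_left.1 e)) this.le)
  refine ⟨D, h1, h2.le, ?_, hn⟩
  have hco : IsCoatom (D.subgroupOf A) := by
    refine ⟨fun e => h2.not_ge (subgroupOf_eq_top.1 e), fun E hE => ?_⟩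
    by_contra hne
    have := h3 (E.map A.subtype) (lt_of_le_of_ne (map_subtype_le _) fun e => hne (by
      rw [← subgroupOf_map_subtype_self E, e, subgroupOf_self]))
      (le_map_subtype_iff.2 ⟨h2.le, hE.le⟩)
    exact hE.ne' (by rw [← this, subgroupOf_map_subtype_self])
  exact Solv.index_eq_of_coatom_of_isPGroup hA hco

theorem relIndex_dvd_of_cocyclic {A B : Subgroup G} {a : G}
    (hn : a ∈ normalizer (B : Set G)) (h : B ⊔ zpowers a = A) : B.relIndex A ∣ orderOf a := by
  rw [← h, ← Nat.card_zpowers]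
  exact relIndex_sup_dvd_card' (zpowers_le.2 hn)

/-- Generation by centralizers of hyperplanes. -/
theorem le_of_forall_hyperplane {p : ℕ} [hp : Fact p.Prime] {A K L : Subgroup G}
    (hA : IsElementaryAbelian p A) (hA1 : A ≠ ⊥) (hAK : A ≤ normalizer (K : Set G))
    (hcop : (Nat.card K).Coprime p)
    (hL : ∀ B, B ≤ A → B.relIndex A = p → K ⊓ centralizer (B : Set G) ≤ L) : K ≤ L := by
  refine Solv.le_of_forall_cocyclic hA.1 hAK
    (coprime_card_of_isPGroup (IsElementaryAbelian.isPGroup hA) hcop) fun B hB a ha e => ?_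
  have hd := (relIndex_dvd_of_cocyclic (le_normalizer_of_le_centralizer
    ((IsElementaryAbelian.le_centralizer hA).trans (centralizer_mono hB)) ha) e).trans
    (orderOf_dvd_of_pow_eq_one (hA.2 a ha))
  rcases (Nat.dvd_prime hp.out).1 hd with h | h
  · obtain ⟨D, -, h1, h2, -⟩ := exists_relIndex_eq_prime (IsElementaryAbelian.isPGroup hA)
      (bot_lt_iff_ne_bot.2 hA1)
    exact (inf_le_inf_left _ (centralizer_mono (h1.trans (relIndex_eq_one.1 h)))).trans (hL D h1 h2)
  · exact hL B hB h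

theorem le_of_forall_centralizer {p : ℕ} [hp : Fact p.Prime] {A K L : Subgroup G}
    (hA : IsElementaryAbelian p A) (hA2 : p ^ 2 ≤ Nat.card A) (hAK : A ≤ normalizer (K : Set G))
    (hcop : (Nat.card K).Coprime p)
    (hL : ∀ a ∈ A, a ≠ 1 → K ⊓ centralizer ({a} : Set G) ≤ L) : K ≤ L :=
  Solv.le_of_forall_centralizer_le hA.1 (IsElementaryAbelian.not_isCyclic hA hA2) hAK
    (coprime_card_of_isPGroup (IsElementaryAbelian.isPGroup hA) hcop) hL

theorem ne_bot_of_pow_le_card {p k : ℕ} [hp : Fact p.Prime] {A : Subgroup G}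
    (h : p ^ (k + 1) ≤ Nat.card A) : A ≠ ⊥ := by
  rintro rfl
  rw [card_bot] at h
  exact absurd h (not_le.2 (Nat.one_lt_pow (Nat.succ_ne_zero k) hp.out.one_lt))

theorem pow_le_card_of_relIndex {p k : ℕ} [hp : Fact p.Prime] {A B : Subgroup G} (hB : B ≤ A)
    (h : p ^ (k + 1) ≤ Nat.card A) (hi : B.relIndex A ≤ p) : p ^ k ≤ Nat.card B := by
  rw [← relIndex_mul_card hB, pow_succ'] at h
  exact Nat.le_of_mul_le_mul_left (h.trans (Nat.mul_le_mul_right _ hi)) hp.out.pos

theorem pow_le_card_inf_of_relIndex {p k : ℕ} [hp : Fact p.Prime] {A B C : Subgroup G} (hC : C ≤ A)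
    (h : p ^ (k + 1) ≤ Nat.card C) (hi : B.relIndex A ≤ p) :
    p ^ k ≤ Nat.card (B ⊓ C : Subgroup G) :=
  pow_le_card_of_relIndex inf_le_right h (by
    rw [inf_relIndex_right]
    exact (relIndex_le_of_le_right hC (relIndex_ne_zero' _ _)).trans hi)

theorem exists_mem_ne_one {A : Subgroup G} (h : A ≠ ⊥) : ∃ a ∈ A, a ≠ 1 :=
  (bot_or_exists_ne_one A).resolve_left h

/-! ### Products of subgroups -/

theorem card_mul_card_inf (X Y : Subgroup G) :
    Nat.card ((X : Set G) * (Y : Set G) : Set G) * Nat.card (X ⊓ Y : Subgroup G) =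
      Nat.card X * Nat.card Y := by
  have h1 : Y.relIndex X = Nat.card ((X : Set G).image (↑) : Set (G ⧸ Y)) := by
    have e0 : ∀ x : X, x • ((1 : G) : G ⧸ Y) = ((x : G) : G ⧸ Y) := fun x => by
      change (((x : G) * 1 : G) : G ⧸ Y) = _
      rw [mul_one]
    have e1 : MulAction.stabilizer X ((1 : G) : G ⧸ Y) = Y.subgroupOf X := by
      ext x
      rw [MulAction.mem_stabilizer_iff, mem_subgroupOf, e0, eq_comm, QuotientGroup.eq, inv_one,
        one_mul]
    have e2 : MulAction.orbit X ((1 : G) : G ⧸ Y) = (X : Set G).image (↑) := by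
      ext y
      constructor
      · rintro ⟨x, rfl⟩
        exact ⟨x, x.2, (e0 x).symm⟩
      · rintro ⟨x, hx, rfl⟩
        exact ⟨⟨x, hx⟩, e0 ⟨x, hx⟩⟩
    rw [relIndex, ← e1, MulAction.index_stabilizer, e2, Nat.card_coe_set_eq]
  rw [card_mul_eq_card_subgroup_mul_card_quotient Y X, ← h1, mul_assoc, inf_comm,
    relIndex_mul_card_inf, mul_comm]

theorem coe_eq_mul_iff_card {K X Y : Subgroup G} (hX : X ≤ K) (hY : Y ≤ K) :
    (K : Set G) = (X : Set G) * (Y : Set G) ↔
      Nat.card K * Nat.card (X ⊓ Y : Subgroup G) = Nat.card X * Nat.card Y := by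
  rw [← card_mul_card_inf X Y]
  constructor
  · intro h; rw [← h]; rfl
  · intro h
    have h1 := Nat.eq_of_mul_eq_mul_right Nat.card_pos h
    symm
    refine Set.eq_of_subset_of_ncard_le ?_ ?_ (Set.toFinite _)
    · rintro _ ⟨x, hx, y, hy, rfl⟩; exact K.mul_mem (hX hx) (hY hy)
    · rw [← Nat.card_coe_set_eq, ← Nat.card_coe_set_eq, ← h1]; rfl

theorem card_mul_card_le {K X Y : Subgroup G} (hX : X ≤ K) (hY : Y ≤ K) :
    Nat.card X * Nat.card Y ≤ Nat.card K * Nat.card (X ⊓ Y : Subgroup G) := by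
  rw [← card_mul_card_inf]
  refine Nat.mul_le_mul_right _ ?_
  rw [Nat.card_coe_set_eq]
  refine le_of_le_of_eq (Set.ncard_le_ncard (t := (K : Set G)) ?_ (Set.toFinite _))
    (Nat.card_coe_set_eq _).symm
  rintro _ ⟨x, hx, y, hy, rfl⟩; exact K.mul_mem (hX hx) (hY hy)

end

/-! ### Automorphisms induced on a characteristic quotient -/

section
variable {G : Type*} [Group G]

/-- The action of `Aut(G)` on the quotient by a characteristic subgroup. -/
def autQuot (N : Subgroup G) [hN : N.Characteristic] : MulAut G →* MulAut (G ⧸ N) where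
  toFun e := QuotientGroup.congr N N e (characteristic_iff_map_eq.1 hN e)
  map_one' := by
    ext x; obtain ⟨x, rfl⟩ := QuotientGroup.mk_surjective x; rfl
  map_mul' a b := by
    ext x; obtain ⟨x, rfl⟩ := QuotientGroup.mk_surjective x; rfl

theorem autQuot_mk (N : Subgroup G) [N.Characteristic] (e : MulAut G) (x : G) :
    autQuot N e (x : G ⧸ N) = (e x : G ⧸ N) := rfl

/-- The action of a subgroup normalizing `L` on `L / Z(L)`. -/
def actCenterQuot {H L : Subgroup G} (h : H ≤ normalizer (L : Set G)) :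
    H →* MulAut (L ⧸ center L) :=
  (autQuot (center L)).comp (L.normalizerMonoidHom.comp (inclusion h))

theorem actCenterQuot_mk {H L : Subgroup G} (h : H ≤ normalizer (L : Set G)) (g : H) (l : L) :
    actCenterQuot h g (l : L ⧸ center L) =
      ((⟨g * l * (g : G)⁻¹, conj_mem_of_le_normalizer h g.2 l.2⟩ : L) : L ⧸ center L) := rfl

theorem ker_actCenterQuot {H L : Subgroup G} (h : H ≤ normalizer (L : Set G)) (hL : ⁅L, L⁆ = L) :
    (actCenterQuot h).ker = (centralizer (L : Set G)).subgroupOf H := by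
  ext g
  rw [MonoidHom.mem_ker, mem_subgroupOf]
  constructor
  · intro e
    rw [← zpowers_le, ← commutator_eq_bot_iff_le_centralizer]
    refine commutator_eq_bot_of_perfect hL (commutator_eq_bot_iff_le_centralizer.2
      (commutator_zpowers_left_le (le_normalizer_centralizer h g.2) fun l hl => ?_))
    have := actCenterQuot_mk h g ⟨l, hl⟩
    rw [e, MulAut.one_apply, eq_comm, QuotientGroup.eq, ← subgroupOf_centralizer_self,
      mem_subgroupOf] at this
    have h2 := conj_mem_of_mem_normalizer (le_normalizer_centralizer le_normalizer hl)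
      (inv_mem this)
    convert h2 using 1
    simp only [commutatorElement_def, coe_mul, InvMemClass.coe_inv]
    group
  · intro e
    ext x
    obtain ⟨l, rfl⟩ := QuotientGroup.mk_surjective x
    rw [actCenterQuot_mk, MulAut.one_apply]
    congr 2
    rw [← e l l.2]; group

theorem conj_range_le_range_actCenterQuot {H L : Subgroup G} (h : H ≤ normalizer (L : Set G))
    (hLH : L ≤ H) : (MulAut.conj : (L ⧸ center L) →* MulAut (L ⧸ center L)).range ≤
      (actCenterQuot h).range := by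
  rintro _ ⟨x, rfl⟩
  obtain ⟨l, rfl⟩ := QuotientGroup.mk_surjective x
  refine ⟨⟨l, hLH l.2⟩, ?_⟩
  ext y
  obtain ⟨m, rfl⟩ := QuotientGroup.mk_surjective y
  rfl

end

/-! ### `O_{p',p}` and `p`-constraint -/

variable {G : Type u} [Group G] [Finite G] {p : ℕ} [hp : Fact p.Prime]

theorem charP_map_of_PLay_eq_bot {G' : Type u} [Group G'] [Finite G'] (f : G →* G') {M : Subgroup G}
    (hk : M ⊓ f.ker = Opp p M) (h : PLay p M = ⊥) : CharP p (M.map f) :=
  charP_iff_Lay_Opp.2 ⟨by rw [← map_PLay_eq_Lay f hk, h, Subgroup.map_bot], Opp_map_eq_bot f hk⟩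

theorem PLay_eq_bot_of_charP_map {G' : Type u} [Group G'] [Finite G'] (f : G →* G')
    {M : Subgroup G} (hk : (Nat.card (M ⊓ f.ker : Subgroup G)).Coprime p)
    (h : CharP p (M.map f)) : PLay p M = ⊥ := by
  have : (PLay p M).map f = ⊥ := by rw [map_PLay f hk, PLay_eq_Lay h.Opp_eq_bot, h.Lay_eq_bot]
  rw [← Resp_PLay, Resp_eq_bot_iff]
  exact coprime_of_le hk (le_inf (PLay_le p M) ((Subgroup.map_eq_bot_iff _).1 this))

theorem CharP.PLay_eq_bot {M : Subgroup G} (h : CharP p M) : PLay p M = ⊥ := by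
  rw [PLay_eq_Lay h.Opp_eq_bot, h.Lay_eq_bot]

theorem charP_iff_PLay_Opp {M : Subgroup G} : CharP p M ↔ PLay p M = ⊥ ∧ Opp p M = ⊥ :=
  ⟨fun h => ⟨h.PLay_eq_bot, h.Opp_eq_bot⟩,
    fun h => charP_iff_Lay_Opp.2 ⟨by rw [← PLay_eq_Lay h.2, h.1], h.2⟩⟩

theorem PLay_eq_bot_of_isSolvable {M : Subgroup G} (h : Group.IsSolvable M) : PLay p M = ⊥ :=
  solvable_perfect_eq_bot (PLay_perfect M) (isSolvable_of_le (PLay_le p M) h)

theorem PLay_eq_bot_iff_subtype {M : Subgroup G} : PLay p M = ⊥ ↔ pLayer p M = ⊥ := by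
  rw [← map_pLayer]; exact map_eq_bot_iff_of_injective _ M.subtype_injective

theorem local_of_PLay_eq_bot_aux {P H : Subgroup G} (h : PLay p (⊤ : Subgroup G) = ⊥)
    (hP : IsPGroup p P) (h1 : P ≤ H) (h2 : centralizer (P : Set G) ≤ H)
    (h4 : H ≤ normalizer (P : Set G)) : PLay p H = ⊥ ∧ Opp p H ≤ Opp p ⊤ := by
  set f := QuotientGroup.mk' (pPrimeCore p G) with hf
  have hk : ⊤ ⊓ f.ker = Opp p ⊤ := top_inf_ker_mk_pPrimeCore
  have hc : (Nat.card ((⊤ : Subgroup G) ⊓ f.ker : Subgroup G)).Coprime p := hk ▸ coprime_Opp p ⊤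
  have h3 : CharP p (H.map f) := (charP_map_of_PLay_eq_bot f hk h).of_local (hP.map f)
    (map_mono h1) (by
      rw [← map_inf_centralizer f (le_normalizer_normal ⊤ P) (coprime_card_of_isPGroup hP hc)
        (Or.inl (isSolvable_of_isPGroup hP))]
      exact map_mono (inf_le_right.trans h2)) (map_mono le_top) (map_le_normalizer_map f h4)
  refine ⟨PLay_eq_bot_of_charP_map f (coprime_of_le hc (inf_le_inf_right _ le_top)) h3, ?_⟩
  rw [← hk, top_inf_eq, ← Subgroup.map_eq_bot_iff, ← le_bot_iff, ← h3.Opp_eq_bot]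
  exact map_Opp_le f H

/-- If `L_{p'}(M) = 1` and `P C_M(P) ≤ H ≤ N_M(P)` then `L_{p'}(H) = 1` and
`O_{p'}(H) ≤ O_{p'}(M)`. -/
theorem local_of_PLay_eq_bot {M P H : Subgroup G} (h : PLay p M = ⊥)
    (hP : IsPGroup p P) (h1 : P ≤ H) (h2 : M ⊓ centralizer (P : Set G) ≤ H) (h3 : H ≤ M)
    (h4 : H ≤ normalizer (P : Set G)) : PLay p H = ⊥ ∧ Opp p H ≤ Opp p M := by
  obtain ⟨a, b⟩ := local_of_PLay_eq_bot_aux (G := M) (P := P.subgroupOf M) (H := H.subgroupOf M)
    (by rw [PLay_top, ← PLay_eq_bot_iff_subtype, h]) hP.comap_subtype (subgroupOf_mono M h1)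
    (by rw [← subgroupOf_centralizer (h1.trans h3), ← inf_subgroupOf_left]
        exact subgroupOf_mono M h2)
    (by rw [← subgroupOf_normalizer_eq (h1.trans h3)]; exact subgroupOf_mono M h4)
  constructor
  · rw [← map_subgroupOf_eq_of_le h3, ← map_PLay_of_injective M.subtype_injective, a,
      Subgroup.map_bot]
  · have := map_mono (f := M.subtype) b
    rwa [map_subtype_Opp, map_subtype_Opp, map_subgroupOf_eq_of_le h3, map_subtype_top] at this

theorem local_centralizer_of_PLay_eq_bot {M P : Subgroup G} (h : PLay p M = ⊥)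
    (hP : IsPGroup p P) (h1 : P ≤ M) : PLay p (M ⊓ centralizer (P : Set G)) = ⊥ ∧
      Opp p (M ⊓ centralizer (P : Set G)) ≤ Opp p M := by
  obtain ⟨a, b⟩ := local_of_PLay_eq_bot (H := M ⊓ normalizer (P : Set G)) h hP
    (le_inf h1 le_normalizer) (inf_le_inf_left _ (centralizer_le_normalizer _)) inf_le_left
    inf_le_right
  have hs : SubnIn (M ⊓ centralizer (P : Set G)) (M ⊓ normalizer (P : Set G)) :=
    SubnIn.of_normalizer (inf_le_inf_left _ (centralizer_le_normalizer _))
      (le_normalizer_inf (inf_le_left.trans le_normalizer) (le_normalizer_centralizer inf_le_right))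
  exact ⟨le_bot_iff.1 (a ▸ PLay_mono_subnIn hs), (hs.Opp_le p).trans b⟩

theorem Opp_inf_centralizer_singleton_le {M : Subgroup G} (h : PLay p M = ⊥) {x : G} (hx : x ∈ M)
    (hx' : IsPGroup p (zpowers x)) : Opp p (M ⊓ centralizer ({x} : Set G)) ≤ Opp p M := by
  rw [← centralizer_zpowers]
  exact (local_centralizer_of_PLay_eq_bot h hx' (zpowers_le.2 hx)).2

/-- `O_{p',p}(M)` in the ambient group. -/
def Oppp (p : ℕ) (M : Subgroup G) : Subgroup G := (pPrimePCore p M).map M.subtype

instance pPrimePCore_normal : (pPrimePCore p G).Normal := by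
  unfold pPrimePCore; infer_instance

theorem Oppp_le (M : Subgroup G) : Oppp p M ≤ M := map_subtype_le _

theorem pPrimeCore_le_pPrimePCore : pPrimeCore p G ≤ pPrimePCore p G := by
  intro x hx
  change QuotientGroup.mk' _ x ∈ pCore p _
  rw [(QuotientGroup.eq_one_iff x).2 hx |> (QuotientGroup.mk'_apply _ _).trans]
  exact one_mem _

theorem Opp_le_Oppp (M : Subgroup G) : Opp p M ≤ Oppp p M := map_mono pPrimeCore_le_pPrimePCore

theorem le_pPrimePCore_iff {N : Subgroup G} [N.Normal] :
    N ≤ pPrimePCore p G ↔ Res p N ≤ pPrimeCore p G := by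
  rw [pPrimePCore, ← map_le_iff_le_comap]
  have : (N.map (QuotientGroup.mk' (pPrimeCore p G))).Normal :=
    Normal.map inferInstance _ (QuotientGroup.mk'_surjective _)
  conv_rhs => rw [← QuotientGroup.ker_mk' (pPrimeCore p G), ← Subgroup.map_eq_bot_iff, map_Res,
    Res_eq_bot_iff]
  exact ⟨fun h => (isPGroup_pCore p).to_le h, fun h => le_pCore h⟩

theorem Res_Oppp_le (M : Subgroup G) : Res p (Oppp p M) ≤ Opp p M := by
  rw [Oppp, ← map_Res]
  exact map_mono (le_pPrimePCore_iff.1 le_rfl)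

theorem le_Oppp {N M : Subgroup G} (h1 : N ≤ M) (h2 : M ≤ normalizer (N : Set G))
    (h3 : Res p N ≤ Opp p M) : N ≤ Oppp p M := by
  have : (N.subgroupOf M).Normal := normal_subgroupOf_of_le_normalizer h2
  refine le_map_subtype_iff.2 ⟨h1, le_pPrimePCore_iff.2 ?_⟩
  rw [← subgroupOf_Opp, ← map_subtype_le_iff, map_Res, map_subgroupOf_eq_of_le h1]
  exact h3

theorem le_normalizer_Oppp_self (M : Subgroup G) : M ≤ normalizer (Oppp p M : Set G) :=
  (normal_iff_map_subtype _).1 inferInstance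

theorem Oppp_top : Oppp p (⊤ : Subgroup G) = pPrimePCore p G := by
  apply le_antisymm
  · have : (Oppp p (⊤ : Subgroup G)).Normal :=
      normal_iff_top_le_normalizer.2 (le_normalizer_Oppp_self ⊤)
    rw [le_pPrimePCore_iff, ← Opp_top]; exact Res_Oppp_le ⊤
  · exact le_Oppp le_top (le_normalizer_normal _ _) (by
      rw [Opp_top]; exact le_pPrimePCore_iff.1 le_rfl)

theorem map_Oppp_le {G' : Type u} [Group G'] [Finite G'] (f : G →* G') (M : Subgroup G) :
    (Oppp p M).map f ≤ Oppp p (M.map f) :=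
  le_Oppp (map_mono (Oppp_le M)) (map_le_normalizer_map f (le_normalizer_Oppp_self M)) (by
    rw [← map_Res]; exact (map_mono (Res_Oppp_le M)).trans (map_Opp_le f M))

theorem map_Oppp {G' : Type u} [Group G'] [Finite G'] (f : G →* G') {M : Subgroup G}
    (hk : (Nat.card (M ⊓ f.ker : Subgroup G)).Coprime p) :
    (Oppp p M).map f = Oppp p (M.map f) := by
  refine le_antisymm (map_Oppp_le f M) ?_
  rw [← map_comap_inf f (Oppp_le (M.map f))]
  refine map_mono (le_Oppp inf_le_right (le_normalizer_inf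
    (le_normalizer_comap_of_map f (le_normalizer_Oppp_self _)) le_normalizer) ?_)
  refine le_Opp_of_map_le f hk ((ResPi_le _ _).trans inf_le_right) ?_
  rw [map_Res, map_comap_inf f (Oppp_le (M.map f))]
  exact Res_Oppp_le _

theorem map_Oppp_of_injective {G' : Type u} [Group G'] [Finite G'] {f : G →* G'}
    (hf : Function.Injective f) (M : Subgroup G) : (Oppp p M).map f = Oppp p (M.map f) :=
  map_Oppp f (by rw [(MonoidHom.ker_eq_bot_iff f).2 hf, inf_bot_eq]; exact coprime_bot)

theorem cj_Oppp (g : G) (M : Subgroup G) : cj(g, Oppp p M) = Oppp p cj(g, M) :=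
  map_Oppp_of_injective (MulAut.conj g).injective M

theorem le_normalizer_Oppp {A M : Subgroup G} (h : A ≤ normalizer (M : Set G)) :
    A ≤ normalizer (Oppp p M : Set G) := fun g hg => by
  rw [← cj_eq_self_iff, cj_Oppp, cj_eq_self_iff.2 (h hg)]

theorem Oppp_subnIn (M : Subgroup G) : SubnIn (Oppp p M) M :=
  SubnIn.of_normalizer (Oppp_le M) (le_normalizer_Oppp_self M)

theorem Op_le_Oppp (M : Subgroup G) : Op p M ≤ Oppp p M :=
  le_Oppp (Op_le p M) (le_normalizer_Op le_normalizer) (by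
    rw [Res_eq_bot_iff.2 (isPGroup_Op p M)]; exact bot_le)

theorem Oppp_eq_Op {M : Subgroup G} (h : Opp p M = ⊥) : Oppp p M = Op p M :=
  le_antisymm (le_Op (Oppp_le M) (le_normalizer_Oppp_self M)
    (Res_eq_bot_iff.1 (le_bot_iff.1 (h ▸ Res_Oppp_le M)))) (Op_le_Oppp M)

theorem map_Oppp_eq_Op {G' : Type u} [Group G'] [Finite G'] (f : G →* G') {M : Subgroup G}
    (hk : M ⊓ f.ker = Opp p M) : (Oppp p M).map f = Op p (M.map f) := by
  rw [map_Oppp f (hk ▸ coprime_Opp p M), Oppp_eq_Op (Opp_map_eq_bot f hk)]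

theorem le_Opp_of_le_Oppp {Y M : Subgroup G} (h : Y ≤ Oppp p M) (hY : (Nat.card Y).Coprime p) :
    Y ≤ Opp p M := (le_Res h hY).trans (Res_Oppp_le M)

theorem SylIn.Opp_sup_eq_Oppp {T M : Subgroup G} (h : SylIn p T (Oppp p M)) :
    Opp p M ⊔ T = Oppp p M :=
  le_antisymm (sup_le (Opp_le_Oppp M) h.le) (h.Res_sup.ge.trans (sup_le_sup_right (Res_Oppp_le M) _))

theorem sup_le_Oppp {T M : Subgroup G} (hT : IsPGroup p T) (h1 : T ≤ M)
    (h2 : M ≤ normalizer ((Opp p M ⊔ T : Subgroup G) : Set G)) : Opp p M ⊔ T ≤ Oppp p M :=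
  le_Oppp (sup_le (Opp_le p M) h1) h2 (Res_sup_le' (le_normalizer_Opp_of_le h1) hT)

theorem commutator_PLay_Oppp (M : Subgroup G) : ⁅Oppp p M, PLay p M⁆ ≤ Opp p M := by
  rw [commutator_comm]
  refine commutator_sSup_left_le (fun K hK => le_normalizer_Opp_of_le hK.le) fun K hK => ?_
  rw [commutator_comm]
  refine (PCompIn.le_or_commutator hK (Oppp_subnIn M)).resolve_left fun e => ?_
  exact hK.pqs.not_le_of_coprime (coprime_Opp p M)
    ((le_Res_of_perfect hK.pqs.perfect e).trans (Res_Oppp_le M))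

theorem le_Oppp_of_commutator_le_aux (h : PLay p (⊤ : Subgroup G) = ⊥) {U : Subgroup G}
    (h2 : ⁅U, Oppp p (⊤ : Subgroup G)⁆ ≤ Opp p ⊤) : U ≤ Oppp p ⊤ := by
  set f := QuotientGroup.mk' (pPrimeCore p G) with hf
  have hk : ⊤ ⊓ f.ker = Opp p ⊤ := top_inf_ker_mk_pPrimeCore
  have := (charP_map_of_PLay_eq_bot f hk h).le_Op (Y := U.map f) (map_mono le_top) (by
    rw [← map_Oppp_eq_Op f hk, ← commutator_eq_bot_iff_le_centralizer, map_eq_bot_iff_le_ker']
    exact h2.trans (hk.ge.trans inf_le_right))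
  rw [← map_Oppp_eq_Op f hk, Subgroup.map_le_map_iff] at this
  exact this.trans (sup_le le_rfl ((le_inf le_top le_rfl).trans (hk.le.trans (Opp_le_Oppp ⊤))))

theorem le_Oppp_of_commutator_le {M U : Subgroup G} (h : PLay p M = ⊥) (h1 : U ≤ M)
    (h2 : ⁅U, Oppp p M⁆ ≤ Opp p M) : U ≤ Oppp p M := by
  have := le_Oppp_of_commutator_le_aux (G := M) (p := p) (U := U.subgroupOf M)
    (by rw [PLay_top, ← PLay_eq_bot_iff_subtype, h]) (by
      rw [← map_le_map_iff_of_injective M.subtype_injective, map_commutator, map_subtype_Opp,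
        map_Oppp_of_injective M.subtype_injective, map_subtype_top, map_subgroupOf_eq_of_le h1]
      exact h2)
  rwa [← map_le_map_iff_of_injective M.subtype_injective, map_Oppp_of_injective M.subtype_injective,
    map_subtype_top, map_subgroupOf_eq_of_le h1] at this

theorem le_Oppp_of_commutator_sylIn_le {M U T : Subgroup G} (h : PLay p M = ⊥) (h1 : U ≤ M)
    (hT : SylIn p T (Oppp p M)) (h2 : ⁅U, T⁆ ≤ Opp p M) : U ≤ Oppp p M := by
  refine le_Oppp_of_commutator_le h h1 ?_
  rw [← hT.Opp_sup_eq_Oppp]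
  exact commutator_sup_right_le le_normalizer (le_normalizer_Opp_of_le (hT.le.trans (Oppp_le M)))
    (commutator_le_right_of_le_normalizer (le_normalizer_Opp_of_le h1)) h2

theorem inf_centralizer_le_Oppp {M T : Subgroup G} (h : PLay p M = ⊥)
    (hT : SylIn p T (Oppp p M)) : M ⊓ centralizer (T : Set G) ≤ Oppp p M :=
  le_Oppp_of_commutator_sylIn_le h inf_le_left hT (by
    rw [commutator_eq_bot_iff_le_centralizer.2 inf_le_right]; exact bot_le)

theorem PLay_eq_bot_of_centralizer_le {M T : Subgroup G} (hT : SylIn p T (Oppp p M))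
    (h : M ⊓ centralizer (T : Set G) ≤ Oppp p M) : PLay p M = ⊥ := by
  have hTM : T ≤ M := hT.le.trans (Oppp_le M)
  have h1 := Solv.coprime_sup_centralizer_of_commutator_le (A := T) (K := PLay p M ⊔ Opp p M)
    (N := Opp p M) le_sup_right (le_normalizer_Opp_of_le (sup_le (PLay_le p M) (Opp_le p M)))
    (le_normalizer_Opp_of_le hTM) (coprime_of_isPGroup hT.isP (coprime_Opp p M))
    (Or.inl (isSolvable_of_isPGroup hT.isP)) (commutator_sup_left_le
      (le_normalizer_Opp_of_le (PLay_le p M)) le_normalizer (by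
        rw [commutator_comm]
        exact (commutator_mono hT.le le_rfl).trans (commutator_PLay_Oppp M))
      (commutator_le_left_of_le_normalizer (le_normalizer_Opp_of_le hTM)))
  have h2 : PLay p M ≤ Oppp p M := le_sup_left.trans (h1.ge.trans (sup_le (Opp_le_Oppp M)
    ((inf_le_inf_right _ (sup_le (PLay_le p M) (Opp_le p M))).trans h)))
  rw [← Resp_PLay, Resp_eq_bot_iff]
  exact coprime_of_le (coprime_Opp p M) ((le_Res_of_perfect (PLay_perfect M) h2).trans
    (Res_Oppp_le M))

theorem isPConstrained_iff : IsPConstrained p G ↔ PLay p (⊤ : Subgroup G) = ⊥ := by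
  constructor
  · intro h
    obtain ⟨T⟩ : Nonempty (Sylow p (pPrimePCore p G)) := inferInstance
    refine PLay_eq_bot_of_centralizer_le (T := (T : Subgroup _).map (pPrimePCore p G).subtype)
      (by rw [Oppp_top]; exact sylIn_sylow T) ?_
    rw [top_inf_eq, Oppp_top]; exact h T
  · intro h T
    have := inf_centralizer_le_Oppp h (T := (T : Subgroup _).map (pPrimePCore p G).subtype)
      (by rw [Oppp_top]; exact sylIn_sylow T)
    rwa [top_inf_eq, Oppp_top] at this

theorem isPConstrained_iff_subtype {M : Subgroup G} : IsPConstrained p M ↔ PLay p M = ⊥ := by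
  rw [isPConstrained_iff, PLay_top, PLay_eq_bot_iff_subtype]

/-! ### Invariant Sylow subgroups under coprime action -/

theorem SylIn.isSylowIn {P M : Subgroup G} (h : SylIn p P M) : Solv.IsSylowIn p P M :=
  ⟨h.le, h.isP, h.not_dvd_relIndex⟩

theorem sylIn_of_isSylowIn {P M : Subgroup G} (h : Solv.IsSylowIn p P M) : SylIn p P M :=
  sylIn_of_not_dvd h.le h.isPGroup h.not_dvd

theorem exists_invariant_sylIn_ge {A K U : Subgroup G} (hAK : A ≤ normalizer (K : Set G))
    (hcop : (Nat.card A).Coprime (Nat.card K)) (hs : Group.IsSolvable A ∨ Group.IsSolvable K)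
    (hUK : U ≤ K) (hU : IsPGroup p U) (hUA : A ≤ normalizer (U : Set G)) :
    ∃ P, SylIn p P K ∧ U ≤ P ∧ A ≤ normalizer (P : Set G) := by
  obtain ⟨P, a, b, c⟩ := Solv.coprime_exists_sylowIn_ge hAK hcop hs hUK hU hUA
  exact ⟨P, sylIn_of_isSylowIn a, b, c⟩

theorem exists_invariant_sylIn (p : ℕ) [Fact p.Prime] {A K : Subgroup G}
    (hAK : A ≤ normalizer (K : Set G))
    (hcop : (Nat.card A).Coprime (Nat.card K)) (hs : Group.IsSolvable A ∨ Group.IsSolvable K) :
    ∃ P, SylIn p P K ∧ A ≤ normalizer (P : Set G) := by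
  obtain ⟨P, a, b⟩ := Solv.coprime_exists_sylowIn hAK hcop hs p
  exact ⟨P, sylIn_of_isSylowIn a, b⟩

theorem invariant_sylIn_conj {A K P Q : Subgroup G} (hAK : A ≤ normalizer (K : Set G))
    (hcop : (Nat.card A).Coprime (Nat.card K)) (hs : Group.IsSolvable A ∨ Group.IsSolvable K)
    (hP : SylIn p P K) (hQ : SylIn p Q K) (hPA : A ≤ normalizer (P : Set G))
    (hQA : A ≤ normalizer (Q : Set G)) : ∃ c ∈ K ⊓ centralizer (A : Set G), cj(c, P) = Q :=
  Solv.coprime_sylowIn_conj hAK hcop hs hP.isSylowIn hQ.isSylowIn hPA hQA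

theorem le_normalizer_cj {A P : Subgroup G} {c : G} (hc : c ∈ normalizer (A : Set G))
    (h : A ≤ normalizer (P : Set G)) : A ≤ normalizer (cj(c, P) : Set G) := by
  rw [← cj_normalizer, ← cj_eq_self_iff.2 hc]; exact cj_mono c h

/-- An invariant Sylow subgroup meets every invariant subgroup normalized by the fixed points in a
Sylow subgroup. -/
theorem SylIn.inf_of_invariant {A K P X : Subgroup G} (hP : SylIn p P K)
    (hAK : A ≤ normalizer (K : Set G))
    (hcop : (Nat.card A).Coprime (Nat.card K)) (hs : Group.IsSolvable A ∨ Group.IsSolvable K)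
    (hPA : A ≤ normalizer (P : Set G)) (hX : X ≤ K) (hXA : A ≤ normalizer (X : Set G))
    (hC : K ⊓ centralizer (A : Set G) ≤ normalizer (X : Set G)) : SylIn p (P ⊓ X) X := by
  obtain ⟨Q, a, b⟩ := exists_invariant_sylIn p hXA (hcop.coprime_dvd_right (card_dvd_of_le hX))
    (hs.imp_right (isSolvable_of_le hX))
  obtain ⟨R, c, d, e⟩ := exists_invariant_sylIn_ge hAK hcop hs (a.le.trans hX) a.isP b
  obtain ⟨g, hg, rfl⟩ := invariant_sylIn_conj hAK hcop hs c hP e hPA
  have h1 := a.cj_of_mem (hC hg)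
  rw [h1.max (cj(g, R) ⊓ X) hP.isP.to_inf_left (le_inf (cj_mono g d) h1.le) inf_le_right]
  exact h1

theorem SylIn.inf_centralizer_of_invariant {A K P : Subgroup G} (hP : SylIn p P K)
    (hAK : A ≤ normalizer (K : Set G))
    (hcop : (Nat.card A).Coprime (Nat.card K)) (hs : Group.IsSolvable A ∨ Group.IsSolvable K)
    (hPA : A ≤ normalizer (P : Set G)) :
    SylIn p (P ⊓ centralizer (A : Set G)) (K ⊓ centralizer (A : Set G)) := by
  have := hP.inf_of_invariant hAK hcop hs hPA (X := K ⊓ centralizer (A : Set G)) inf_le_left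
    (le_normalizer_inf hAK (le_normalizer_centralizer le_normalizer)) le_normalizer
  rwa [← inf_assoc, inf_eq_left.2 hP.le] at this

end Cfsg.Agent.Comp
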