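/-
`Ω₁`, centres of `p`-subgroups, and local criteria for characteristic `p`.
-/
import Cfsg.Agent.Lib.Comp.Loc
import Cfsg.Prelude.Def_LocalStructure

set_option autoImplicit false
set_option linter.unusedSectionVars false

namespace Cfsg.Agent.Comp

open Subgroup
open scoped commutatorElement

universe u

section
variable {G : Type*} [Group G] {p : ℕ}

theorem omegaOne_le (p : ℕ) (H : Subgroup G) : omegaOne p H ≤ H :=
  (closure_le _).2 fun _ h => h.1

theorem mem_omegaOne {H : Subgroup G} {x : G} (h1 : x ∈ H) (h2 : x ^ p = 1) :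
    x ∈ omegaOne p H := subset_closure ⟨h1, h2⟩

theorem omegaOne_le_iff {H X : Subgroup G} :
    omegaOne p H ≤ X ↔ ∀ x ∈ H, x ^ p = 1 → x ∈ X :=
  (closure_le _).trans ⟨fun h _ a b => h ⟨a, b⟩, fun h _ a => h _ a.1 a.2⟩

theorem omegaOne_mono {H K : Subgroup G} (h : H ≤ K) : omegaOne p H ≤ omegaOne p K :=
  omegaOne_le_iff.2 fun _ a b => mem_omegaOne (h a) b

theorem le_omegaOne {A H : Subgroup G} (h1 : A ≤ H) (h2 : ∀ x ∈ A, x ^ p = 1) :
    A ≤ omegaOne p H := fun x hx => mem_omegaOne (h1 hx) (h2 x hx)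

theorem IsElementaryAbelian.le_omegaOne {A H : Subgroup G} (hA : IsElementaryAbelian p A)
    (h1 : A ≤ H) : A ≤ omegaOne p H := Comp.le_omegaOne h1 hA.2

theorem map_omegaOne_le {G' : Type*} [Group G'] (f : G →* G') (H : Subgroup G) :
    (omegaOne p H).map f ≤ omegaOne p (H.map f) :=
  map_le_iff_le_comap.2 (omegaOne_le_iff.2 fun x a b =>
    mem_omegaOne (mem_map_of_mem f a) (by rw [← map_pow, b, map_one]))

theorem map_omegaOne {G' : Type*} [Group G'] {f : G →* G'} (hf : Function.Injective f)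
    (H : Subgroup G) : (omegaOne p H).map f = omegaOne p (H.map f) :=
  le_antisymm (map_omegaOne_le f H) (omegaOne_le_iff.2 (by
    rintro _ ⟨x, hx, rfl⟩ h
    exact mem_map_of_mem f (mem_omegaOne hx (hf (by rw [map_pow, h, map_one])))))

theorem cj_omegaOne (g : G) (H : Subgroup G) : cj(g, omegaOne p H) = omegaOne p cj(g, H) :=
  map_omegaOne (MulAut.conj g).injective H

theorem le_normalizer_omegaOne {A H : Subgroup G} (h : A ≤ normalizer (H : Set G)) :
    A ≤ normalizer (omegaOne p H : Set G) := fun g hg => by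
  rw [← cj_eq_self_iff, cj_omegaOne, cj_eq_self_iff.2 (h hg)]

theorem pow_eq_one_of_mem_omegaOne {H : Subgroup G} (h : H ≤ centralizer (H : Set G)) {x : G}
    (hx : x ∈ omegaOne p H) : x ^ p = 1 := by
  refine (closure_induction (p := fun x _ => x ∈ H ∧ x ^ p = 1) (fun _ h => h)
    ⟨one_mem _, one_pow _⟩ (fun a b _ _ ha hb => ⟨mul_mem ha.1 hb.1, ?_⟩)
    (fun a _ ha => ⟨inv_mem ha.1, by rw [inv_pow, ha.2, inv_one]⟩) hx).2
  rw [Commute.mul_pow (h hb.1 a ha.1), ha.2, hb.2, one_mul]

theorem mem_omegaOne_iff {H : Subgroup G} (h : H ≤ centralizer (H : Set G)) {x : G} :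
    x ∈ omegaOne p H ↔ x ∈ H ∧ x ^ p = 1 :=
  ⟨fun hx => ⟨omegaOne_le p H hx, pow_eq_one_of_mem_omegaOne h hx⟩, fun h => mem_omegaOne h.1 h.2⟩

theorem isElementaryAbelian_omegaOne {H : Subgroup G} (h : H ≤ centralizer (H : Set G)) :
    IsElementaryAbelian p (omegaOne p H) :=
  ⟨isMulCommutative_iff_le.2 (((omegaOne_le p H).trans h).trans
    (centralizer_mono (omegaOne_le p H))), fun _ hx => pow_eq_one_of_mem_omegaOne h hx⟩

theorem omegaOne_eq_self {A : Subgroup G} (hA : IsElementaryAbelian p A) : omegaOne p A = A :=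
  le_antisymm (omegaOne_le p A) (IsElementaryAbelian.le_omegaOne hA le_rfl)

theorem center_le_centralizer (H : Subgroup G) :
    H ⊓ centralizer (H : Set G) ≤ centralizer ((H ⊓ centralizer (H : Set G) : Subgroup G) : Set G) :=
  inf_le_right.trans (centralizer_mono inf_le_left)

/-- `Ω₁(Z(H))`. -/
abbrev OmZ (p : ℕ) (H : Subgroup G) : Subgroup G := omegaOne p (H ⊓ centralizer (H : Set G))

theorem OmZ_le (p : ℕ) (H : Subgroup G) : OmZ p H ≤ H := (omegaOne_le _ _).trans inf_le_left

theorem OmZ_le_centralizer (p : ℕ) (H : Subgroup G) : OmZ p H ≤ centralizer (H : Set G) :=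
  (omegaOne_le _ _).trans inf_le_right

theorem le_centralizer_OmZ (p : ℕ) (H : Subgroup G) : H ≤ centralizer (OmZ p H : Set G) :=
  le_centralizer_iff.1 (OmZ_le_centralizer p H)

theorem mem_OmZ {H : Subgroup G} {x : G} :
    x ∈ OmZ p H ↔ x ∈ H ∧ x ∈ centralizer (H : Set G) ∧ x ^ p = 1 :=
  (mem_omegaOne_iff (center_le_centralizer H)).trans and_assoc

theorem isElementaryAbelian_OmZ (p : ℕ) (H : Subgroup G) : IsElementaryAbelian p (OmZ p H) :=
  isElementaryAbelian_omegaOne (center_le_centralizer H)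

theorem isPGroup_OmZ (p : ℕ) (H : Subgroup G) : IsPGroup p (OmZ p H) :=
  IsElementaryAbelian.isPGroup (isElementaryAbelian_OmZ p H)

theorem le_OmZ {A H : Subgroup G} (hA : ∀ x ∈ A, x ^ p = 1) (h1 : A ≤ H)
    (h2 : A ≤ centralizer (H : Set G)) : A ≤ OmZ p H := le_omegaOne (le_inf h1 h2) hA

theorem le_normalizer_center {A H : Subgroup G} (h : A ≤ normalizer (H : Set G)) :
    A ≤ normalizer ((H ⊓ centralizer (H : Set G) : Subgroup G) : Set G) :=
  le_normalizer_inf h (le_normalizer_centralizer h)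

theorem le_normalizer_OmZ {A H : Subgroup G} (h : A ≤ normalizer (H : Set G)) :
    A ≤ normalizer (OmZ p H : Set G) := le_normalizer_omegaOne (le_normalizer_center h)

theorem cj_center (g : G) (H : Subgroup G) :
    cj(g, H ⊓ centralizer (H : Set G)) = cj(g, H) ⊓ centralizer (cj(g, H) : Set G) := by
  rw [cj_inf, cj_centralizer]

theorem cj_OmZ (g : G) (H : Subgroup G) : cj(g, OmZ p H) = OmZ p cj(g, H) := by
  rw [cj_omegaOne, cj_center]

theorem map_center_of_injective {G' : Type*} [Group G'] {f : G →* G'} (hf : Function.Injective f)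
    (H : Subgroup G) :
    (H ⊓ centralizer (H : Set G)).map f = H.map f ⊓ centralizer (H.map f : Set G') := by
  refine le_antisymm (le_inf (map_mono inf_le_left)
    ((map_mono inf_le_right).trans (map_le_centralizer_map f le_rfl))) ?_
  rintro _ ⟨⟨x, hx, rfl⟩, h⟩
  refine mem_map_of_mem f ⟨hx, fun y hy => hf ?_⟩
  rw [map_mul, map_mul]
  exact h _ (mem_map_of_mem f hy)

theorem map_OmZ {G' : Type*} [Group G'] {f : G →* G'} (hf : Function.Injective f)
    (H : Subgroup G) : (OmZ p H).map f = OmZ p (H.map f) := by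
  rw [map_omegaOne hf, map_center_of_injective hf]

theorem OmZ_inf_le {H K : Subgroup G} (h : K ≤ H) : OmZ p H ⊓ K ≤ OmZ p K := fun _ hx =>
  mem_OmZ.2 ⟨hx.2, centralizer_mono h (mem_OmZ.1 hx.1).2.1, (mem_OmZ.1 hx.1).2.2⟩

theorem OmZ_le_OmZ {H K : Subgroup G} (h : K ≤ H) (h2 : OmZ p H ≤ K) : OmZ p H ≤ OmZ p K :=
  (le_inf le_rfl h2).trans (OmZ_inf_le h)

theorem zpowers_le_centralizer_iff {K : Subgroup G} {x : G} :
    zpowers x ≤ centralizer (K : Set G) ↔ K ≤ centralizer ({x} : Set G) := by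
  rw [zpowers_le, le_centralizer_singleton_iff]

theorem zpowers_ne_bot_of_orderOf [hp : Fact p.Prime] {x : G} (h : orderOf x = p) :
    zpowers x ≠ ⊥ := by
  rw [Ne, zpowers_eq_bot]; rintro rfl
  exact hp.out.one_lt.ne (by simpa using h)

theorem ne_one_of_orderOf_eq [hp : Fact p.Prime] {x : G} (h : orderOf x = p) : x ≠ 1 := by
  rintro rfl; exact hp.out.one_lt.ne (by simpa using h)

variable [Finite G] [hp : Fact p.Prime]

theorem exists_mem_orderOf_eq_of_isPGroup {R : Subgroup G} (h : IsPGroup p R) (h1 : R ≠ ⊥) :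
    ∃ x ∈ R, orderOf x = p := exists_mem_orderOf_eq (dvd_card_of_isPGroup h h1)

theorem omegaOne_ne_bot {R : Subgroup G} (h : p ∣ Nat.card R) : omegaOne p R ≠ ⊥ := by
  obtain ⟨x, hx, h2⟩ := exists_mem_orderOf_eq h
  intro e
  have := mem_omegaOne hx (h2 ▸ pow_orderOf_eq_one x)
  rw [e, mem_bot] at this
  exact ne_one_of_orderOf_eq h2 this

/-- A `p`-group acting on a nontrivial `p`-group has nontrivial fixed points. -/
theorem inf_centralizer_ne_bot {T R : Subgroup G} (hT : IsPGroup p T) (hR : IsPGroup p R)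
    (h : T ≤ normalizer (R : Set G)) (h1 : R ≠ ⊥) : R ⊓ centralizer (T : Set G) ≠ ⊥ := by
  have hs : IsPGroup p (T ⊔ R : Subgroup G) := FClass.sup_of_ext (pCl_ext p) h hT hR
  have := inf_centralizer_ne_bot_of_isNilpotent hs.isNilpotent le_sup_right
    (sup_le h le_normalizer) h1
  exact fun e => this (le_bot_iff.1 (e ▸ inf_le_inf_left _ (centralizer_mono le_sup_left)))

theorem exists_fixed_orderOf {T R : Subgroup G} (hT : IsPGroup p T) (hR : IsPGroup p R)
    (h : T ≤ normalizer (R : Set G)) (h1 : R ≠ ⊥) :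
    ∃ z ∈ R, orderOf z = p ∧ T ≤ centralizer ({z} : Set G) := by
  obtain ⟨z, hz, h2⟩ := exists_mem_orderOf_eq_of_isPGroup (hR.to_le inf_le_left)
    (inf_centralizer_ne_bot hT hR h h1)
  exact ⟨z, hz.1, h2, le_centralizer_singleton_iff.2 hz.2⟩

theorem inf_OmZ_ne_bot {T R : Subgroup G} (hT : IsPGroup p T) (h0 : R ≤ T)
    (h : T ≤ normalizer (R : Set G)) (h1 : R ≠ ⊥) : R ⊓ OmZ p T ≠ ⊥ := by
  obtain ⟨z, hz, h2, h3⟩ := exists_fixed_orderOf hT (hT.to_le h0) h h1
  intro e
  have : z ∈ R ⊓ OmZ p T := ⟨hz, mem_OmZ.2 ⟨h0 hz, le_centralizer_singleton_iff.1 h3,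
    h2 ▸ pow_orderOf_eq_one z⟩⟩
  rw [e, mem_bot] at this
  exact ne_one_of_orderOf_eq h2 this

theorem OmZ_ne_bot {T : Subgroup G} (hT : IsPGroup p T) (h1 : T ≠ ⊥) : OmZ p T ≠ ⊥ :=
  fun e => inf_OmZ_ne_bot hT le_rfl le_normalizer h1 (by rw [e, inf_bot_eq])

theorem isPGroup_sup {A B : Subgroup G} (h : A ≤ normalizer (B : Set G)) (hA : IsPGroup p A)
    (hB : IsPGroup p B) : IsPGroup p (A ⊔ B : Subgroup G) := FClass.sup_of_ext (pCl_ext p) h hA hB

theorem isPGroup_sup' {A B : Subgroup G} (h : B ≤ normalizer (A : Set G)) (hA : IsPGroup p A)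
    (hB : IsPGroup p B) : IsPGroup p (A ⊔ B : Subgroup G) := FClass.sup_of_ext' (pCl_ext p) h hA hB

end

section
variable {G : Type u} [Group G] [Finite G] {p : ℕ} [hp : Fact p.Prime]

theorem CharP.of_inf_centralizer {H P : Subgroup G} (hP : IsPGroup p P) (h1 : P ≤ H)
    (h2 : H ≤ normalizer (P : Set G)) (h : CharP p (H ⊓ centralizer (P : Set G))) : CharP p H := by
  have hO := Comp.le_Op h1 h2 hP
  have h3 : PLay p H ⊔ Opp p H ≤ H ⊓ centralizer (P : Set G) :=
    le_inf (sup_le (PLay_le _ _) (Opp_le _ _))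
      (PLay_sup_Opp_le_centralizer.trans (centralizer_mono hO))
  obtain ⟨a, b⟩ := charP_iff_PLay_Opp.1 h
  refine charP_iff_PLay_Opp.2 ⟨le_bot_iff.1 ?_, le_bot_iff.1 ?_⟩
  · exact a ▸ PLay_le_PLay_of_le (le_sup_left.trans h3) inf_le_left
  · exact b ▸ Opp_le_Opp inf_le_left (le_sup_right.trans h3)

theorem CharP.inf_normalizer_of_centralizer {M P : Subgroup G} (hP : IsPGroup p P) (h1 : P ≤ M)
    (h : CharP p (M ⊓ centralizer (P : Set G))) : CharP p (M ⊓ normalizer (P : Set G)) := by
  refine CharP.of_inf_centralizer hP (le_inf h1 le_normalizer) inf_le_right ?_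
  rwa [inf_assoc, inf_eq_right.2 (centralizer_le_normalizer _)]

theorem CharP.inf_centralizer_of_normalizer {M P : Subgroup G}
    (h : CharP p (M ⊓ normalizer (P : Set G))) : CharP p (M ⊓ centralizer (P : Set G)) :=
  h.subnIn (.of_normalizer (inf_le_inf_left _ (centralizer_le_normalizer _))
    (le_normalizer_inf (inf_le_left.trans le_normalizer)
      (le_normalizer_centralizer inf_le_right)))

theorem CharP.inf_centralizer_mono {M U : Subgroup G} (hU : IsPGroup p U) (h1 : U ≤ M) :
    ∀ V, V ≤ U → CharP p (M ⊓ centralizer (V : Set G)) → CharP p (M ⊓ centralizer (U : Set G)) := by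
  intro V
  induction V using subgroup_induction_gt with
  | h V ih =>
    intro hV h
    rcases hV.eq_or_lt with rfl | hlt
    · exact h
    refine ih _ (lt_inf_normalizer_of_isPGroup hU hlt) inf_le_left ?_
    have := (h.inf_normalizer_of_centralizer (hU.to_le hV) (hV.trans h1)).inf_centralizer
      (hU.to_le inf_le_left : IsPGroup p (U ⊓ normalizer (V : Set G) : Subgroup G))
      (inf_le_inf_right _ h1)
    rwa [inf_assoc, inf_eq_right.2 ((centralizer_mono (le_inf hV le_normalizer)).trans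
      (centralizer_le_normalizer _))] at this

theorem CharP.centralizer_mono {U V : Subgroup G} (hU : IsPGroup p U) (hV : V ≤ U)
    (h : CharP p (centralizer (V : Set G))) : CharP p (centralizer (U : Set G)) := by
  have := CharP.inf_centralizer_mono hU le_top V hV (by rwa [top_inf_eq])
  rwa [top_inf_eq] at this

theorem charP_normalizer_iff {P : Subgroup G} (hP : IsPGroup p P) :
    CharP p (normalizer (P : Set G)) ↔ CharP p (centralizer (P : Set G)) := by
  constructor
  · intro h
    have := CharP.inf_centralizer_of_normalizer (M := ⊤) (P := P) (by rwa [top_inf_eq])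
    rwa [top_inf_eq] at this
  · intro h
    have := CharP.inf_normalizer_of_centralizer (M := ⊤) hP le_top (by rwa [top_inf_eq])
    rwa [top_inf_eq] at this

theorem CharP.inf_normalizer_of_mem {M U : Subgroup G} (hU : IsPGroup p U) (h1 : U ≤ M) {z : G}
    (hz : z ∈ U) (h : CharP p (M ⊓ centralizer ({z} : Set G))) :
    CharP p (M ⊓ normalizer (U : Set G)) :=
  (CharP.inf_centralizer_mono hU h1 (zpowers z) (zpowers_le.2 hz)
    (by rwa [centralizer_zpowers])).inf_normalizer_of_centralizer hU h1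

theorem CharP.normalizer_of_mem {U : Subgroup G} (hU : IsPGroup p U) {z : G}
    (hz : z ∈ U) (h : CharP p (centralizer ({z} : Set G))) : CharP p (normalizer (U : Set G)) :=
  (charP_normalizer_iff hU).2 (CharP.centralizer_mono hU (zpowers_le.2 hz)
    (by rwa [centralizer_zpowers]))

theorem CharP.centralizer_of_normalizer_zpowers {z : G}
    (h : CharP p (normalizer (zpowers z : Set G))) : CharP p (centralizer ({z} : Set G)) := by
  have := CharP.inf_centralizer_of_normalizer (M := ⊤) (P := zpowers z) (by rwa [top_inf_eq])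
  rwa [top_inf_eq, centralizer_zpowers] at this

theorem charP_centralizer_conj {z : G} (h : CharP p (centralizer ({z} : Set G))) (g : G) :
    CharP p (centralizer ({g * z * g⁻¹} : Set G)) := by
  rw [← cj_centralizer_singleton]; exact h.cj g

theorem isOfLocalCharacteristic_iff : IsOfLocalCharacteristic p G ↔
    p ∣ Nat.card G ∧ ∀ z : G, orderOf z = p → CharP p (centralizer ({z} : Set G)) := by
  refine and_congr_right fun _ => ⟨fun h z hz => ?_, fun h T hT h1 => ?_⟩
  · exact (charP_iff_subtype.2 (h _ (isPGroup_zpowers_of_orderOf_eq hz)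
      (zpowers_ne_bot_of_orderOf hz))).centralizer_of_normalizer_zpowers
  · obtain ⟨z, hz, h2⟩ := exists_mem_orderOf_eq_of_isPGroup hT h1
    exact charP_iff_subtype.1 ((h z h2).normalizer_of_mem hT hz)

theorem IsOfLocalCharacteristic.normalizer (h : IsOfLocalCharacteristic p G) {T : Subgroup G}
    (hT : IsPGroup p T) (h1 : T ≠ ⊥) : CharP p (normalizer (T : Set G)) :=
  charP_iff_subtype.2 (h.2 T hT h1)

/-- In local characteristic `p`, a subgroup containing `C(T)` and normalizing `T ≠ 1`. -/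
theorem IsOfLocalCharacteristic.charP_of_Op_ne_bot (h : IsOfLocalCharacteristic p G)
    {L : Subgroup G} (h1 : Op p L ≠ ⊥) (h2 : centralizer (Op p L : Set G) ≤ L) : CharP p L := by
  have h3 := (charP_normalizer_iff (isPGroup_Op p L)).1
    (IsOfLocalCharacteristic.normalizer h (isPGroup_Op p L) h1)
  refine CharP.of_inf_centralizer (isPGroup_Op p L) (Op_le _ _) (le_normalizer_Op_of_le le_rfl) ?_
  rwa [inf_eq_right.2 h2]

theorem isCharacteristicTwoType_iff : IsCharacteristicTwoType G ↔ IsOfLocalCharacteristic 2 G :=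
  and_congr_left' even_iff_two_dvd

theorem isOfParabolicCharacteristic_iff (S : Sylow p G) : IsOfParabolicCharacteristic p G ↔
    ∀ z ∈ OmZ p (S : Subgroup G), z ≠ 1 → CharP p (centralizer ({z} : Set G)) := by
  refine ⟨fun h z hz h1 => ?_, fun h R hR h1 ⟨T, hT⟩ => ?_⟩
  · rw [mem_OmZ] at hz
    refine (charP_iff_subtype.2 (h _ (isPGroup_zpowers (n := 1) (by rw [pow_one, hz.2.2]))
      (by rwa [Ne, zpowers_eq_bot]) ⟨S, ?_⟩)).centralizer_of_normalizer_zpowers
    exact (le_centralizer_iff.1 (zpowers_le.2 hz.2.1)).trans (centralizer_le_normalizer _)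
  · obtain ⟨z, hz, h2, h3⟩ := exists_fixed_orderOf T.2 hR hT h1
    have hzT : z ∈ (T : Subgroup G) := (sylIn_top T).le_of_normalizer' hR le_top hT hz
    obtain ⟨g, -, hg⟩ := (sylIn_top T).exists_cj_eq (sylIn_top S)
    have := h (g * z * g⁻¹) (by
      rw [← hg, ← cj_OmZ, conj_mem_cj]
      exact mem_OmZ.2 ⟨hzT, le_centralizer_singleton_iff.1 h3, h2 ▸ pow_orderOf_eq_one z⟩)
      (by simpa using ne_one_of_orderOf_eq h2)
    have h4 := charP_centralizer_conj this g⁻¹
    simp only [mul_assoc, inv_mul_cancel_left, inv_inv, inv_mul_cancel, mul_one] at h4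
    exact charP_iff_subtype.1 (h4.normalizer_of_mem hR hz)

theorem IsOfParabolicCharacteristic.normalizer (h : IsOfParabolicCharacteristic p G)
    {T R : Subgroup G} (hT : SylIn p T ⊤) (hR : IsPGroup p R) (h1 : R ≠ ⊥)
    (h2 : T ≤ normalizer (R : Set G)) : CharP p (normalizer (R : Set G)) :=
  charP_iff_subtype.2 (h R hR h1 ⟨hT.toSylowTop, h2⟩)

theorem IsOfParabolicCharacteristic.of_subnormal (h : IsOfParabolicCharacteristic p G)
    (S : Sylow p G) {N : Subgroup G} (hN : SubnIn N ⊤)
    (hle : OmZ p ((S : Subgroup G) ⊓ N) ≤ centralizer ((S : Subgroup G) : Set G)) :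
    IsOfParabolicCharacteristic p N := by
  have hS := (sylIn_top S).inf_subnIn hN
  rw [isOfParabolicCharacteristic_iff hS.toSylow]
  intro z hz h1
  have h2 : (z : G) ∈ OmZ p ((S : Subgroup G) ⊓ N) := by
    rw [← hS.map_toSylow, ← map_OmZ N.subtype_injective]
    exact mem_map_of_mem _ hz
  have h3 := (isOfParabolicCharacteristic_iff S).1 h z
    (mem_OmZ.2 ⟨(OmZ_le _ _ h2).1, hle h2, (mem_OmZ.1 h2).2.2⟩) (by simpa using h1)
  rw [← charP_map_subtype_iff, map_subtype_centralizer_singleton]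
  exact h3.subnIn (hN.inf_of_le le_top)

/-- A subgroup normalized by `O_p(M)` has characteristic `p`. -/
theorem CharP.of_Op_le_normalizer {M L : Subgroup G} (h : CharP p M) (h1 : L ≤ M)
    (h2 : Op p M ≤ normalizer (L : Set G)) : CharP p L :=
  (h.of_Op_le le_sup_right (sup_le h1 (Op_le _ _))).subnIn
    (.of_normalizer le_sup_left (sup_le le_normalizer h2))

theorem CharP.inf_centralizer_le_of_sylIn {M T Q : Subgroup G} (h : CharP p M) (hT : SylIn p T M)
    (h1 : Q ≤ T) (h2 : T ≤ normalizer (Q : Set G)) (h3 : T ⊓ centralizer (Q : Set G) ≤ Q) :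
    M ⊓ centralizer (Q : Set G) ≤ Q := by
  have hQ := hT.isP.to_le h1
  have hC := h.inf_centralizer hQ (h1.trans hT.le)
  have h4 : Op p (M ⊓ centralizer (Q : Set G)) ≤ Q :=
    (le_inf (hT.le_of_normalizer' (isPGroup_Op _ _) ((Op_le _ _).trans inf_le_left)
      (le_normalizer_Op (le_normalizer_inf (hT.le.trans le_normalizer)
        (le_normalizer_centralizer h2)))) ((Op_le _ _).trans inf_le_right)).trans h3
  exact (hC.le_Op le_rfl (inf_le_right.trans (Comp.centralizer_mono h4))).trans h4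

/-- Overgroups of a self-centralizing subgroup `Q` with `[O_p(M), Q] ≤ L`. -/
theorem CharP.of_self_centralizing {M Q L : Subgroup G} (h : CharP p M) (hQ : IsPGroup p Q)
    (h1 : Q ≤ L) (h2 : L ≤ M) (h3 : ⁅Op p M, Q⁆ ≤ L)
    (h4 : IsPGroup p (L ⊓ centralizer (Q : Set G) : Subgroup G)) : CharP p L := by
  set E := Res p (L ⊓ centralizer (Op p L : Set G)) with hE
  have hEL : E ≤ L := (ResPi_le _ _).trans inf_le_left
  have hEC : E ≤ centralizer (Op p L : Set G) := (ResPi_le _ _).trans inf_le_right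
  have hLE : L ≤ normalizer (E : Set G) := le_normalizer_ResPi (le_normalizer_inf le_normalizer
    (le_normalizer_centralizer (le_normalizer_Op_of_le le_rfl)))
  have hDL : L ≤ normalizer ((Op p M ⊓ L : Subgroup G) : Set G) :=
    le_normalizer_inf (le_normalizer_Op_of_le h2) le_normalizer
  have hK : ⁅Q ⊔ ⁅Q, L⁆, Op p M⁆ ≤ Op p M ⊓ L := by
    rw [sup_commutator_eq_iSup]
    refine commutator_iSup_left_le (fun g => (cj_le_of_mem h1 (le_normalizer g.2)).trans hDL)
      fun g => ?_
    have e : cj((g : G), Op p M) = Op p M := cj_eq_self_iff.2 (le_normalizer_Op_of_le h2 g.2)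
    rw [← e, ← cj_commutator, e]
    refine cj_le_of_mem (le_inf (commutator_le_right_of_le_normalizer
      (le_normalizer_Op_of_le (h1.trans h2))) ?_) (hDL g.2)
    rwa [commutator_comm]
  have hR : IsPGroup p (⁅Q, E⁆ : Subgroup G) := by
    refine isPGroup_of_forall_coprime fun Y hY hc => h.eq_bot
      ((hY.trans (commutator_le_right_of_le_normalizer (h1.trans hLE))).trans (hEL.trans h2)) ?_ hc
    refine Solv.coprime_le_centralizer_of_commutator_le (N := Op p M ⊓ L)
      (coprime_of_isPGroup ((isPGroup_Op _ _).to_le inf_le_left) hc).symm ?_ ?_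
    · rw [commutator_comm]
      exact (commutator_mono (hY.trans ((commutator_mono le_rfl hEL).trans le_sup_right))
        le_rfl).trans hK
    · exact (hY.trans (commutator_le_right_of_le_normalizer (h1.trans hLE))).trans
        (hEC.trans (Comp.centralizer_mono (Op_inf_le h2)))
  have hRO : ⁅Q, E⁆ ≤ Op p L :=
    (Comp.le_Op (commutator_le_right_of_le_normalizer (h1.trans hLE))
      (le_sup_right.trans (sup_le_normalizer_commutator Q E)) hR).trans
      ((SubnIn.of_normalizer hEL hLE).Op_le p)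
  refine charP_of_forall fun Y a b hc => ?_
  have hYE : Y ≤ E := le_Res (le_inf a b) hc
  have : Y ≤ centralizer (Q : Set G) :=
    Solv.coprime_le_centralizer_of_commutator_le (N := Op p L)
      (coprime_of_isPGroup (isPGroup_Op _ _) hc).symm
      ((commutator_mono le_rfl hYE).trans hRO) b
  exact eq_bot_of_isPGroup_of_coprime (h4.to_le (le_inf a this)) hc

/-- A `p'`-group acting nilpotently on a `p`-group acts trivially. -/
theorem le_centralizer_of_iterCommutator {R Y : Subgroup G}
    (hc : (Nat.card Y).Coprime (Nat.card R)) (hn : Y ≤ normalizer (R : Set G)) {L : Subgroup G}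
    (hY : Y ≤ L) (hs : Group.IsSolvable Y ∨ Group.IsSolvable R) {n : ℕ}
    (h : iterCommutator R L n = ⊥) : Y ≤ centralizer (R : Set G) := by
  have key : ∀ k, ⁅R, Y⁆ ≤ iterCommutator R L (k + 1) := by
    intro k
    induction k with
    | zero => exact commutator_mono le_rfl hY
    | succ k ih =>
      rw [← Solv.coprime_commutator_commutator hn hc hs]
      exact commutator_mono ih hY
  rw [← commutator_eq_bot_iff', eq_bot_iff]
  refine (key n).trans ?_
  rw [iterCommutator, h, commutator_bot_left]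

end

end Cfsg.Agent.Comp
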