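/-
Strongly `p`-embedded subgroups, Sylow chain connectedness, `p`-solvable groups.
-/
import Cfsg.Agent.Lib.Comp.CharL
import Cfsg.Agent.Lib.Solv.PGrp
import Cfsg.Agent.Lib.Transfer.Rank
import Cfsg.Prelude.Def_SylowChains

set_option autoImplicit false
set_option linter.unusedSectionVars false

namespace Cfsg.Agent.Comp

open Subgroup
open scoped commutatorElement

universe u

section
variable {G : Type*} [Group G]

theorem orderOf_conj (g x : G) : orderOf (g * x * g⁻¹) = orderOf x :=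
  (MulAut.conj g).orderOf_eq x

theorem dvd_card_of_mem {H : Subgroup G} {x : G} (hx : x ∈ H) : orderOf x ∣ Nat.card H :=
  Solv.orderOf_dvd_card_of_mem hx

theorem ne_bot_of_mem {H : Subgroup G} {x : G} (hx : x ∈ H) (h1 : x ≠ 1) : H ≠ ⊥ :=
  fun e => h1 (by rwa [e, mem_bot] at hx)

theorem QS.isSimpleGroup {K : Subgroup G} (h : QS K) (hz : K ⊓ centralizer (K : Set G) = ⊥) :
    IsSimpleGroup K := by
  have : Nontrivial K := (Subgroup.nontrivial_iff_ne_bot K).2 h.ne_bot
  refine ⟨fun N hN => ?_⟩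
  rcases h.normal _ (map_subtype_le N) ((normal_iff_map_subtype N).1 hN) with e | e
  · right; rw [← subgroupOf_map_subtype_self N, e, subgroupOf_self]
  · left
    rw [← Subgroup.map_eq_bot_iff_of_injective N K.subtype_injective, eq_bot_iff, ← hz]
    exact le_inf (map_subtype_le N) e

theorem QS.not_isMulCommutative {K : Subgroup G} (h : QS K) : ¬ IsMulCommutative K :=
  fun h' => h.not_le_centralizer (isMulCommutative_iff_le.1 h')

theorem qs_of_isSimpleGroup {K : Subgroup G} (h : IsSimpleGroup K) (hc : ¬ IsMulCommutative K) :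
    QS K ∧ K ⊓ centralizer (K : Set G) = ⊥ := by
  have key : ∀ N, N ≤ K → K ≤ normalizer (N : Set G) → N = ⊥ ∨ N = K := fun N h1 h2 => by
    rcases h.eq_bot_or_eq_top_of_normal (N.subgroupOf K)
      ((normal_subgroupOf_iff_le_normalizer h1).2 h2) with e | e
    · left; rw [← inf_eq_left.2 h1]; exact (subgroupOf_eq_bot.1 e).eq_bot
    · right; exact le_antisymm h1 (subgroupOf_eq_top.1 e)
  refine ⟨⟨(key _ (commutator_le_left_of_le_normalizer le_normalizer)
    (le_normalizer_commutator le_normalizer le_normalizer)).resolve_left fun e => hc ?_,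
    fun e => hc ?_, fun N a b => (key N a b).symm.imp_right fun e => by rw [e]; exact bot_le⟩,
    (key _ inf_le_left (le_normalizer_center le_normalizer)).resolve_right fun e => hc ?_⟩
  · exact isMulCommutative_iff_le.2 (commutator_eq_bot_iff'.1 e)
  · exact isMulCommutative_iff_le.2 (e ▸ bot_le)
  · exact isMulCommutative_iff_le.2 (e.ge.trans inf_le_right)

/-- `H` is strongly `p`-embedded in `M`. -/
structure SPE (p : ℕ) (H M : Subgroup G) : Prop where
  le : H ≤ M
  ne : H ≠ M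
  dvd : p ∣ Nat.card H
  mem : ∀ x ∈ H, orderOf x = p → ∀ g ∈ M, g * x * g⁻¹ ∈ H → g ∈ H

theorem exists_fin_chain {α : Type*} {r : α → α → Prop} {a b : α}
    (h : Relation.ReflTransGen r a b) : ∃ (n : ℕ) (c : Fin (n + 1) → α), c 0 = a ∧
      c (Fin.last n) = b ∧ ∀ i : Fin n, r (c i.castSucc) (c i.succ) := by
  induction h using Relation.ReflTransGen.head_induction_on with
  | refl => exact ⟨0, fun _ => b, rfl, rfl, fun i => i.elim0⟩
  | head h1 _ ih =>
    obtain ⟨n, c, h0, hl, hc⟩ := ih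
    refine ⟨n + 1, Fin.cons _ c, rfl, hl, fun i => ?_⟩
    refine Fin.cases ?_ (fun j => hc j) i
    simpa [h0] using h1

theorem reflTransGen_of_fin_chain {α : Type*} {r : α → α → Prop} {n : ℕ} (c : Fin (n + 1) → α)
    (hc : ∀ i : Fin n, r (c i.castSucc) (c i.succ)) (i : Fin (n + 1)) :
    Relation.ReflTransGen r (c 0) (c i) := by
  induction i using Fin.induction with
  | zero => exact .refl
  | succ j ih => exact ih.tail (hc j)

variable [Finite G] {p : ℕ} [hp : Fact p.Prime] {H M : Subgroup G}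

theorem SPE.not_le (h : SPE p H M) : ¬ M ≤ H := fun e => h.ne (le_antisymm h.le e)

theorem SPE.mem_of_dvd (h : SPE p H M) {g : G} (hg : g ∈ M)
    (hd : p ∣ Nat.card (H ⊓ cj(g, H) : Subgroup G)) : g ∈ H := by
  obtain ⟨x, hx, h2⟩ := exists_mem_orderOf_eq hd
  have := h.mem x hx.1 h2 g⁻¹ (inv_mem hg) (by simpa using mem_cj.1 hx.2)
  simpa using this

theorem SPE.mem_of_cj_le (h : SPE p H M) {X : Subgroup G} (h1 : X ≤ H) (hd : p ∣ Nat.card X)
    {g : G} (hg : g ∈ M) (h2 : cj(g, X) ≤ H) : g ∈ H := by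
  obtain ⟨x, hx, h3⟩ := exists_mem_orderOf_eq hd
  exact h.mem x (h1 hx) h3 g hg (h2 (conj_mem_cj.2 hx))

theorem SPE.mem' (h : SPE p H M) {x : G} (hx : x ∈ H) (h1 : x ≠ 1) (h2 : IsPGroup p (zpowers x))
    {g : G} (hg : g ∈ M) (h3 : g * x * g⁻¹ ∈ H) : g ∈ H :=
  h.mem_of_cj_le (zpowers_le.2 hx) (dvd_card_of_isPGroup h2 (by rwa [Ne, zpowers_eq_bot])) hg
    (by rwa [cj_zpowers, zpowers_le])

theorem SPE.normalizer_le (h : SPE p H M) {X : Subgroup G} (h1 : X ≤ H) (hd : p ∣ Nat.card X) :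
    M ⊓ normalizer (X : Set G) ≤ H := fun _ hg =>
  h.mem_of_cj_le h1 hd hg.1 ((cj_eq_self_iff.2 hg.2).le.trans h1)

theorem SPE.le_of_le_normalizer (h : SPE p H M) {X K : Subgroup G} (h1 : X ≤ H)
    (hd : p ∣ Nat.card X) (h2 : K ≤ M) (h3 : K ≤ normalizer (X : Set G)) : K ≤ H :=
  (le_inf h2 h3).trans (h.normalizer_le h1 hd)

theorem SPE.centralizer_le (h : SPE p H M) {x : G} (hx : x ∈ H) (h2 : orderOf x = p) :
    M ⊓ centralizer ({x} : Set G) ≤ H := fun g hg =>
  h.mem x hx h2 g hg.1 (by rw [mem_centralizer_singleton_iff.1 hg.2]; simpa using hx)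

theorem SPE.not_dvd_of_normal (h : SPE p H M) {X : Subgroup G} (h1 : X ≤ H)
    (h3 : M ≤ normalizer (X : Set G)) : ¬ p ∣ Nat.card X := fun hd =>
  h.not_le (h.le_of_le_normalizer h1 hd le_rfl h3)

theorem SPE.sylIn_of_inf (h : SPE p H M) {K P : Subgroup G} (hK : K ≤ M)
    (hd : p ∣ Nat.card (K ⊓ H : Subgroup G)) (hP : SylIn p P (K ⊓ H)) : SylIn p P K := by
  have h1 : P ≠ ⊥ := fun e => hP.eq_bot_iff.1 e hd
  refine SylIn.of_normalizer (hP.le.trans inf_le_left) (hP.of_le
    (le_inf (hP.le.trans inf_le_left) le_normalizer) (le_inf inf_le_left ?_))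
  exact (inf_le_inf_right _ hK).trans
    (h.normalizer_le (hP.le.trans inf_le_right) (dvd_card_of_isPGroup hP.isP h1))

theorem SPE.sylIn (h : SPE p H M) {P : Subgroup G} (hP : SylIn p P H) : SylIn p P M :=
  h.sylIn_of_inf le_rfl (by rw [inf_eq_right.2 h.le]; exact h.dvd) (by rwa [inf_eq_right.2 h.le])

theorem SPE.exists_sylIn (h : SPE p H M) : ∃ P, SylIn p P M ∧ P ≤ H ∧ P ≠ ⊥ := by
  obtain ⟨P, hP⟩ := Comp.exists_sylIn p H
  exact ⟨P, h.sylIn hP, hP.le, fun e => hP.eq_bot_iff.1 e h.dvd⟩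

theorem SPE.le_of_isPGroup (h : SPE p H M) {Q : Subgroup G} (hQ : IsPGroup p Q) (h1 : Q ≤ M)
    (h2 : Q ⊓ H ≠ ⊥) : Q ≤ H := by
  by_contra hn
  have hlt : Q ⊓ H < Q := inf_lt_left.2 hn
  refine (lt_inf_normalizer_of_isPGroup hQ hlt).not_ge (le_inf inf_le_left ?_)
  exact (inf_le_inf_right _ h1).trans
    (h.normalizer_le inf_le_right (dvd_card_of_isPGroup (hQ.to_le inf_le_left) h2))

theorem SPE.inf (h : SPE p H M) {K : Subgroup G} (hK : K ≤ M) (h1 : ¬ K ≤ H)
    (hd : p ∣ Nat.card (K ⊓ H : Subgroup G)) : SPE p (K ⊓ H) K :=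
  ⟨inf_le_left, fun e => h1 (inf_eq_left.1 e), hd, fun x hx h2 g hg h3 =>
    ⟨hg, h.mem x hx.2 h2 g (hK hg) h3.2⟩⟩

theorem SPE.cj (h : SPE p H M) (g : G) : SPE p cj(g, H) cj(g, M) :=
  ⟨cj_mono g h.le, fun e => h.ne (cj_inj.1 e), by rw [card_cj]; exact h.dvd,
    fun x hx h2 k hk h3 => mem_cj.2 (h.mem (g⁻¹ * x * g) (mem_cj.1 hx)
      (by rw [← h2]; simpa using orderOf_conj g⁻¹ x) _ (mem_cj.1 hk)
      (by have := mem_cj.1 h3; simpa [mul_assoc] using this))⟩

theorem spe_of_sylows {S : Subgroup G} (h1 : H ≤ M) (h2 : H ≠ M) (hS : SylIn p S M) (hSH : S ≤ H)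
    (hS1 : S ≠ ⊥) (hN : M ⊓ normalizer (S : Set G) ≤ H)
    (h : ∀ T, SylIn p T M → T ⊓ H ≠ ⊥ → T ≤ H) : SPE p H M := by
  refine ⟨h1, h2, (dvd_card_of_isPGroup hS.isP hS1).trans (card_dvd_of_le hSH),
    fun x hx ho g hg h3 => ?_⟩
  obtain ⟨T, hxT, hT⟩ := exists_sylIn_ge (isPGroup_zpowers_of_orderOf_eq ho)
    (zpowers_le.2 (h1 hx))
  have x1 := ne_one_of_orderOf_eq ho
  have a := h T hT (ne_bot_of_mem (mem_inf.2 ⟨hxT (mem_zpowers x), hx⟩) x1)
  have hT' := hT.cj_of_mem (le_normalizer hg)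
  have b := h _ hT' (ne_bot_of_mem (mem_inf.2 ⟨conj_mem_cj.2 (hxT (mem_zpowers x)), h3⟩)
    (by simpa using x1))
  obtain ⟨k, hk, e1⟩ := (hS.of_le hSH h1).exists_cj_eq (hT.of_le a h1)
  obtain ⟨l, hl, e2⟩ := (hT'.of_le b h1).exists_cj_eq (hS.of_le hSH h1)
  have : l * g * k ∈ H := hN (mem_inf.2 ⟨mul_mem (mul_mem (h1 hl) hg) (h1 hk),
    cj_eq_self_iff.1 (by rw [cj_mul, cj_mul, e1, e2])⟩)
  have := mul_mem (mul_mem (inv_mem hl) this) (inv_mem hk)
  simpa [mul_assoc] using this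

theorem spe_of_normalizers {S : Subgroup G} (h1 : H ≤ M) (h2 : H ≠ M) (hS : SylIn p S M)
    (hS1 : S ≠ ⊥) (h : ∀ Q, Q ≤ S → Q ≠ ⊥ → M ⊓ normalizer (Q : Set G) ≤ H) : SPE p H M := by
  have hSH : S ≤ H := (le_inf hS.le le_normalizer).trans (h S le_rfl hS1)
  have key : ∀ Q, Q ≤ H → IsPGroup p Q → Q ≠ ⊥ → M ⊓ normalizer (Q : Set G) ≤ H := by
    intro Q a b c
    obtain ⟨k, hk, e⟩ := (hS.of_le hSH h1).exists_cj_le b a
    have := h _ e (by rwa [Ne, cj_eq_bot_iff])
    rw [← cj_normalizer, ← cj_eq_self_of_mem (h1 hk), ← cj_inf, ← cj_eq_self_of_mem hk,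
      cj_le_cj_iff] at this
    exact this
  refine spe_of_sylows h1 h2 hS hSH hS1 (h S le_rfl hS1) fun T hT h3 => ?_
  by_contra hn
  refine (lt_inf_normalizer_of_isPGroup hT.isP (inf_lt_left.2 hn)).not_ge (le_inf inf_le_left ?_)
  exact (inf_le_inf_right _ hT.le).trans (key _ inf_le_right (hT.isP.to_le inf_le_left) h3)

theorem spe_of_centralizers {S : Subgroup G} (h1 : H ≤ M) (h2 : H ≠ M) (hS : SylIn p S H)
    (hN : M ⊓ normalizer (S : Set G) ≤ H)
    (h : ∀ x ∈ S, orderOf x = p → M ⊓ centralizer ({x} : Set G) ≤ H) : SPE p H M := by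
  have hS1 : S ≠ ⊥ := by
    rintro rfl
    exact h2 (le_antisymm h1 ((le_inf le_rfl (le_normalizer_normal _ _)).trans hN))
  have hS' : SylIn p S M := SylIn.of_normalizer (hS.le.trans h1)
    (hS.of_le (le_inf (hS.le.trans h1) le_normalizer) hN)
  have key : ∀ x ∈ H, orderOf x = p → M ⊓ centralizer ({x} : Set G) ≤ H := by
    intro x a b
    obtain ⟨k, hk, e⟩ := hS.exists_cj_le (isPGroup_zpowers_of_orderOf_eq b) (zpowers_le.2 a)
    have := h _ (e (conj_mem_cj.2 (mem_zpowers x))) (by rwa [orderOf_conj])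
    rw [← cj_centralizer_singleton, ← cj_eq_self_of_mem (h1 hk), ← cj_inf, ← cj_eq_self_of_mem hk,
      cj_le_cj_iff] at this
    exact this
  refine spe_of_sylows h1 h2 hS' hS.le hS1 hN fun T hT h3 => ?_
  obtain ⟨x, hx, ho⟩ := exists_mem_orderOf_eq_of_isPGroup (hT.isP.to_le inf_le_left) h3
  obtain ⟨z, hz, hz1, hz2⟩ := exists_fixed_orderOf hT.isP hT.isP le_normalizer
    (fun e => h3 (by rw [e, bot_inf_eq]))
  have : z ∈ H := key x hx.2 ho ⟨hT.le hz, mem_centralizer_singleton_iff.2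
    (mem_centralizer_singleton_iff.1 (hz2 hx.1)).symm⟩
  exact (le_inf hT.le hz2).trans (key z this hz1)

theorem SPE.mono (h : SPE p H M) {K : Subgroup G} (h1 : H ≤ K) (h2 : K ≤ M) (h3 : K ≠ M) :
    SPE p K M := by
  obtain ⟨P, a, b, c⟩ := h.exists_sylIn
  exact spe_of_normalizers h2 h3 a c fun Q hQ h4 =>
    (h.normalizer_le (hQ.trans b) (dvd_card_of_isPGroup (a.isP.to_le hQ) h4)).trans h1

theorem SPE.sup_Res (h : SPE p H M) {N : Subgroup G} (h1 : N ≤ M) (h2 : M ≤ normalizer (N : Set G))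
    (hd : p ∣ Nat.card N) : H ⊔ Res p N = M := by
  obtain ⟨P, a, b, -⟩ := h.exists_sylIn
  have hP := a.inf_normal h1 (a.le.trans h2)
  refine le_antisymm (sup_le h.le ((ResPi_le _ _).trans h1)) ?_
  rw [← hP.frattini h1 h2]
  refine sup_le (hP.Res_sup.ge.trans (sup_le le_sup_right ((inf_le_left.trans b).trans
    le_sup_left))) ((h.normalizer_le (inf_le_left.trans b) (dvd_card_of_isPGroup hP.isP
    fun e => hP.eq_bot_iff.1 e hd)).trans le_sup_left)

theorem SPE.eq_bot_of_normal (h : SPE p H M) {N : Subgroup G} (h1 : N ≤ M)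
    (h2 : M ≤ normalizer (N : Set G)) (hN : IsPGroup p N) : N = ⊥ := by
  obtain ⟨P, a, b, -⟩ := h.exists_sylIn
  by_contra hn
  exact h.not_dvd_of_normal ((a.le_of_normalizer' hN h1 (a.le.trans h2)).trans b) h2
    (dvd_card_of_isPGroup hN hn)

theorem SPE.le_of_elementary (h : SPE p H M) {A K : Subgroup G} (hA : IsElementaryAbelian p A)
    (h2 : p ^ 2 ≤ Nat.card A) (hAH : A ≤ H) (hK : K ≤ M) (hc : (Nat.card K).Coprime p)
    (hn : A ≤ normalizer (K : Set G)) : K ≤ H :=
  le_of_forall_centralizer hA h2 hn hc fun _ ha h1 => (inf_le_inf_right _ hK).trans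
    (h.centralizer_le (hAH ha) (IsElementaryAbelian.orderOf_eq hA ha h1))

theorem SPE.map {G' : Type*} [Group G'] (h : SPE p H M) (f : G →* G')
    (hk : M ⊓ f.ker ≤ H) (hc : (Nat.card (M ⊓ f.ker : Subgroup G)).Coprime p) :
    SPE p (H.map f) (M.map f) := by
  have key : ∀ g ∈ M, f g ∈ H.map f → g ∈ H := by
    rintro g hg ⟨k, hk', e⟩
    have := mul_mem hk' (hk (mem_inf.2 ⟨mul_mem (inv_mem (h.le hk')) hg, by simp [e]⟩ :
      k⁻¹ * g ∈ M ⊓ f.ker))
    simpa using this
  refine ⟨map_mono h.le, fun e => h.not_le fun g hg => key g hg (e ▸ mem_map_of_mem f hg), ?_, ?_⟩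
  · obtain ⟨x, hx, ho⟩ := exists_mem_orderOf_eq h.dvd
    have : orderOf (f x) = p := orderOf_eq_prime (by rw [← map_pow, ← ho, pow_orderOf_eq_one,
      map_one]) fun e => coprime_iff_not_dvd.1 hc (ho ▸ dvd_card_of_mem ⟨h.le hx, e⟩)
    exact this ▸ dvd_card_of_mem (mem_map_of_mem f hx)
  · rintro y hy ho _ ⟨g, hg, rfl⟩ h3
    obtain ⟨P, a, b, c⟩ := exists_isPGroup_map_eq f (zpowers_le.2 hy)
      (isPGroup_zpowers_of_orderOf_eq ho)
    obtain ⟨x, hx, rfl⟩ : y ∈ P.map f := c ▸ mem_zpowers y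
    refine mem_map_of_mem f (h.mem' (a hx) ?_ (b.to_le (zpowers_le.2 hx)) hg (key _ ?_ ?_))
    · rintro rfl; exact ne_one_of_orderOf_eq ho (map_one f)
    · exact mul_mem (mul_mem hg (h.le (a hx))) (inv_mem hg)
    · simpa using h3

theorem SPE.map_of_injective {G' : Type*} [Group G'] (h : SPE p H M) {f : G →* G'}
    (hf : Function.Injective f) : SPE p (H.map f) (M.map f) := by
  have : M ⊓ f.ker = ⊥ := by rw [f.ker_eq_bot_iff.2 hf, inf_bot_eq]
  exact h.map f (this ▸ bot_le) (by rw [this]; simp)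

theorem SPE.of_map_injective {G' : Type*} [Group G'] {f : G →* G'}
    (hf : Function.Injective f) (h : SPE p (H.map f) (M.map f)) : SPE p H M :=
  ⟨(map_le_map_iff_of_injective hf).1 h.le, fun e => h.ne (e ▸ rfl),
    by have := h.dvd; rwa [card_map_of_injective hf] at this,
    fun x hx ho g hg h3 => (mem_map_iff_mem hf).1 (h.mem (f x) (mem_map_of_mem f hx)
      (by rwa [orderOf_injective f hf]) (f g) (mem_map_of_mem f hg)
      (by simpa using mem_map_of_mem f h3))⟩

theorem not_pRankLE_zero_iff {Q : Subgroup G} : ¬ PRankLE p 0 Q ↔ p ∣ Nat.card Q := by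
  rw [Transfer.pRankLE_sub_iff]
  push Not
  constructor
  · rintro ⟨A, h1, h2, h3⟩
    exact (dvd_card_of_isPGroup (IsElementaryAbelian.isPGroup h2)
      (by rintro rfl; simp at h3)).trans (card_dvd_of_le h1)
  · intro h
    obtain ⟨x, hx, ho⟩ := exists_mem_orderOf_eq h
    exact ⟨zpowers x, zpowers_le.2 hx, isElementaryAbelian_zpowers (ho ▸ pow_orderOf_eq_one x),
      by rw [Nat.card_zpowers, ho, pow_zero]; exact hp.out.one_lt⟩

theorem spe_top_iff : SPE p H ⊤ ↔ IsStronglyPEmbedded p H := by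
  constructor
  · intro h
    obtain ⟨P, a, b, c⟩ := h.exists_sylIn
    refine ⟨h.dvd.trans (card_subgroup_dvd_card H), h.ne, a.toSylowTop, iSup_le fun Q => ?_⟩
    exact h.le_of_le_normalizer (Q.2.1.trans b) (not_pRankLE_zero_iff.1 Q.2.2) le_top le_rfl
  · rintro ⟨h1, h2, P, hP⟩
    refine spe_of_normalizers le_top h2 (sylIn_top P)
      (fun e => (sylIn_top P).eq_bot_iff.1 e (by rwa [card_top])) fun Q a b => ?_
    refine inf_le_right.trans (le_trans ?_ hP)
    exact le_iSup (fun Q : {Q : Subgroup G // Q ≤ P ∧ ¬ PRankLE p (1 - 1) Q} =>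
      normalizer ((Q : Subgroup G) : Set G))
      ⟨Q, a, by
        rw [Nat.sub_self]; exact not_pRankLE_zero_iff.2 (dvd_card_of_isPGroup (P.2.to_le a) b)⟩

theorem spe_iff_subgroupOf (h : H ≤ M) : SPE p H M ↔ IsStronglyPEmbedded p (H.subgroupOf M) := by
  rw [← spe_top_iff]
  constructor
  · intro h'
    refine SPE.of_map_injective M.subtype_injective ?_
    rwa [map_subtype_top, subgroupOf_map_subtype, inf_eq_left.2 h]
  · intro h'
    have := h'.map_of_injective M.subtype_injective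
    rwa [map_subtype_top, subgroupOf_map_subtype, inf_eq_left.2 h] at this

theorem spe_top_iff' : SPE p H ⊤ ↔ H ≠ ⊤ ∧ p ∣ Nat.card H ∧
    ∀ g : G, g ∉ H → ¬ p ∣ Nat.card (H ⊓ cj(g, H) : Subgroup G) :=
  ⟨fun h => ⟨h.ne, h.dvd, fun g hg hd => hg (h.mem_of_dvd (mem_top g) hd)⟩,
    fun h => ⟨le_top, h.1, h.2.1, fun x hx ho g _ h3 => by
      by_contra hn
      exact h.2.2 g hn (by
        rw [← ho, ← orderOf_conj g x]; exact dvd_card_of_mem ⟨h3, conj_mem_cj.2 hx⟩)⟩⟩

theorem spe_two_iff : SPE 2 H ⊤ ↔ IsStronglyEmbedded H := by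
  rw [spe_top_iff', IsStronglyEmbedded, even_iff_two_dvd]
  simp only [← Nat.not_even_iff_odd, even_iff_two_dvd]

/-- A `p`-group with a unique subgroup of order `p`. -/
def RankOne (p : ℕ) (T : Subgroup G) : Prop :=
  ∀ x ∈ T, orderOf x = p → ∀ y ∈ T, y ^ p = 1 → y ∈ zpowers x

theorem rankOne_of_isCyclic {T : Subgroup G} (h : IsCyclic T) : RankOne p T := fun x hx ho y hy h2 =>
  Solv.mem_of_isCyclic_of_pow_card h (zpowers_le.2 hx) hy (by rwa [Nat.card_zpowers, ho])

theorem rankOne_of_quaternion {T : Subgroup G} (hT : IsPGroup p T) {n : ℕ}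
    (e : T ≃* QuaternionGroup n) : p = 2 ∧ RankOne p T := by
  have : Finite (QuaternionGroup n) := Finite.of_equiv _ e.toEquiv
  have hn : n ≠ 0 := by
    rintro rfl
    have : Infinite (ZMod (2 * 0)) := inferInstanceAs (Infinite ℤ)
    have : Infinite (QuaternionGroup 0) :=
      Infinite.of_injective QuaternionGroup.a fun _ _ h => by cases h; rfl
    exact not_finite (QuaternionGroup 0)
  have := NeZero.mk hn
  obtain ⟨a, s, h1, h2, h3, h4, rfl⟩ := Transfer.exists_gens_of_quaternion e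
  have hp2 : p = 2 := by
    obtain ⟨k, hk⟩ := Solv.exists_orderOf_eq_pow hT (subset_closure (by simp) : a ∈ _)
    have : 2 ∣ p ^ k := ⟨n, by rw [← hk, h1]⟩
    exact ((Nat.prime_dvd_prime_iff_eq Nat.prime_two hp.out).1
      (Nat.prime_two.dvd_of_dvd_pow this)).symm
  subst hp2
  have key : ∀ y ∈ closure ({a, s} : Set G), y ^ 2 = 1 → y ∈ zpowers a := by
    intro y hy h
    obtain ⟨i, rfl | rfl⟩ := (Transfer.mem_closure_pair_iff
      (Transfer.mem_normalizer_zpowers_of_inv h2) (h3 ▸ pow_mem (mem_zpowers a) n)).1 hy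
    · exact zpow_mem (mem_zpowers a) i
    · rw [sq, Transfer.mul_self_of_inverts (Transfer.conj_zpow_of_inverts h2 i), ← sq, h3] at h
      have := Nat.le_of_dvd (Nat.pos_of_ne_zero hn) (h1 ▸ orderOf_dvd_of_pow_eq_one h)
      omega
  refine ⟨rfl, fun x hx ho y hy h => ?_⟩
  exact rankOne_of_isCyclic inferInstance x (key x hx (ho ▸ pow_orderOf_eq_one x)) ho y
    (key y hy h) h

theorem RankOne.omegaOne_eq {T : Subgroup G} (h : RankOne p T) {x : G} (hx : x ∈ T)
    (ho : orderOf x = p) : omegaOne p T = zpowers x :=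
  le_antisymm (omegaOne_le_iff.2 (h x hx ho))
    (zpowers_le.2 (mem_omegaOne hx (ho ▸ pow_orderOf_eq_one x)))

theorem RankOne.of_le {T Q : Subgroup G} (h : RankOne p T) (hQ : Q ≤ T) : RankOne p Q :=
  fun x hx ho y hy => h x (hQ hx) ho y (hQ hy)

theorem RankOne.normalizer_le {T Q : Subgroup G} (h : RankOne p T) (hQ : Q ≤ T)
    (hd : p ∣ Nat.card Q) : normalizer (Q : Set G) ≤ normalizer (omegaOne p T : Set G) := by
  obtain ⟨x, hx, ho⟩ := exists_mem_orderOf_eq hd
  rw [h.omegaOne_eq (hQ hx) ho, ← (h.of_le hQ).omegaOne_eq hx ho]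
  exact le_normalizer_omegaOne le_rfl

theorem RankOne.isPGroup_omegaOne {T : Subgroup G} (h : RankOne p T) :
    IsPGroup p (omegaOne p T) := by
  by_cases hd : p ∣ Nat.card T
  · obtain ⟨x, hx, ho⟩ := exists_mem_orderOf_eq hd
    rw [h.omegaOne_eq hx ho]; exact isPGroup_zpowers_of_orderOf_eq ho
  · have : omegaOne p T = ⊥ := le_bot_iff.1 (omegaOne_le_iff.2 fun x hx h1 => by
      by_contra hn
      exact hd (orderOf_eq_prime h1 hn ▸ dvd_card_of_mem hx))
    rw [this]; exact IsPGroup.of_bot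

theorem rankOne_or_exists_elementary {T : Subgroup G} (hT : IsPGroup p T) :
    (IsCyclic T ∨ (p = 2 ∧ ∃ n : ℕ, Nonempty (T ≃* QuaternionGroup (2 ^ n)))) ∨
      ∃ E, E ≤ T ∧ IsElementaryAbelian p E ∧ Nat.card E = p ^ 2 := by
  by_cases h : ∃ E, E ≤ T ∧ IsElementaryAbelian p E ∧ Nat.card E = p ^ 2
  · exact Or.inr h
  left
  rcases Solv.isCyclic_or_quaternion hT fun E a b c d => h ⟨E, a, ⟨c, d⟩, b⟩ with e | ⟨e, a, b, m,
    -, h1, h2, h3, -, h4, h5⟩
  · exact Or.inl e
  · exact Or.inr ⟨e, m, Solv.nonempty_quaternion_of_gens h1 h2 h3 h4 h5⟩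

theorem rankOne_or_exists_elementary' {T : Subgroup G} (hT : IsPGroup p T) :
    RankOne p T ∨ ∃ E, E ≤ T ∧ IsElementaryAbelian p E ∧ Nat.card E = p ^ 2 :=
  (rankOne_or_exists_elementary hT).imp_left fun h => h.elim rankOne_of_isCyclic
    fun ⟨_, _, ⟨e⟩⟩ => (rankOne_of_quaternion hT e).2

theorem isSylowChainConnected_iff : IsSylowChainConnected p G ↔ ∀ S T : Sylow p G,
    Relation.ReflTransGen (fun A B : Sylow p G => (A : Subgroup G) ⊓ (B : Subgroup G) ≠ ⊥) S T := by
  constructor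
  · intro h S T
    obtain ⟨n, c, rfl, rfl, -, hc⟩ := h S T
    exact reflTransGen_of_fin_chain c (fun i => (hc i).2) _
  · intro h S T
    by_cases e : S = T
    · subst e; exact ⟨0, fun _ => S, rfl, rfl, fun _ => inf_le_left, fun i => i.elim0⟩
    by_cases e2 : (S : Subgroup G) ⊓ (T : Subgroup G) = ⊥
    · have : Relation.ReflTransGen (fun A B : Sylow p G =>
          A ≠ B ∧ (A : Subgroup G) ⊓ (B : Subgroup G) ≠ ⊥) S T := by
        have h' := h S T
        clear e e2
        induction h' with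
        | refl => exact .refl
        | tail _ h2 ih =>
          rename_i b c _
          by_cases e : b = c
          · exact e ▸ ih
          · exact ih.tail ⟨e, h2⟩
      obtain ⟨n, c, a, b, hc⟩ := exists_fin_chain this
      exact ⟨n, c, a, b, fun _ => e2 ▸ bot_le, hc⟩
    · refine ⟨1, ![S, T], rfl, rfl, fun i => ?_, fun i => ?_⟩
      · fin_cases i
        · exact inf_le_left
        · exact inf_le_right
      · fin_cases i
        exact ⟨e, e2⟩

theorem coe_smul_sylow (g : G) (P : Sylow p G) :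
    ((g • P : Sylow p G) : Subgroup G) = cj(g, (P : Subgroup G)) := rfl

theorem not_isSylowChainConnected_iff :
    ¬ IsSylowChainConnected p G ↔ ∃ H : Subgroup G, SPE p H ⊤ := by
  rw [isSylowChainConnected_iff]
  set r := fun A B : Sylow p G => (A : Subgroup G) ⊓ (B : Subgroup G) ≠ ⊥ with hr
  constructor
  · intro h
    push Not at h
    obtain ⟨S, T, hST⟩ := h
    have hsm : ∀ (g : G) {A B : Sylow p G}, Relation.ReflTransGen r A B →
        Relation.ReflTransGen r (g • A) (g • B) := fun g _ _ h =>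
      h.lift (g • ·) fun A B hAB => by
        change cj(g, (A : Subgroup G)) ⊓ cj(g, (B : Subgroup G)) ≠ ⊥
        rwa [← cj_inf, Ne, cj_eq_bot_iff]
    have hsy : ∀ {A B : Sylow p G}, Relation.ReflTransGen r A B → Relation.ReflTransGen r B A :=
      fun h => by
        induction h with
        | refl => exact .refl
        | tail _ h2 ih => exact ih.head (by simp only [hr] at h2 ⊢; rwa [inf_comm])
    let K : Subgroup G :=
      { carrier := {g | Relation.ReflTransGen r S (g • S)}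
        one_mem' := by simpa using Relation.ReflTransGen.refl
        mul_mem' := fun {a b} ha hb => by
          have := hsm a hb
          rw [← mul_smul] at this
          exact ha.trans this
        inv_mem' := fun {a} ha => by
          have := hsm a⁻¹ ha
          rw [inv_smul_smul] at this
          exact hsy this }
    have hNK : normalizer ((S : Subgroup G) : Set G) ≤ K := fun g hg => by
      change Relation.ReflTransGen r S (g • S)
      rw [Sylow.smul_eq_iff_mem_normalizer.2 hg]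
    have hSK : (S : Subgroup G) ≤ K := le_normalizer.trans hNK
    obtain ⟨g, rfl⟩ := MulAction.exists_smul_eq G S T
    have hS1 : (S : Subgroup G) ≠ ⊥ := fun e => hST (by
      rw [show g • S = S from Sylow.ext (by rw [coe_smul_sylow, e, cj_bot])])
    refine ⟨K, spe_of_sylows le_top (fun e => hST (e.ge (mem_top g))) (sylIn_top S) hSK hS1
      (inf_le_right.trans hNK) fun T hT h3 => ?_⟩
    obtain ⟨k, -, rfl⟩ := (sylIn_top S).exists_cj_eq hT
    obtain ⟨l, hl, e⟩ := ((sylIn_top S).of_le hSK le_top).exists_le_cj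
      (hT.isP.to_le inf_le_left) (inf_le_right : _ ⊓ K ≤ K)
    have : k ∈ K := Relation.ReflTransGen.tail hl fun e' => h3 (le_bot_iff.1
      (e' ▸ le_inf e inf_le_left))
    exact cj_le_of_mem hSK (le_normalizer this)
  · rintro ⟨H, h⟩ hc
    obtain ⟨P, a, b, c⟩ := h.exists_sylIn
    have key : ∀ T : Sylow p G, (T : Subgroup G) ≤ H := fun T => by
      induction hc a.toSylowTop T with
      | refl => exact b
      | tail _ h2 ih =>
        exact h.le_of_isPGroup (Sylow.isPGroup' _) le_top fun e => h2 (le_bot_iff.1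
          (e ▸ le_inf inf_le_right (inf_le_left.trans ih)))
    exact h.not_le fun g _ => h.mem_of_cj_le b (dvd_card_of_isPGroup a.isP c) (mem_top g)
      (key (g • a.toSylowTop))

end

section
variable {G : Type u} [Group G] [Finite G] {p : ℕ} [hp : Fact p.Prime] {H M : Subgroup G}

theorem SPE.Op_eq_bot (h : SPE p H M) : Op p M = ⊥ :=
  h.eq_bot_of_normal (Op_le _ _) (le_normalizer_Op_of_le le_rfl) (isPGroup_Op _ _)

theorem RankOne.spe {T : Subgroup G} (h : RankOne p T) (hT : SylIn p T M) (h1 : T ≠ ⊥)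
    (hO : Op p M = ⊥) : SPE p (M ⊓ normalizer (omegaOne p T : Set G)) M :=
  spe_of_normalizers inf_le_left (fun e => omegaOne_ne_bot (dvd_card_of_isPGroup hT.isP h1)
    (le_bot_iff.1 (hO ▸ le_Op ((omegaOne_le _ _).trans hT.le) (inf_eq_left.1 e)
    h.isPGroup_omegaOne))) hT h1 fun _ a b => inf_le_inf_left _
      (h.normalizer_le a (dvd_card_of_isPGroup (hT.isP.to_le a) b))

/-- If `O_{p'}(M) = 1` and `M` has a strongly `p`-embedded subgroup, `F^*(M)` is simple. -/
theorem SPE.qs_Fstar (h : SPE p H M) (hO : Opp p M = ⊥) :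
    QS (Fstar M) ∧ Fit M = ⊥ ∧ CompIn (Fstar M) M := by
  have hF : Fit M = ⊥ := by rw [Fit_eq_Op hO, h.Op_eq_bot]
  have hE : Fstar M = Lay M := by rw [Fstar, hF, sup_bot_eq]
  have h1 : Lay M ≠ ⊥ := fun e => h.ne (by
    have := eq_bot_of_Fstar_eq_bot (hE.trans e)
    exact le_antisymm h.le (this ▸ bot_le))
  obtain ⟨P, a, b, -⟩ := h.exists_sylIn
  have key : ∀ K L, CompIn K M → CompIn L M → K ≠ L → K ≤ H := fun K L hK hL hne => by
    have hP := a.inf_subnIn hL.subn
    obtain ⟨x, hx, ho⟩ := exists_mem_orderOf_eq_of_isPGroup hP.isP fun e =>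
      hP.eq_bot_iff.1 e (hL.pCompIn_of_Opp_eq_bot hO).pqs.dvd_card
    exact (le_inf hK.le ((hK.le_centralizer_of_ne hL hne).trans
      (centralizer_le_centralizer_singleton hx.2))).trans (h.centralizer_le (b hx.1) ho)
  obtain ⟨K, hK⟩ : ∃ K, CompIn K M := by
    by_contra hn
    exact h1 (Lay_eq_bot_iff.2 fun K hK => hn ⟨K, hK⟩)
  have : Lay M = K := by
    refine le_antisymm (Lay_le_iff.2 fun L hL => ?_) hK.le_Lay
    by_contra hn
    have hne : L ≠ K := fun e => hn e.le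
    refine h.not_dvd_of_normal (Lay_le_iff.2 fun J hJ => ?_) (le_normalizer_Lay_self M)
      ((hK.pCompIn_of_Opp_eq_bot hO).pqs.dvd_card.trans (card_dvd_of_le hK.le_Lay))
    by_cases e : J = K
    · exact key J L hJ hL (e ▸ hne.symm)
    · exact key J K hJ hK e
  rw [hE, this]
  exact ⟨hK.qs, hF, hK⟩

/-- `p`-solvability of a subgroup. -/
def PSol (p : ℕ) (M : Subgroup G) : Prop := ∀ K, K ≤ M → Res p K = K → Resp p K = K → K = ⊥

theorem PSol.of_le {M N : Subgroup G} (h : PSol p M) (hN : N ≤ M) : PSol p N :=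
  fun K a => h K (a.trans hN)

theorem PSol.PLay_eq_bot {M N : Subgroup G} (h : PSol p M) (hN : N ≤ M) : PLay p N = ⊥ :=
  h _ ((PLay_le _ _).trans hN) (Res_eq_self_of_perfect (PLay_perfect N)) (Resp_PLay N)

theorem PSol.map {G' : Type u} [Group G'] [Finite G'] (h : PSol p M) (f : G →* G') :
    PSol p (M.map f) := by
  intro K a b c
  obtain ⟨L, h1, h2, h3⟩ := exists_minimal_subgroup (P := fun L => L.map f = K)
    (map_comap_inf f a)
  have e1 := h3 (Res p L) (by rw [map_Res, h2, b]) (ResPi_le _ _)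
  have e2 := h3 (Resp p L) (by rw [map_Resp, h2, c]) (ResPi_le _ _)
  rw [← h2, h L (h1.trans inf_le_right) e1 e2, Subgroup.map_bot]

theorem pSol_of_isSolvable (h : Group.IsSolvable M) : PSol p M := by
  intro K a b c
  by_contra hn
  have hlt := commutator_lt_of_isSolvable (isSolvable_of_le a h) hn
  obtain ⟨N, h1, h2, h3⟩ := exists_maximal_subgroup (P := fun N => N < K) hlt
  have hN : K ≤ normalizer (N : Set G) := le_normalizer_iff_commutator_le_left.2
    ((commutator_mono h2.le le_rfl).trans h1)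
  obtain ⟨P, hP⟩ := exists_sylIn p K
  by_cases e : P ≤ N
  · exact h2.not_ge (c ▸ hP.Resp_le e hN)
  · have e2 : N ⊔ P = K := by
      by_contra hne
      exact e (le_sup_right.trans (h3 _ (lt_of_le_of_ne (sup_le h2.le hP.le) hne) le_sup_left).le)
    exact h2.not_ge (by
      have := Res_sup_le' (p := p) (hP.le.trans hN) hP.isP
      rwa [e2, b] at this)

theorem pSol_top_of_isPSolvable (h : IsPSolvable p G) : PSol p (⊤ : Subgroup G) := by
  obtain ⟨n, H, h0, hl, hm, hn, hi⟩ := h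
  intro K _ b c
  have : ∀ i, K ≤ H i := by
    intro i
    induction i using Fin.reverseInduction with
    | last => exact hl ▸ le_top
    | cast i ih =>
      have hs : SubnIn (H i.castSucc) (H i.succ) :=
        .of_normalizer (hm (Fin.castSucc_le_succ i)) (le_normalizer_normal _ _)
      rcases hi i with ⟨m, e⟩ | e
      · exact b ▸ (ResPi_mono ih).trans (hs.Res_le (k := m) (e ▸ dvd_rfl))
      · exact c ▸ (ResPi_mono ih).trans (hs.Resp_le e)
  exact le_bot_iff.1 (h0 ▸ this 0)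

theorem PSol.charP (h : PSol p M) (hO : Opp p M = ⊥) : CharP p M :=
  charP_iff_PLay_Opp.2 ⟨h.PLay_eq_bot le_rfl, hO⟩

end

end Cfsg.Agent.Comp
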