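/-
Trace arguments, `O_p` modulo a normal subgroup, `p`-reduced normal subgroups, Kieler lemma.
-/
import Cfsg.Agent.Lib.Comp.SPE

set_option autoImplicit false
set_option linter.unusedSectionVars false

namespace Cfsg.Agent.Comp

open Subgroup
open scoped commutatorElement

universe u

theorem exists_otr {Γ A : Type*} [Group Γ] [CommGroup A] [Finite A] [MulDistribMulAction Γ A]
    (X : Subgroup Γ) : ∃ (t : A → A) (k : A → ℕ),
    (∀ v, ∀ S ≤ X, (∀ s ∈ S, s • v = v) → k v ∣ S.relIndex X) ∧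
    (∀ g ∈ normalizer (X : Set Γ), ∀ v, t (g • v) = g • t v) ∧
    (∀ x ∈ X, ∀ v, x • t v = t v) ∧
    (∀ v c, (∀ x ∈ X, x • c = c) → t (v * c) = t v * c ^ k v) ∧
    (∀ v (W : Subgroup A), (∀ x ∈ X, x • v * v⁻¹ ∈ W) → t v * (v ^ k v)⁻¹ ∈ W) := by
  classical
  have := Fintype.ofFinite A
  let O : A → Finset A := fun v => Finset.univ.filter fun w => ∃ x ∈ X, x • v = w
  have hO : ∀ v w, w ∈ O v ↔ ∃ x ∈ X, x • v = w := fun v w => by simp [O]
  have h2 : ∀ g ∈ normalizer (X : Set Γ), ∀ v, ∏ w ∈ O (g • v), w = g • ∏ w ∈ O v, w := by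
    intro g hg v
    rw [Finset.smul_prod']
    refine (Finset.prod_bij (fun w _ => g • w) (fun w hw => ?_) (fun a _ b _ e => ?_)
      (fun w hw => ?_) fun _ _ => rfl).symm
    · obtain ⟨x, hx, rfl⟩ := (hO _ _).1 hw
      exact (hO _ _).2 ⟨g * x * g⁻¹, conj_mem_of_mem_normalizer hg hx, by simp [mul_smul]⟩
    · exact MulAction.injective g e
    · obtain ⟨x, hx, rfl⟩ := (hO _ _).1 hw
      exact ⟨(g⁻¹ * x * g) • v, (hO _ _).2 ⟨_, conj_mem_of_mem_normalizer' hg hx, rfl⟩,
        by simp [mul_smul]⟩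
  refine ⟨fun v => ∏ w ∈ O v, w, fun v => (O v).card, fun v S hS h => ?_, h2,
    fun x hx v => ?_, fun v c hc => ?_, fun v W h => ?_⟩
  · have e : (O v).card = (MulAction.stabilizer X v).index := by
      rw [MulAction.index_stabilizer, ← Set.ncard_coe_finset]
      congr 1
      ext w
      rw [Finset.mem_coe, hO]
      exact ⟨fun ⟨x, hx, e⟩ => ⟨⟨x, hx⟩, e⟩, fun ⟨x, e⟩ => ⟨x, x.2, e⟩⟩
    exact e.dvd.trans (index_dvd_of_le fun s hs => h s hs)
  · rw [← h2 x (le_normalizer hx)]
    congr 1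
    ext w
    rw [hO, hO]
    exact ⟨fun ⟨y, hy, e⟩ => ⟨y * x, mul_mem hy hx, by rwa [mul_smul]⟩, fun ⟨y, hy, e⟩ =>
      ⟨y * x⁻¹, mul_mem hy (inv_mem hx), by rwa [mul_smul, inv_smul_smul]⟩⟩
  · rw [← Finset.prod_const, ← Finset.prod_mul_distrib]
    refine (Finset.prod_bij (fun w _ => w * c) (fun w hw => ?_) (fun a _ b _ e => ?_)
      (fun w hw => ?_) fun _ _ => rfl).symm
    · obtain ⟨x, hx, rfl⟩ := (hO _ _).1 hw
      exact (hO _ _).2 ⟨x, hx, by rw [smul_mul', hc x hx]⟩
    · exact mul_right_cancel e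
    · obtain ⟨x, hx, rfl⟩ := (hO _ _).1 hw
      exact ⟨x • v, (hO _ _).2 ⟨x, hx, rfl⟩, by rw [smul_mul', hc x hx]⟩
  · rw [← inv_pow, ← Finset.prod_const, ← Finset.prod_mul_distrib]
    refine W.prod_mem fun w hw => ?_
    obtain ⟨x, hx, rfl⟩ := (hO _ _).1 hw
    exact h x hx

section
variable {G : Type*} [Group G]

theorem exists_trace [Finite G] {V X : Subgroup G} (hV : V ≤ centralizer (V : Set G))
    (hX : X ≤ normalizer (V : Set G)) : ∃ (t : G → G) (k : G → ℕ),
    (∀ v ∈ V, ∀ S ≤ X, v ∈ centralizer (S : Set G) → k v ∣ S.relIndex X) ∧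
    (∀ g ∈ normalizer (V : Set G), g ∈ normalizer (X : Set G) → ∀ v ∈ V,
      t (g * v * g⁻¹) = g * t v * g⁻¹) ∧
    (∀ v ∈ V, t v ∈ V ⊓ centralizer (X : Set G)) ∧
    (∀ v ∈ V, ∀ c ∈ V ⊓ centralizer (X : Set G), t (v * c) = t v * c ^ k v) ∧
    (∀ v ∈ V, ∀ W : Subgroup G, (∀ x ∈ X, ⁅x, v⁆ ∈ W) → t v * (v ^ k v)⁻¹ ∈ W) := by
  classical
  have := isMulCommutative_iff_le.2 hV
  open scoped IsMulCommutative in
  obtain ⟨t, k, h1, h2, h3, h4, h5⟩ := exists_otr (A := V) (X.subgroupOf (normalizer (V : Set G)))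
  refine ⟨fun v => if h : v ∈ V then t ⟨v, h⟩ else 1, fun v => if h : v ∈ V then k ⟨v, h⟩ else 1,
    fun v hv S hS h => ?_, fun g hg hg' v hv => ?_, fun v hv => ?_, fun v hv c hc => ?_,
    fun v hv W h => ?_⟩
  · simp only [hv, dif_pos]
    rw [← relIndex_subgroupOf hX]
    refine h1 _ _ (comap_mono hS) fun s hs => Subtype.ext ?_
    change (s : G) * v * (s : G)⁻¹ = v
    rw [mem_centralizer_iff.1 h s hs, mul_inv_cancel_right]
  · simp only [hv, conj_mem_of_mem_normalizer hg hv, dif_pos]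
    exact congrArg Subtype.val (h2 ⟨g, hg⟩ (mem_normalizer_of_conj_mem fun x hx =>
      mem_subgroupOf.2 (conj_mem_of_mem_normalizer hg' (mem_subgroupOf.1 hx))) ⟨v, hv⟩)
  · simp only [hv, dif_pos]
    refine ⟨(t _).2, mem_centralizer_iff.2 fun x hx => ?_⟩
    have : x * (t ⟨v, hv⟩ : G) * x⁻¹ = t ⟨v, hv⟩ :=
      congrArg Subtype.val (h3 ⟨x, hX hx⟩ hx ⟨v, hv⟩)
    exact mul_inv_eq_iff_eq_mul.1 this
  · simp only [hv, mul_mem hv hc.1, dif_pos]
    refine congrArg Subtype.val (h4 ⟨v, hv⟩ ⟨c, hc.1⟩ fun x hx => Subtype.ext ?_)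
    change (x : G) * c * (x : G)⁻¹ = c
    rw [mem_centralizer_iff.1 hc.2 x hx, mul_inv_cancel_right]
  · simp only [hv, dif_pos]
    exact h5 ⟨v, hv⟩ (W.subgroupOf V) fun x hx => h x hx

theorem map_le_centralizer_map_iff {G' : Type*} [Group G'] {f : G →* G'}
    (hf : Function.Injective f) {A B : Subgroup G} :
    A.map f ≤ centralizer (B.map f : Set G') ↔ A ≤ centralizer (B : Set G) := by
  rw [← commutator_eq_bot_iff', ← commutator_eq_bot_iff', map_eq_bot_iff_le_ker',
    f.ker_eq_bot_iff.2 hf, le_bot_iff]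

theorem map_le_normalizer_map_iff {G' : Type*} [Group G'] {f : G →* G'}
    (hf : Function.Injective f) {A B : Subgroup G} :
    A.map f ≤ normalizer (B.map f : Set G') ↔ A ≤ normalizer (B : Set G) := by
  rw [le_normalizer_iff_commutator_le_left, le_normalizer_iff_commutator_le_left,
    ← map_commutator, map_le_map_iff_of_injective hf]

theorem isElementaryAbelian_map_iff {G' : Type*} [Group G'] {f : G →* G'}
    (hf : Function.Injective f) {p : ℕ} {A : Subgroup G} :
    IsElementaryAbelian p (A.map f) ↔ IsElementaryAbelian p A :=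
  ⟨fun h => ⟨isMulCommutative_iff_le.2 ((map_le_centralizer_map_iff hf).1
    (IsElementaryAbelian.le_centralizer h)), fun x hx => hf (by
      rw [map_pow, map_one]; exact h.2 _ (mem_map_of_mem f hx))⟩, fun h => IsElementaryAbelian.map h f⟩

theorem normalClosure_eq_sup (A : Subgroup G) : normalClosure (A : Set G) = A ⊔ ⁅A, ⊤⁆ := by
  have : (A ⊔ ⁅A, ⊤⁆).Normal := normal_iff_top_le_normalizer.2 (le_normalizer_sup_commutator A ⊤)
  exact le_antisymm (normalClosure_le_normal (le_sup_left : A ≤ _))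
    (sup_commutator_le le_normalClosure (le_normalizer_normal _ _))

theorem map_normalClosure_subgroupOf {A L : Subgroup G} (h : A ≤ L) :
    (normalClosure (A.subgroupOf L : Set L)).map L.subtype = A ⊔ ⁅A, L⁆ := by
  rw [normalClosure_eq_sup, Subgroup.map_sup, map_commutator, map_subtype_top,
    subgroupOf_map_subtype, inf_eq_left.2 h]

theorem sup_commutator_le_centralizer {A L D : Subgroup G} (h : A ≤ centralizer (D : Set G))
    (hD : L ≤ normalizer (D : Set G)) : A ⊔ ⁅A, L⁆ ≤ centralizer (D : Set G) :=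
  sup_commutator_le h (le_normalizer_centralizer hD)

theorem sup_commutator_le' {A L : Subgroup G} (h : A ≤ L) : A ⊔ ⁅A, L⁆ ≤ L :=
  sup_commutator_le h le_normalizer

variable [Finite G] {p : ℕ} [hp : Fact p.Prime]

theorem mem_of_pow_mem_of_isPGroup {V H : Subgroup G} (hV : IsPGroup p V) {v : G} (hv : v ∈ V)
    {k : ℕ} (hk : ¬ p ∣ k) (h : v ^ k ∈ H) : v ∈ H := by
  obtain ⟨n, hn⟩ := Solv.exists_orderOf_eq_pow hV hv
  exact mem_of_pow_mem_of_coprime (hn ▸ (coprime_iff_not_dvd.2 hk).symm.pow_left n) h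

/-- The trace argument: fixed points of a subgroup of index prime to `p`. -/
theorem inf_centralizer_le_sup_commutator {V X S E : Subgroup G} (hV : V ≤ centralizer (V : Set G))
    (hVp : IsPGroup p V) (hX : X ≤ normalizer (V : Set G)) (hi : ¬ p ∣ S.relIndex X)
    (hE : E ⊔ S = X) (hn : S ≤ normalizer (E : Set G)) : V ⊓ centralizer (S : Set G) ≤
      (V ⊓ centralizer (X : Set G)) ⊔ (⁅V, E⁆ ⊓ centralizer (S : Set G)) := by
  obtain ⟨t, k, h1, -, h3, -, h5⟩ := exists_trace hV hX
  have hS : S ≤ X := hE ▸ le_sup_right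
  intro v hv
  refine mem_of_pow_mem_of_isPGroup hVp hv.1 (fun e => hi (e.trans (h1 v hv.1 S hS hv.2))) ?_
  have a := h5 v hv.1 ⁅V, E⁆ fun x hx => by
    obtain ⟨e, he, s, hs, rfl⟩ := (mem_sup_of_le_normalizer' hn).1 (hE.ge hx)
    have : ⁅e * s, v⁆ = ⁅e, v⁆ := by
      have := mem_centralizer_iff.1 hv.2 s hs
      calc ⁅e * s, v⁆ = e * (s * v) * s⁻¹ * e⁻¹ * v⁻¹ := by group
        _ = _ := by rw [this]; group
    rw [this, commutator_comm]
    exact commutator_mem_commutator he hv.1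
  have b := mul_mem (mem_sup_right (inv_mem (mem_inf.2 ⟨a, mul_mem (centralizer_mono hS (h3 v hv.1).2)
    (inv_mem (pow_mem hv.2 _))⟩))) (mem_sup_left (h3 v hv.1) :
      t v ∈ (V ⊓ centralizer (X : Set G)) ⊔ (⁅V, E⁆ ⊓ centralizer (S : Set G)))
  simpa using b

theorem SylIn.inf_centralizer_le_sup {V X S : Subgroup G} (hS : SylIn p S X)
    (hV : V ≤ centralizer (V : Set G)) (hVp : IsPGroup p V) (hX : X ≤ normalizer (V : Set G)) :
    V ⊓ centralizer (S : Set G) ≤
      (V ⊓ centralizer (X : Set G)) ⊔ (⁅V, Res p X⁆ ⊓ centralizer (S : Set G)) :=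
  inf_centralizer_le_sup_commutator hV hVp hX hS.not_dvd_relIndex hS.Res_sup
    (le_normalizer_ResPi (hS.le.trans le_normalizer))

theorem commutator_lt_of_isPGroup {T A : Subgroup G} (hT : IsPGroup p T) (hA : IsPGroup p A)
    (hn : T ≤ normalizer (A : Set G)) (h : A ≠ ⊥) : ⁅A, T⁆ < A :=
  Solv.commutator_lt_of_nilpotent (isPGroup_sup hn hT hA).isNilpotent le_sup_right le_sup_left hn h

theorem exists_commutator_le_of_not_le {T A B : Subgroup G} (hT : IsPGroup p T) (hA : IsPGroup p A)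
    (hn : T ≤ normalizer (A : Set G)) (h : ¬ A ≤ B) :
    ∃ A', A' ≤ A ∧ T ≤ normalizer (A' : Set G) ∧ ¬ A' ≤ B ∧ ⁅A', T⁆ ≤ B := by
  obtain ⟨A', h1, h2, h3⟩ := exists_minimal_subgroup
    (P := fun A' => T ≤ normalizer (A' : Set G) ∧ ¬ A' ≤ B) ⟨hn, h⟩
  refine ⟨A', h1, h2.1, h2.2, ?_⟩
  by_contra h4
  have hlt := commutator_lt_of_isPGroup hT (hA.to_le h1) h2.1 fun e => h2.2 (e ▸ bot_le)
  exact hlt.ne (h3 _ ⟨le_normalizer_commutator h2.1 le_normalizer, h4⟩ hlt.le)

theorem inf_centralizer_le_of_trace {V X S T : Subgroup G} (hV : V ≤ centralizer (V : Set G))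
    (hVp : IsPGroup p V) (hX : X ≤ normalizer (V : Set G)) (hS : S ≤ X) (hi : ¬ p ∣ S.relIndex X)
    (hT : IsPGroup p T) (h1 : T ≤ normalizer (V : Set G)) (h2 : T ≤ normalizer (X : Set G))
    (h3 : T ≤ normalizer (S : Set G))
    (h : V ⊓ centralizer (S : Set G) ⊓ centralizer (T : Set G) ≤ centralizer (X : Set G)) :
    V ⊓ centralizer (S : Set G) ≤ centralizer (X : Set G) := by
  obtain ⟨t, k, a1, a2, a3, a4, -⟩ := exists_trace hV hX
  by_contra hn
  obtain ⟨A, b1, b2, b3, b4⟩ := exists_commutator_le_of_not_le hT (hVp.to_le inf_le_left)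
    (le_normalizer_inf h1 (le_normalizer_centralizer h3)) hn
  refine b3 fun y hy => ?_
  have hy' := b1 hy
  refine mem_of_pow_mem_of_isPGroup hVp hy'.1 (fun e => hi (e.trans (a1 y hy'.1 S hS hy'.2))) ?_
  have : t y * (y ^ k y)⁻¹ ∈ centralizer (X : Set G) := by
    refine h (mem_inf.2 ⟨mul_mem (mem_inf.2 ⟨(a3 y hy'.1).1, centralizer_mono hS
      (a3 y hy'.1).2⟩) (inv_mem (pow_mem hy' _)), mem_centralizer_iff.2 fun s hs => ?_⟩)
    have c1 : ⁅y⁻¹, s⁆ ∈ V ⊓ centralizer (X : Set G) := ⟨(b1 (commutator_le_left_of_le_normalizer b2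
      (commutator_mem_commutator (inv_mem hy) hs))).1, b4 (commutator_mem_commutator (inv_mem hy) hs)⟩
    have c2 : s * y * s⁻¹ = y * ⁅y⁻¹, s⁆ := by group
    have c3 := a2 s (h1 hs) (h2 hs) y hy'.1
    rw [c2, a4 y hy'.1 _ c1] at c3
    have c4 : Commute y ⁅y⁻¹, s⁆ := mem_centralizer_iff.1 (hV c1.1) y hy'.1
    have c5 : s * y ^ k y * s⁻¹ = y ^ k y * ⁅y⁻¹, s⁆ ^ k y := by rw [← c4.mul_pow, ← c2, conj_pow]
    rw [← mul_inv_eq_iff_eq_mul]
    calc s * (t y * (y ^ k y)⁻¹) * s⁻¹ = (s * t y * s⁻¹) * (s * y ^ k y * s⁻¹)⁻¹ := by group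
      _ = _ := by rw [← c3, c5]; group
  simpa using mul_mem (inv_mem this) (a3 y hy'.1).2

theorem isPGroup_map_iff {G' : Type*} [Group G'] [Finite G'] {f : G →* G'} {D : Subgroup G} :
    IsPGroup p (D.map f) ↔ Res p D ≤ f.ker := by
  rw [← Res_eq_bot_iff, ← map_Res, Subgroup.map_eq_bot_iff]

theorem Res_subgroupOf {D L : Subgroup G} (h : D ≤ L) :
    Res p (D.subgroupOf L) = (Res p D).subgroupOf L := by
  rw [← subgroupOf_map_subtype_self (Res p (D.subgroupOf L)), map_Res, subgroupOf_map_subtype,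
    inf_eq_left.2 h]

theorem Res_sup_le_of_le {C D : Subgroup G} (h1 : D ≤ normalizer (C : Set G)) (h2 : Res p D ≤ C) :
    Res p (C ⊔ D) ≤ C := by
  obtain ⟨P, hP⟩ := exists_sylIn p D
  have : C ⊔ D = C ⊔ P := le_antisymm (sup_le le_sup_left (hP.Res_sup.ge.trans
    (sup_le_sup_right h2 _))) (sup_le_sup_left hP.le _)
  rw [this]
  exact Res_sup_le' (hP.le.trans h1) hP.isP

theorem Res_le_centralizer_of_quad {V A : Subgroup G} (hV : IsPGroup p V)
    (hA : A ≤ normalizer (V : Set G)) (hq : ⁅⁅V, A⁆, A⁆ = ⊥) : Res p A ≤ centralizer (V : Set G) :=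
  Res_le_of_forall_coprime fun Q h1 h2 => Solv.coprime_le_centralizer_of_quadratic (h1.trans hA)
    (coprime_of_isPGroup hV h2).symm (le_bot_iff.1 (hq ▸ commutator_mono (commutator_mono le_rfl h1) h1))

theorem le_of_Res_le_of_sylIn {D P X : Subgroup G} (hP : SylIn p P D) (h1 : Res p D ≤ X)
    (h2 : P ≤ X) : D ≤ X := hP.Res_sup.ge.trans (sup_le h1 h2)

theorem commutator_lt_of_Res_le {U R : Subgroup G} (hU : IsPGroup p U)
    (hn : R ≤ normalizer (U : Set G)) (hr : Res p R ≤ centralizer (U : Set G)) (h : U ≠ ⊥) :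
    ⁅U, R⁆ < U := by
  obtain ⟨P, hP⟩ := exists_sylIn p R
  refine lt_of_le_of_lt ?_ (commutator_lt_of_isPGroup hP.isP hU (hP.le.trans hn) h)
  rw [← hP.Res_sup]
  have h1 : ⁅U, P⁆ ≤ U := commutator_le_left_of_le_normalizer (hP.le.trans hn)
  exact commutator_sup_right_le (le_normalizer_of_le_centralizer (hr.trans (centralizer_mono h1)))
    (le_sup_right.trans (sup_le_normalizer_commutator U P))
    ((commutator_eq_bot_iff'.2 hr).le.trans bot_le) le_rfl

end

section
variable {G : Type u} [Group G] [Finite G] {p : ℕ} [hp : Fact p.Prime]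

theorem Res_sup_le_of_subnIn {A B L C : Subgroup G} (hA : SubnIn A L) (hB : SubnIn B L)
    (hC : L ≤ normalizer (C : Set G)) (a : Res p A ≤ C) (b : Res p B ≤ C) : Res p (A ⊔ B) ≤ C := by
  have := normal_subgroupOf_of_le_normalizer hC
  have key : ∀ D, SubnIn D L → Res p D ≤ C →
      (D.subgroupOf L).map (QuotientGroup.mk' (C.subgroupOf L)) ≤ Op p ⊤ := fun D h1 h2 => by
    have := (subnIn_top_iff.2 (subnIn_iff.1 h1).2).map (QuotientGroup.mk' (C.subgroupOf L))
    rw [map_top_mk] at this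
    refine this.le_Op (isPGroup_map_iff.2 ?_)
    rw [Res_subgroupOf h1.le, QuotientGroup.ker_mk']
    exact comap_mono h2
  have h := isPGroup_map_iff.1 ((isPGroup_Op p _).to_le ((Subgroup.map_sup _ _ _).le.trans
    (sup_le (key A hA a) (key B hB b))))
  rw [← subgroupOf_sup hA.le hB.le, Res_subgroupOf (sup_le hA.le hB.le), QuotientGroup.ker_mk'] at h
  exact fun x hx => h (show (⟨x, sup_le hA.le hB.le (ResPi_le _ _ hx)⟩ : L) ∈ _ from hx)

/-- The preimage of `O_p(L / (L ∩ C))`. -/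
def OpMod (p : ℕ) (L C : Subgroup G) : Subgroup G := sSup {D | SubnIn D L ∧ Res p D ≤ C}

theorem OpMod_le (L C : Subgroup G) : OpMod p L C ≤ L := sSup_le fun _ h => h.1.le

theorem SubnIn.le_OpMod {D L C : Subgroup G} (h : SubnIn D L) (h2 : Res p D ≤ C) :
    D ≤ OpMod p L C := le_sSup ⟨h, h2⟩

theorem le_OpMod {D L C : Subgroup G} (h : D ≤ L) (h1 : L ≤ normalizer (D : Set G))
    (h2 : Res p D ≤ C) : D ≤ OpMod p L C := (SubnIn.of_normalizer h h1).le_OpMod h2

theorem Res_OpMod_le {L C : Subgroup G} (hC : L ≤ normalizer (C : Set G)) :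
    Res p (OpMod p L C) ≤ C :=
  (sSup_induction_finite (P := fun D => SubnIn D L ∧ Res p D ≤ C)
    ⟨.bot L, (ResPi_le _ _).trans bot_le⟩ (fun _ h => h)
    fun _ _ a b => ⟨a.1.sup b.1, Res_sup_le_of_subnIn a.1 b.1 hC a.2 b.2⟩).2

theorem le_normalizer_OpMod {A L C : Subgroup G} (h1 : A ≤ normalizer (L : Set G))
    (h2 : A ≤ normalizer (C : Set G)) : A ≤ normalizer (OpMod p L C : Set G) :=
  le_normalizer_sSup fun g hg _ hK => ⟨hK.1.cj (h1 hg), cj_Res g _ ▸ cj_le_of_mem hK.2 (h2 hg)⟩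

theorem Op_le_OpMod (L C : Subgroup G) : Op p L ≤ OpMod p L C :=
  (Op_subnIn p L).le_OpMod ((Res_eq_bot_iff.2 (isPGroup_Op p L)).le.trans bot_le)

theorem inf_le_OpMod {L C : Subgroup G} (hC : L ≤ normalizer (C : Set G)) : L ⊓ C ≤ OpMod p L C :=
  le_OpMod inf_le_left (le_normalizer_inf le_normalizer hC) ((ResPi_le _ _).trans inf_le_right)

theorem map_OpMod {G' : Type u} [Group G'] [Finite G'] (f : G →* G') (L : Subgroup G) :
    (OpMod p L f.ker).map f = Op p (L.map f) := by
  refine le_antisymm (le_Op (map_mono (OpMod_le _ _)) (map_le_normalizer_map f (le_normalizer_OpMod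
    le_normalizer (le_normalizer_ker f L))) (isPGroup_map_iff.2 (Res_OpMod_le
    (le_normalizer_ker f L)))) ?_
  rw [← map_comap_inf f (Op_le p (L.map f))]
  refine map_mono (le_OpMod inf_le_right (le_normalizer_inf (le_normalizer_comap_of_map f
    (le_normalizer_Op_of_le le_rfl)) le_normalizer) (isPGroup_map_iff.1 ?_))
  rw [map_comap_inf f (Op_le p (L.map f))]
  exact isPGroup_Op p _

theorem comap_pCore_mk (C : Subgroup G) [C.Normal] :
    (pCore p (G ⧸ C)).comap (QuotientGroup.mk' C) = OpMod p ⊤ C := by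
  have := map_OpMod (p := p) (QuotientGroup.mk' C) ⊤
  rw [map_top_mk, Op_top, QuotientGroup.ker_mk'] at this
  rw [← this, Solv.comap_map_mk, sup_eq_left]
  exact (le_inf le_top le_rfl).trans (inf_le_OpMod (le_normalizer_normal _ _))

theorem pCore_quotient_eq_bot_iff (C : Subgroup G) [C.Normal] :
    pCore p (G ⧸ C) = ⊥ ↔ OpMod p ⊤ C ≤ C := by
  rw [← comap_pCore_mk, ← Solv.map_mk_eq_bot_iff, Solv.map_comap_mk]

theorem OpMod_subgroupOf {L C : Subgroup G} :
    (OpMod p ⊤ (C.subgroupOf L)).map L.subtype = OpMod p L C := by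
  refine le_antisymm (map_le_iff_le_comap.2 (sSup_le fun D hD => map_le_iff_le_comap.1
    (SubnIn.le_OpMod (subnIn_map_subtype_iff.2 hD.1.isSubnormal) ?_))) (sSup_le fun D hD => ?_)
  · rw [← map_Res]; exact map_le_iff_le_comap.2 hD.2
  · refine le_map_subtype_iff.2 ⟨hD.1.le, SubnIn.le_OpMod (subnIn_top_iff.2 (subnIn_iff.1 hD.1).2) ?_⟩
    rw [Res_subgroupOf hD.1.le]; exact comap_mono hD.2

theorem pCore_quotient_subgroupOf_eq_bot_iff {L C : Subgroup G} [(C.subgroupOf L).Normal] :
    pCore p (L ⧸ C.subgroupOf L) = ⊥ ↔ OpMod p L C ≤ C := by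
  rw [pCore_quotient_eq_bot_iff, ← OpMod_subgroupOf (L := L), map_subtype_le_iff]

/-- A subnormal `p`-subgroup normalizes a subnormal `p`-perfect subgroup. -/
theorem Op_le_normalizer_of_subnIn {B M : Subgroup G} (hB : SubnIn B M) (h : Res p B = B) :
    Op p M ≤ normalizer (B : Set G) := by
  have h1 : Res p (B ⊔ Op p M) = B := le_antisymm (Res_sup_le (hB.of_le le_sup_left
    (sup_le hB.le (Op_le p M))) (le_normalizer_Op_of_le hB.le) (isPGroup_Op p M))
    (h.ge.trans (ResPi_mono le_sup_left))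
  rw [← h1]
  exact le_normalizer_ResPi (le_sup_right.trans le_normalizer)

theorem Op_le_normalizer_Res {B M : Subgroup G} (hB : SubnIn B M) :
    Op p M ≤ normalizer (Res p B : Set G) :=
  Op_le_normalizer_of_subnIn ((ResPi_subnIn _ B).trans hB) (Res_Res B)

/-- `O_p(L / C_L(V)) = 1`. -/
def Red (p : ℕ) (V L : Subgroup G) : Prop :=
  ∀ D, SubnIn D L → Res p D ≤ centralizer (V : Set G) → D ≤ centralizer (V : Set G)

variable {V L M T : Subgroup G}

theorem red_iff (h : L ≤ normalizer (V : Set G)) :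
    Red p V L ↔ OpMod p L (centralizer (V : Set G)) ≤ centralizer (V : Set G) :=
  ⟨fun h' => sSup_le fun D hD => h' D hD.1 hD.2, fun h' _ a b => (a.le_OpMod b).trans h'⟩

theorem red_of_normal (h : L ≤ normalizer (V : Set G)) (h' : ∀ D, D ≤ L →
    L ≤ normalizer (D : Set G) → Res p D ≤ centralizer (V : Set G) → D ≤ centralizer (V : Set G)) :
    Red p V L := (red_iff h).2 (h' _ (OpMod_le _ _) (le_normalizer_OpMod le_normalizer
      (le_normalizer_centralizer h)) (Res_OpMod_le (le_normalizer_centralizer h)))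

theorem Red.normal (h : Red p V L) {D : Subgroup G} (h1 : D ≤ L) (h2 : L ≤ normalizer (D : Set G))
    (h3 : Res p D ≤ centralizer (V : Set G)) : D ≤ centralizer (V : Set G) :=
  h D (.of_normalizer h1 h2) h3

theorem Red.Op_le (h : Red p V L) : Op p L ≤ centralizer (V : Set G) :=
  h _ (Op_subnIn p L) ((Res_eq_bot_iff.2 (isPGroup_Op p L)).le.trans bot_le)

theorem Red.subnIn (h : Red p V L) {K : Subgroup G} (hK : SubnIn K L) : Red p V K :=
  fun D a b => h D (a.trans hK) b

theorem red_of_le_centralizer (h : L ≤ centralizer (V : Set G)) : Red p V L :=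
  fun _ a _ => a.le.trans h

theorem red_sup_centralizer_iff (h : L ≤ normalizer (V : Set G)) :
    Red p V (L ⊔ centralizer (V : Set G)) ↔ Red p V L := by
  have h0 : L ⊔ centralizer (V : Set G) ≤ normalizer (V : Set G) :=
    sup_le h (centralizer_le_normalizer _)
  have hC := le_normalizer_centralizer h0
  constructor
  · intro h'
    refine red_of_normal h fun D a b c => le_sup_right.trans (h'.normal
      (D := centralizer (V : Set G) ⊔ D) (sup_le le_sup_right (a.trans le_sup_left))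
      (sup_le (le_normalizer_sup (le_sup_left.trans hC) b) (le_sup_left.trans le_normalizer))
      (Res_sup_le_of_le ((a.trans le_sup_left).trans hC) c))
  · intro h'
    refine red_of_normal h0 fun D a b c => ?_
    have := h'.normal (D := L ⊓ (centralizer (V : Set G) ⊔ D)) inf_le_left
      (le_normalizer_inf le_normalizer (le_normalizer_sup (le_sup_left.trans hC)
        (le_sup_left.trans b))) ((ResPi_mono inf_le_right).trans (Res_sup_le_of_le (a.trans hC) c))
    have e := sup_inf_of_le_normalizer' (A := centralizer (V : Set G)) (B := L)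
      (C := centralizer (V : Set G) ⊔ D) (le_sup_left.trans hC) le_sup_left
    exact (le_inf (a.trans (sup_comm _ _).le) le_sup_right).trans (e.le.trans (sup_le le_rfl this))

theorem Red.of_sup_eq (h : Red p V M) (h1 : M ≤ normalizer (V : Set G))
    (e : L ⊔ centralizer (V : Set G) = M ⊔ centralizer (V : Set G)) : Red p V L :=
  (red_sup_centralizer_iff ((le_sup_left.trans e.le).trans
    (sup_le h1 (centralizer_le_normalizer _)))).1 (e ▸ (red_sup_centralizer_iff h1).2 h)

theorem red_map_iff {G' : Type u} [Group G'] [Finite G'] {f : G →* G'}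
    (hf : Function.Injective f) : Red p (V.map f) (L.map f) ↔ Red p V L := by
  constructor
  · intro h D a b
    exact (map_le_centralizer_map_iff hf).1 (h _ (a.map f) (map_Res f D ▸
      map_le_centralizer_map f b))
  · intro h D a b
    obtain ⟨E, rfl⟩ : ∃ E : Subgroup G, E.map f = D := ⟨_, map_comap_inf f a.le⟩
    rw [← map_Res] at b
    exact map_le_centralizer_map f (h _ ((subnIn_map_iff_of_injective hf).1 a)
      ((map_le_centralizer_map_iff hf).1 b))

/-- `V` is a `p`-reduced normal subgroup of `L`. -/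
structure PRed (p : ℕ) (V L : Subgroup G) : Prop where
  le : V ≤ L
  norm : L ≤ normalizer (V : Set G)
  elem : IsElementaryAbelian p V
  red : Red p V L

theorem pRed_map_iff {G' : Type u} [Group G'] [Finite G'] {f : G →* G'}
    (hf : Function.Injective f) : PRed p (V.map f) (L.map f) ↔ PRed p V L :=
  ⟨fun h => ⟨(map_le_map_iff_of_injective hf).1 h.le, (map_le_normalizer_map_iff hf).1 h.norm,
    (isElementaryAbelian_map_iff hf).1 h.elem, (red_map_iff hf).1 h.red⟩,
  fun h => ⟨map_mono h.le, map_le_normalizer_map f h.norm, IsElementaryAbelian.map h.elem f,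
    (red_map_iff hf).2 h.red⟩⟩

theorem pRed_top_iff : PRed p V ⊤ ↔ IsPReducedNormal p V := by
  constructor
  · intro h
    have := normal_iff_top_le_normalizer.2 h.norm
    exact ⟨this, h.elem, inferInstance, (pCore_quotient_eq_bot_iff _).2 ((red_iff h.norm).1 h.red)⟩
  · rintro ⟨h1, h2, _, h3⟩
    exact ⟨le_top, le_normalizer_normal _ _, h2, (red_iff (le_normalizer_normal _ _)).2
      ((pCore_quotient_eq_bot_iff _).1 h3)⟩

theorem pRed_map_subtype_iff {X : Subgroup L} :
    PRed p (X.map L.subtype) L ↔ IsPReducedNormal p X := by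
  rw [← pRed_top_iff, ← pRed_map_iff L.subtype_injective, map_subtype_top]

theorem PRed.subgroupOf (h : PRed p V L) : IsPReducedNormal p (V.subgroupOf L) := by
  rwa [← pRed_map_subtype_iff, subgroupOf_map_subtype, inf_eq_left.2 h.le]

theorem PRed.cj (h : PRed p V L) (g : G) : PRed p cj(g, V) cj(g, L) :=
  (pRed_map_iff (MulAut.conj g).injective).2 h

theorem PRed.isPGroup (h : PRed p V L) : IsPGroup p V := IsElementaryAbelian.isPGroup h.elem

theorem PRed.le_Op (h : PRed p V L) : V ≤ Op p L := Comp.le_Op h.le h.norm h.isPGroup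

theorem PRed.le_OmZ (h : PRed p V L) : V ≤ OmZ p (Op p L) :=
  Comp.le_OmZ h.elem.2 h.le_Op (le_centralizer_iff.1 h.red.Op_le)

theorem PRed.subnIn (h : PRed p V L) : SubnIn V L := .of_normalizer h.le h.norm

theorem pRed_bot (L : Subgroup G) : PRed p ⊥ L :=
  ⟨bot_le, le_normalizer_normal _ _, ⟨inferInstance, fun x hx => by rw [mem_bot.1 hx, one_pow]⟩,
    fun _ _ _ => le_centralizer_iff.1 bot_le⟩

theorem PRed.sup {W : Subgroup G} (h : PRed p V L) (h' : PRed p W L) : PRed p (V ⊔ W) L :=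
  ⟨sup_le h.le h'.le, le_normalizer_sup h.norm h'.norm,
    IsElementaryAbelian.of_le (isElementaryAbelian_OmZ p _) (sup_le h.le_OmZ h'.le_OmZ),
    fun D a b => le_centralizer_sup (h.red D a (b.trans (centralizer_mono le_sup_left)))
      (h'.red D a (b.trans (centralizer_mono le_sup_right)))⟩

/-- `Y_L`. -/
abbrev YL (p : ℕ) (L : Subgroup G) : Subgroup G := largestPReducedOf p L

theorem YL_eq (L : Subgroup G) : YL p L = sSup {V | PRed p V L} := by
  refine le_antisymm (map_le_iff_le_comap.2 (sSup_le fun X hX => map_le_iff_le_comap.1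
    (le_sSup (pRed_map_subtype_iff.2 hX)))) (sSup_le fun V hV => ?_)
  exact le_map_subtype_iff.2 ⟨hV.le, le_sSup hV.subgroupOf⟩

theorem YL_top : YL p (⊤ : Subgroup G) = largestPReduced p G := by
  rw [YL_eq]; simp only [pRed_top_iff]; rfl

theorem PRed.le_YL (h : PRed p V L) : V ≤ YL p L := YL_eq (p := p) L ▸ le_sSup h

theorem pRed_YL (p : ℕ) [Fact p.Prime] (L : Subgroup G) : PRed p (YL p L) L := by
  rw [YL_eq]
  exact sSup_induction_finite (P := fun V => PRed p V L) (pRed_bot L) (fun _ h => h)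
    fun _ _ => PRed.sup

theorem YL_le (L : Subgroup G) : YL p L ≤ L := map_subtype_le _

theorem YL_le_Op (L : Subgroup G) : YL p L ≤ Op p L := (pRed_YL p L).le_Op

theorem isPGroup_YL (L : Subgroup G) : IsPGroup p (YL p L) := (pRed_YL p L).isPGroup

theorem YL_le_centralizer (L : Subgroup G) : YL p L ≤ centralizer (YL p L : Set G) :=
  IsElementaryAbelian.le_centralizer (pRed_YL p L).elem

theorem Op_le_centralizer_YL (L : Subgroup G) : Op p L ≤ centralizer (YL p L : Set G) :=
  (pRed_YL p L).red.Op_le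

theorem map_YL {G' : Type u} [Group G'] [Finite G'] {f : G →* G'}
    (hf : Function.Injective f) (L : Subgroup G) : (YL p L).map f = YL p (L.map f) := by
  refine le_antisymm ((pRed_map_iff hf).2 (pRed_YL p L)).le_YL ?_
  obtain ⟨E, e⟩ : ∃ E : Subgroup G, E.map f = YL p (L.map f) := ⟨_, map_comap_inf f (YL_le _)⟩
  rw [← e]
  exact map_mono ((pRed_map_iff hf).1 (e ▸ pRed_YL p _)).le_YL

theorem cj_YL (g : G) (L : Subgroup G) : cj(g, YL p L) = YL p cj(g, L) :=
  map_YL (MulAut.conj g).injective L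

theorem le_normalizer_YL {A : Subgroup G} (h : A ≤ normalizer (L : Set G)) :
    A ≤ normalizer (YL p L : Set G) := fun g hg =>
  cj_eq_self_iff.1 (by rw [cj_YL, cj_eq_self_iff.2 (h hg)])

theorem pRed_of_le_centralizer (h1 : V ≤ L) (h2 : L ≤ centralizer (V : Set G))
    (h3 : IsElementaryAbelian p V) : PRed p V L :=
  ⟨h1, le_normalizer_of_le_centralizer h2, h3, red_of_le_centralizer h2⟩

theorem pRed_OmZ (T : Subgroup G) : PRed p (OmZ p T) T :=
  pRed_of_le_centralizer (OmZ_le p T) (le_centralizer_OmZ p T) (isElementaryAbelian_OmZ p T)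

theorem PRed.closure {X R : Subgroup G} (h : PRed p X R) (hL : CharP p L) (hT : SylIn p T L)
    (h1 : T ≤ R) (h2 : R ≤ L) : PRed p (X ⊔ ⁅X, L⁆) L := by
  have a : X ≤ centralizer (Op p L : Set G) :=
    le_centralizer_iff.1 ((Op_le_Op h2 (hT.Op_le.trans h1)).trans h.red.Op_le)
  have b : X ≤ OmZ p (Op p L) := Comp.le_OmZ h.elem.2 (hL.le_Op (h.le.trans h2) a) a
  refine ⟨sup_commutator_le' (h.le.trans h2), le_normalizer_sup_commutator X L,
    IsElementaryAbelian.of_le (isElementaryAbelian_OmZ p _) (sup_commutator_le b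
      (le_normalizer_OmZ (le_normalizer_Op_of_le le_rfl))),
    red_of_normal (le_normalizer_sup_commutator X L) fun D c d e => ?_⟩
  have e' := e.trans (centralizer_mono le_sup_left)
  refine le_centralizer_iff.1 (sup_commutator_le_centralizer (le_centralizer_iff.1 ?_) d)
  refine le_of_Res_le_of_sylIn (hT.inf_normal c (hT.le.trans d)) e' ((inf_le_inf_right _ h1).trans ?_)
  exact h.red.normal inf_le_left (le_normalizer_inf le_normalizer (h2.trans d))
    ((ResPi_mono inf_le_right).trans e')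

theorem PRed.le_YL_of_sylIn {X R : Subgroup G} (h : PRed p X R) (hL : CharP p L) (hT : SylIn p T L)
    (h1 : T ≤ R) (h2 : R ≤ L) : X ≤ YL p L := le_sup_left.trans (h.closure hL hT h1 h2).le_YL

theorem YL_le_YL {R : Subgroup G} (hL : CharP p L) (hT : SylIn p T L)
    (h1 : T ≤ R) (h2 : R ≤ L) : YL p R ≤ YL p L := (pRed_YL p R).le_YL_of_sylIn hL hT h1 h2

theorem OmZ_le_YL (hL : CharP p L) (hT : SylIn p T L) : OmZ p T ≤ YL p L :=
  (pRed_OmZ T).le_YL_of_sylIn hL hT le_rfl hT.le

theorem SylIn.inf_centralizer (hT : SylIn p T L) (h : L ≤ normalizer (V : Set G)) :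
    SylIn p (T ⊓ centralizer (V : Set G)) (L ⊓ centralizer (V : Set G)) := by
  have := hT.inf_normal (inf_le_left : L ⊓ centralizer (V : Set G) ≤ L)
    (hT.le.trans (le_normalizer_inf le_normalizer (le_normalizer_centralizer h)))
  rwa [← inf_assoc, inf_eq_left.2 hT.le] at this

theorem SylIn.frattini_centralizer (hT : SylIn p T L) (h : L ≤ normalizer (V : Set G)) :
    (L ⊓ centralizer (V : Set G)) ⊔
      (L ⊓ normalizer ((T ⊓ centralizer (V : Set G) : Subgroup G) : Set G)) = L :=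
  (hT.inf_centralizer h).frattini inf_le_left
    (le_normalizer_inf le_normalizer (le_normalizer_centralizer h))

theorem SylIn.normalizer_sup_centralizer (hT : SylIn p T L) (h : L ≤ normalizer (V : Set G)) :
    (L ⊓ normalizer ((T ⊓ centralizer (V : Set G) : Subgroup G) : Set G)) ⊔
      centralizer (V : Set G) = L ⊔ centralizer (V : Set G) :=
  le_antisymm (sup_le_sup_right inf_le_left _) (sup_le ((hT.frattini_centralizer h).ge.trans
    (sup_le (inf_le_right.trans le_sup_right) le_sup_left)) le_sup_right)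

theorem Red.Op_normalizer (hV : Red p V L) (hT : SylIn p T L) (h : L ≤ normalizer (V : Set G)) :
    Op p (L ⊓ normalizer ((T ⊓ centralizer (V : Set G) : Subgroup G) : Set G)) =
      T ⊓ centralizer (V : Set G) := by
  have h1 := (hV.of_sup_eq h (hT.normalizer_sup_centralizer h)).Op_le
  refine le_antisymm ((hT.inf_centralizer h).le_of_normalizer (isPGroup_Op p _)
    (le_inf ((Comp.Op_le p _).trans inf_le_left) h1) ((Comp.Op_le p _).trans inf_le_right))
    (le_Op (le_inf (inf_le_left.trans hT.le) le_normalizer) inf_le_right (hT.isP.to_le inf_le_left))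

theorem YL_eq_OmZ (hL : CharP p L) (hT : SylIn p T L) :
    YL p L = OmZ p (T ⊓ centralizer (YL p L : Set G)) := by
  have hY := pRed_YL p L
  have h0 : YL p L ≤ OmZ p (T ⊓ centralizer (YL p L : Set G)) := le_OmZ hY.elem.2
    (le_inf (hY.le_Op.trans hT.Op_le) (YL_le_centralizer L)) (le_centralizer_iff.1 inf_le_right)
  refine le_antisymm h0 (PRed.le_YL_of_sylIn (R := L ⊓ normalizer
    ((T ⊓ centralizer (YL p L : Set G) : Subgroup G) : Set G)) ⟨(OmZ_le p _).trans (le_inf
    (inf_le_left.trans hT.le) le_normalizer), le_normalizer_OmZ inf_le_right,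
    isElementaryAbelian_OmZ p _, red_of_normal (le_normalizer_OmZ inf_le_right) fun D a b c => ?_⟩
    hL hT (le_inf hT.le (le_normalizer_inf le_normalizer
      (le_normalizer_centralizer (hT.le.trans hY.norm)))) inf_le_left)
  have d := (hY.red.of_sup_eq hY.norm (hT.normalizer_sup_centralizer hY.norm)).normal a b
    (c.trans (centralizer_mono h0))
  obtain ⟨P, hP⟩ := exists_sylIn p D
  refine le_of_Res_le_of_sylIn hP c (le_trans ?_ (le_centralizer_OmZ p _))
  exact (hT.inf_centralizer hY.norm).le_of_normalizer hP.isP (hP.le.trans (le_inf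
    (a.trans inf_le_left) d)) (hP.le.trans (a.trans inf_le_right))

theorem PRed.commutator_Res (h : PRed p V L) {K : Subgroup G} (hK : SubnIn K L) :
    PRed p ⁅V, Res p K⁆ K := by
  have h1 : ⁅V, Res p K⁆ ≤ Res p K :=
    commutator_le_right_of_le_normalizer (h.le_Op.trans (Op_le_normalizer_Res hK))
  have h2 : ⁅V, Res p K⁆ ≤ V :=
    commutator_le_left_of_le_normalizer (((ResPi_le _ _).trans hK.le).trans h.norm)
  have h3 := le_normalizer_commutator (hK.le.trans h.norm) (le_normalizer_ResPi (π := {p})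
    (le_normalizer (H := K)))
  refine ⟨h1.trans (ResPi_le _ _), h3, IsElementaryAbelian.of_le h.elem h2, fun D a b =>
    (h.red D (a.trans hK) ?_).trans (centralizer_mono h2)⟩
  rw [← Res_Res]
  exact Res_le_centralizer_of_quad h.isPGroup ((((ResPi_le _ _).trans a.le).trans hK.le).trans h.norm)
    (commutator_eq_bot_iff'.2 (b.trans (centralizer_mono (commutator_mono le_rfl
      (ResPi_mono a.le)))))

theorem PRed.inf_centralizer_inf_le (h : PRed p V L) {K D : Subgroup G} (hK : SubnIn K L)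
    (hD : SubnIn D K) (b : Res p D ≤ centralizer ((V ⊓ K : Subgroup G) : Set G)) :
    D ≤ centralizer (V : Set G) := by
  refine h.red D (hD.trans hK) ?_
  have a := (((ResPi_le {p} _).trans hD.le).trans hK.le).trans h.norm
  rw [← Res_Res]
  exact Res_le_centralizer_of_quad h.isPGroup a (commutator_eq_bot_iff'.2 (b.trans
    (centralizer_mono (le_inf (commutator_le_left_of_le_normalizer a)
    ((commutator_le_right_of_le_normalizer (h.le_Op.trans (Op_le_normalizer_Res (hD.trans hK)))).trans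
    ((ResPi_le _ _).trans hD.le))))))

theorem PRed.inf_subnIn (h : PRed p V L) {K : Subgroup G} (hK : SubnIn K L) : PRed p (V ⊓ K) K :=
  ⟨inf_le_right, le_normalizer_inf (hK.le.trans h.norm) le_normalizer,
    IsElementaryAbelian.of_le h.elem inf_le_left, fun _ a b =>
    (h.inf_centralizer_inf_le hK a b).trans (centralizer_mono inf_le_left)⟩

theorem inf_centralizer_YL_le_of_normal {K : Subgroup G} (h1 : K ≤ L)
    (h2 : L ≤ normalizer (K : Set G)) :
    K ⊓ centralizer (YL p L : Set G) ≤ centralizer (YL p K : Set G) := by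
  by_contra hn
  have hY := pRed_YL p K
  have hLY := le_normalizer_YL (p := p) h2
  obtain ⟨N, a1, ⟨a2, a3⟩, a4⟩ := exists_minimal_subgroup (P := fun N =>
    L ≤ normalizer (N : Set G) ∧ ¬ N ≤ centralizer (YL p K : Set G))
    ⟨le_normalizer_inf h2 (le_normalizer_centralizer (pRed_YL p L).norm), hn⟩
  have hNL : N ≤ L := (a1.trans inf_le_left).trans h1
  have hN : Res p N = N := a4 _ ⟨le_normalizer_ResPi a2, fun e => a3
    (hY.red.normal (a1.trans inf_le_left) (h1.trans a2) e)⟩ (ResPi_le _ _)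
  obtain ⟨U, b1, ⟨b2, b3⟩, b4⟩ := exists_minimal_subgroup (P := fun U =>
    L ≤ normalizer (U : Set G) ∧ ¬ N ≤ centralizer (U : Set G)) (A := YL p K) ⟨hLY, a3⟩
  have hU := hY.isPGroup.to_le b1
  refine b3 ((a1.trans inf_le_right).trans (centralizer_mono (PRed.le_YL ⟨(b1.trans hY.le).trans h1,
    b2, IsElementaryAbelian.of_le hY.elem b1, red_of_normal b2 fun R c1 c2 c3 => ?_⟩)))
  have d1 : ⁅R, N⁆ ≤ centralizer (U : Set G) := by
    by_contra h
    have := a4 _ ⟨le_normalizer_commutator c2 a2, fun e => h (e.trans (centralizer_mono b1))⟩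
      (commutator_le_right_of_le_normalizer (c1.trans a2))
    exact b3 (hN.ge.trans ((ResPi_mono (this.ge.trans
      (commutator_le_left_of_le_normalizer (hNL.trans c2)))).trans c3))
  have d2 : N ≤ centralizer ((⁅U, R⁆ : Subgroup G) : Set G) := by
    by_contra h
    have hlt := commutator_lt_of_Res_le hU (c1.trans b2) c3
      fun e => b3 (e ▸ le_centralizer_iff.1 bot_le)
    exact hlt.ne (b4 _ ⟨le_normalizer_commutator b2 c2, h⟩ hlt.le)
  have d3 : ⁅U, N⁆ = U := by
    refine b4 _ ⟨le_normalizer_commutator b2 a2, fun e => b3 ?_⟩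
      (commutator_le_left_of_le_normalizer (hNL.trans b2))
    exact hN.ge.trans (Res_le_centralizer_of_quad hU (hNL.trans b2) (commutator_eq_bot_iff'.2 e))
  have := three_subgroups_le (X := ⊥) (le_normalizer_normal _ _) (le_normalizer_normal _ _)
    (le_normalizer_normal _ _) (commutator_eq_bot_iff'.2 d2).le
    (commutator_eq_bot_iff'.2 (le_centralizer_iff.1 d1)).le
  rw [commutator_comm N U, d3] at this
  exact commutator_eq_bot_iff'.1 (le_bot_iff.1 this)

theorem SubnIn.inf_centralizer_YL {K : Subgroup G} (h : SubnIn K L) :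
    K ⊓ centralizer (YL p K : Set G) = K ⊓ centralizer (YL p L : Set G) := by
  refine le_antisymm (le_inf inf_le_left ((pRed_YL p L).inf_centralizer_inf_le h
    (.of_normalizer inf_le_left (le_normalizer_inf le_normalizer (le_normalizer_centralizer
    (pRed_YL p K).norm))) (((Comp.ResPi_le _ _).trans inf_le_right).trans
    (centralizer_mono ((pRed_YL p L).inf_subnIn h).le_YL)))) (le_inf inf_le_left ?_)
  induction h with
  | refl => exact inf_le_right
  | step H K M h1 h2 _ ih =>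
    exact (le_inf inf_le_left ((inf_le_inf_right _ h1).trans ih)).trans
      (inf_centralizer_YL_le_of_normal h1 h2)

theorem CharP.OmZ_le {X : Subgroup G} (hL : CharP p L) (h1 : Op p L ≤ X) (h2 : X ≤ L) :
    OmZ p X ≤ OmZ p (Op p L) := OmZ_le_OmZ h1 (hL.le_Op ((Comp.OmZ_le p X).trans h2)
      ((OmZ_le_centralizer p X).trans (Comp.centralizer_mono h1)))

theorem kieler_normal {K : Subgroup G} (hL : CharP p L) (hT : SylIn p T L) (h1 : K ≤ L)
    (h2 : L ≤ normalizer (K : Set G)) :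
    K ⊓ centralizer (OmZ p T : Set G) = K ⊓ centralizer (OmZ p (T ⊓ K) : Set G) := by
  have hS := hT.inf_normal h1 (hT.le.trans h2)
  have hK := hL.subnIn (.of_normalizer h1 h2)
  have hel := fun X : Subgroup G => isElementaryAbelian_OmZ p X
  refine le_antisymm (le_inf inf_le_left (le_centralizer_iff.1 ?_))
    (le_inf inf_le_left (le_centralizer_iff.1 ?_))
  · have a : T ⊓ K ≤ K ⊓ centralizer (OmZ p T : Set G) :=
      le_inf inf_le_right (inf_le_left.trans (le_centralizer_OmZ p T))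
    have b : L ≤ normalizer (OmZ p (Op p K) : Set G) := le_normalizer_OmZ (le_normalizer_Op h2)
    refine (le_inf (hK.OmZ_le hS.Op_le hS.le) (OmZ_le_centralizer p _)).trans
      (inf_centralizer_le_of_trace (IsElementaryAbelian.le_centralizer (hel _)) (isPGroup_OmZ p _)
      ((inf_le_left.trans h1).trans b) a (hS.of_le a inf_le_left).not_dvd_relIndex hT.isP
      (hT.le.trans b) (le_normalizer_inf (hT.le.trans h2) (le_normalizer_centralizer
      (le_normalizer_OmZ le_normalizer))) (le_normalizer_inf le_normalizer (hT.le.trans h2)) ?_)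
    exact (le_OmZ (fun x hx => (hel _).2 x (mem_inf.1 (mem_inf.1 hx).1).1)
      (((inf_le_left.trans inf_le_left).trans
      (OmZ_le p _)).trans (hS.Op_le.trans inf_le_left)) inf_le_right).trans
      (le_centralizer_iff.1 inf_le_right)
  · have a : T ⊓ K ≤ K ⊓ centralizer (OmZ p (T ⊓ K) : Set G) :=
      le_inf inf_le_right (le_centralizer_OmZ p _)
    have b : L ≤ normalizer (OmZ p (Op p L) : Set G) :=
      le_normalizer_OmZ (le_normalizer_Op le_normalizer)
    have c := (inf_le_left.trans h1 : K ⊓ centralizer (OmZ p (T ⊓ K) : Set G) ≤ L)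
    refine (le_inf (hL.OmZ_le hT.Op_le hT.le) ((OmZ_le_centralizer p _).trans
      (centralizer_mono inf_le_left))).trans (((hS.of_le a inf_le_left).inf_centralizer_le_sup
      (IsElementaryAbelian.le_centralizer (hel _)) (isPGroup_OmZ p _) (c.trans b)).trans
      (sup_le inf_le_right (le_trans ?_ (le_centralizer_iff.1 inf_le_right))))
    have d := commutator_le_left_of_le_normalizer (((ResPi_le {p} _).trans c).trans b)
    refine le_OmZ (fun x hx => (hel _).2 x (d hx.1)) (inf_le_left.trans (le_inf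
      ((d.trans (OmZ_le p _)).trans hT.Op_le) ?_)) inf_le_right
    exact (commutator_mono le_rfl ((ResPi_le _ _).trans inf_le_left)).trans
      (commutator_le_right_of_le_normalizer (((OmZ_le p _).trans (Op_le p L)).trans h2))

/-- The Kieler lemma. -/
theorem kieler {K : Subgroup G} (hL : CharP p L) (hT : SylIn p T L) (h : SubnIn K L) :
    K ⊓ centralizer (OmZ p T : Set G) = K ⊓ centralizer (OmZ p (T ⊓ K) : Set G) := by
  induction h with
  | refl => rw [inf_eq_left.2 hT.le]
  | step H K M h1 h2 h3 ih =>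
    have := kieler_normal (hL.subnIn h3) (hT.inf_subnIn h3) h1 h2
    rw [inf_assoc, inf_eq_right.2 h1] at this
    rw [← this, ← inf_eq_left.2 h1, inf_assoc, ih hL hT, inf_assoc]

/-- `Z_L`. -/
abbrev ZL (p : ℕ) (L : Subgroup G) : Subgroup G := sylowCenterClosure p L

theorem ZL_le_iff {X : Subgroup G} : ZL p L ≤ X ↔ ∀ S, SylIn p S L → OmZ p S ≤ X :=
  ⟨fun h S hS => le_trans (by
    obtain ⟨S, rfl⟩ := hS.exists_sylow
    exact le_iSup (fun S : Sylow p L => OmZ p ((S : Subgroup L).map L.subtype)) S) h,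
  fun h => iSup_le fun S => h _ (sylIn_sylow S)⟩

theorem SylIn.OmZ_le_ZL (hT : SylIn p T L) : OmZ p T ≤ ZL p L := ZL_le_iff.1 le_rfl T hT

theorem ZL_le (L : Subgroup G) : ZL p L ≤ L := ZL_le_iff.2 fun S h => (OmZ_le p S).trans h.le

theorem le_normalizer_ZL {A : Subgroup G} (h : A ≤ normalizer (L : Set G)) :
    A ≤ normalizer (ZL p L : Set G) := le_normalizer_of_cj_le fun g hg =>
  cj_le_iff.2 (ZL_le_iff.2 fun S hS => cj_le_iff.1 (by
    rw [cj_OmZ]; exact (hS.cj_of_mem (h hg)).OmZ_le_ZL))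

theorem SylIn.ZL_eq (hT : SylIn p T L) : ZL p L = OmZ p T ⊔ ⁅OmZ p T, L⁆ := by
  refine le_antisymm (ZL_le_iff.2 fun S hS => ?_)
    (sup_commutator_le hT.OmZ_le_ZL (le_normalizer_ZL le_normalizer))
  obtain ⟨g, hg, rfl⟩ := hT.exists_cj_eq hS
  exact cj_OmZ g T ▸ cj_le_sup_commutator hg

theorem pRed_ZL (hL : CharP p L) : PRed p (ZL p L) L := by
  obtain ⟨T, hT⟩ := exists_sylIn p L
  exact hT.ZL_eq ▸ (pRed_OmZ T).closure hL hT le_rfl hT.le

theorem ZL_le_YL (hL : CharP p L) : ZL p L ≤ YL p L := (pRed_ZL hL).le_YL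

theorem cj_ZL (g : G) (L : Subgroup G) : cj(g, ZL p L) = ZL p cj(g, L) := by
  obtain ⟨T, hT⟩ := exists_sylIn p L
  rw [hT.ZL_eq, (hT.cj g).ZL_eq, cj_sup, cj_commutator, cj_OmZ]

end

end Cfsg.Agent.Comp
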