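/-
`p`-closed, `p`-irreducible and `p`-minimal groups; action of `p`-groups on `F*` when `O_p = 1`.
-/
import Cfsg.Agent.Lib.Comp.PRed

set_option autoImplicit false
set_option linter.unusedSectionVars false

namespace Cfsg.Agent.Comp

open Subgroup
open scoped commutatorElement

universe u

section general

variable {G : Type*} [Group G]

theorem SubnIn.sup_left_of_le_normalizer {A B R : Subgroup G} (h : SubnIn A B)
    (hB : B ≤ normalizer (R : Set G)) : SubnIn (R ⊔ A) (R ⊔ B) := by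
  induction h with
  | refl => exact .refl _
  | step H K M a b c ih =>
    refine .step _ (R ⊔ K) _ (sup_le_sup_left a _) (sup_le (le_sup_left.trans le_normalizer) ?_) (ih hB)
    exact le_normalizer_sup (c.le.trans hB) b

theorem SubnIn.exists_lt_le_normalizer {H M : Subgroup G} (h : SubnIn H M) (hne : H ≠ M) :
    ∃ K, H < K ∧ K ≤ normalizer (H : Set G) ∧ SubnIn K M := by
  induction h with
  | refl => exact absurd rfl hne
  | step H K M a b c ih =>
    by_cases e : H = K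
    · subst e; exact ih hne
    · exact ⟨K, lt_of_le_of_ne a e, b, c⟩

theorem SubnIn.le_of_commutator_eq {K M X Y : Subgroup G} (h : SubnIn K M) (hX : X ≤ M)
    (hY : Y ≤ K) (e : ⁅X, Y⁆ = X) : X ≤ K := by
  induction h with
  | refl => exact hX
  | step H K M a b c ih =>
    have := ih hX (hY.trans a)
    exact e.ge.trans ((commutator_mono this hY).trans (commutator_le_right_of_le_normalizer b))

theorem mul_pow_mul_inv_mem_commutator {P : Subgroup G} {a b : G} (ha : a ∈ P) (hb : b ∈ P)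
    (n : ℕ) : (a * b) ^ n * (a ^ n * b ^ n)⁻¹ ∈ ⁅P, P⁆ := by
  have h : ((⟨a, ha⟩ * ⟨b, hb⟩ : P) ^ n * ((⟨a, ha⟩ : P) ^ n * (⟨b, hb⟩ : P) ^ n)⁻¹) ∈
      commutator P := by
    rw [← Abelianization.ker_of, MonoidHom.mem_ker]
    simp only [map_mul, map_pow, map_inv, mul_pow, mul_inv_cancel]
  have := mem_map_of_mem P.subtype h
  rw [commutator_def, map_commutator, map_subtype_top] at this
  simpa using this

theorem inf_centralizer_top (Y : Subgroup G) :
    Y ⊓ centralizer ((⊤ : Subgroup G) : Set G) = Y ⊓ center G := by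
  rw [coe_top, centralizer_univ]

theorem centralizer_top' : centralizer ((⊤ : Subgroup G) : Set G) = center G := by
  rw [coe_top, centralizer_univ]

theorem center_inf_commutator_le_frattini [Finite G] {Z : Subgroup G} (h1 : Z ≤ center G)
    (h2 : Z ≤ commutator G) : Z ≤ frattini G := by
  refine Solv.le_frattini_iff.2 fun M hM => by_contra fun hn => ?_
  have e := Solv.sup_eq_top_of_not_le_coatom hM hn
  have hc : Z ≤ centralizer (M : Set G) := h1.trans (Subgroup.center_le_centralizer _)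
  have hz : Z ≤ centralizer (Z : Set G) := h1.trans (Subgroup.center_le_centralizer _)
  have := commutator_sup_central hc hz
  rw [e] at this
  exact hn (h2.trans ((commutator_def G).le.trans (this.le.trans (commutator_le_left_of_le_normalizer le_normalizer))))

theorem inf_le_map_frattini [Finite G] {Z L : Subgroup G} (h1 : Z ≤ centralizer (L : Set G))
    (h2 : Z ≤ ⁅L, L⁆) : Z ≤ (frattini L).map L.subtype := by
  have hZ : Z ≤ L := h2.trans (commutator_le_left_of_le_normalizer le_normalizer)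
  refine le_map_subtype_iff.2 ⟨hZ, center_inf_commutator_le_frattini ?_ ?_⟩
  · rw [← subgroupOf_centralizer_self]; exact comap_mono h1
  · rw [← map_le_map_iff_of_injective L.subtype_injective, map_subgroupOf_eq_of_le hZ, commutator_def,
      map_commutator, map_subtype_top]
    exact h2

theorem le_normalizer_map_char {A H : Subgroup G} (K : Subgroup H) [hK : K.Characteristic]
    (h : A ≤ normalizer (H : Set G)) : A ≤ normalizer (K.map H.subtype : Set G) :=
  le_normalizer_of_cj_le fun g hg => cj_le_iff'.2 (by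
    rintro _ ⟨x, hx, rfl⟩
    exact ⟨_, characteristic_iff_map_le.1 hK (H.normalizerMonoidHom ⟨g, h hg⟩) ⟨x, hx, rfl⟩, rfl⟩)

/-- The Frattini subgroup of a subgroup, in the ambient group. -/
abbrev Phi (P : Subgroup G) : Subgroup G := (frattini P).map P.subtype

theorem Phi_le (P : Subgroup G) : Phi P ≤ P := map_subtype_le _

theorem le_normalizer_Phi {A P : Subgroup G} (h : A ≤ normalizer (P : Set G)) :
    A ≤ normalizer (Phi P : Set G) := le_normalizer_map_char _ h

theorem le_normalizer_actKer {A X C : Subgroup G} (h1 : A ≤ normalizer (X : Set G))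
    (h2 : A ≤ normalizer (C : Set G)) : A ≤ normalizer (actKer X C : Set G) := by
  refine le_normalizer_of_cj_le fun g hg => le_actKer_iff.2 ⟨?_, ?_⟩
  · exact cj_le_of_mem (le_actKer_iff.1 (le_refl (actKer X C))).1 (le_normalizer (h1 hg))
  · rw [← cj_eq_self_iff.2 (h2 hg), ← cj_commutator, cj_eq_self_iff.2 (h2 hg)]
    exact cj_le_of_mem (le_actKer_iff.1 (le_refl (actKer X C))).2 (h1 hg)

/-- `L₀` is the unique maximal subgroup of `L` containing `Y`. -/
structure UMax (Y L L₀ : Subgroup G) : Prop where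
  le : Y ≤ L₀
  lt : L₀ < L
  max : ∀ X, Y ≤ X → X < L → X ≤ L₀

/-- `L` is `Y`-minimal with maximal subgroup `L₀`. -/
structure MinOver (Y L L₀ : Subgroup G) : Prop extends UMax Y L L₀ where
  gen : Y ⊔ ⁅Y, L⁆ = L

namespace UMax

variable {Y L L₀ : Subgroup G}

theorem le' (h : UMax Y L L₀) : Y ≤ L := h.le.trans h.lt.le

theorem eq_or_le (h : UMax Y L L₀) {X : Subgroup G} (h1 : Y ≤ X) (h2 : X ≤ L) : X = L ∨ X ≤ L₀ :=
  h2.eq_or_lt.imp_right (h.max X h1)

theorem eq_of_not_le (h : UMax Y L L₀) {X : Subgroup G} (h1 : Y ≤ X) (h2 : X ≤ L)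
    (h3 : ¬ X ≤ L₀) : X = L := (h.eq_or_le h1 h2).resolve_right h3

theorem not_le (h : UMax Y L L₀) : ¬ L ≤ L₀ := h.lt.not_ge

theorem unique {L₁ : Subgroup G} (h : UMax Y L L₀) (h' : UMax Y L L₁) : L₀ = L₁ :=
  le_antisymm (h'.max _ h.le h.lt) (h.max _ h'.le h'.lt)

theorem mono (h : UMax Y L L₀) {X : Subgroup G} (h1 : Y ≤ X) (h2 : X ≤ L₀) : UMax X L L₀ :=
  ⟨h2, h.lt, fun Z a b => h.max Z (h1.trans a) b⟩

theorem map {G' : Type*} [Group G'] (f : G →* G') (h : UMax Y L L₀) (hk : L ⊓ f.ker ≤ L₀) :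
    UMax (Y.map f) (L.map f) (L₀.map f) := by
  refine ⟨map_mono h.le, lt_of_le_of_ne (map_mono h.lt.le) fun e => h.not_le ?_, fun X a b => ?_⟩
  · exact (eq_sup_inf_ker f h.lt.le e.ge).le.trans (sup_le le_rfl hk)
  · rw [← map_comap_inf f b.le]
    refine map_mono (h.max _ (le_inf (map_le_iff_le_comap.1 a) h.le') (lt_of_le_of_ne inf_le_right fun e => ?_))
    exact b.ne (by rw [← map_comap_inf f b.le, e])

theorem of_map {G' : Type*} [Group G'] (f : G →* G') (h : UMax (Y.map f) (L.map f) (L₀.map f))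
    (h1 : Y ≤ L₀) (h2 : L₀ ≤ L) (hk : L ⊓ f.ker ≤ Y) : UMax Y L L₀ := by
  refine ⟨h1, lt_of_le_of_ne h2 fun e => h.lt.ne (by rw [e]), fun X a b => ?_⟩
  have : X.map f ≤ L₀.map f := by
    refine h.max _ (map_mono a) (lt_of_le_of_ne (map_mono b.le) fun e => b.not_ge ?_)
    exact (eq_sup_inf_ker f b.le e.ge).le.trans (sup_le le_rfl (hk.trans a))
  have e := eq_sup_inf_ker f (le_sup_right : L₀ ≤ X ⊔ L₀) (by rw [Subgroup.map_sup]; exact sup_le this le_rfl)
  exact le_sup_left.trans (e.le.trans (sup_le le_rfl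
    ((inf_le_inf_right _ (sup_le b.le h2)).trans (hk.trans h1))))

theorem map_of_injective {G' : Type*} [Group G'] {f : G →* G'} (hf : Function.Injective f)
    (h : UMax Y L L₀) : UMax (Y.map f) (L.map f) (L₀.map f) :=
  h.map f (by rw [(MonoidHom.ker_eq_bot_iff f).2 hf, inf_bot_eq]; exact bot_le)

theorem cj (h : UMax Y L L₀) (g : G) : UMax cj(g, Y) cj(g, L) cj(g, L₀) :=
  h.map_of_injective (MulAut.conj g).injective

theorem mem_normalizer (h : UMax Y L L₀) {g : G} (h1 : g ∈ normalizer (Y : Set G))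
    (h2 : g ∈ normalizer (L : Set G)) : g ∈ normalizer (L₀ : Set G) := by
  have := h.cj g
  rw [cj_eq_self_iff.2 h1, cj_eq_self_iff.2 h2] at this
  exact cj_eq_self_iff.1 (this.unique h)

theorem le_normalizer (h : UMax Y L L₀) {A : Subgroup G} (h1 : A ≤ normalizer (Y : Set G))
    (h2 : A ≤ normalizer (L : Set G)) : A ≤ normalizer (L₀ : Set G) :=
  fun _ hg => h.mem_normalizer (h1 hg) (h2 hg)

theorem mem_normalizer_of_cj_le [Finite G] (h : UMax Y L L₀) {g : G} (hg : g ∈ L)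
    (h1 : cj(g, Y) ≤ L₀) : g ∈ normalizer (L₀ : Set G) := by
  have a : cj(g⁻¹, L₀) ≤ L₀ := by
    refine h.max _ (cj_le_iff.1 h1) ?_
    have := (h.cj g⁻¹).lt
    rwa [cj_eq_self_of_mem (inv_mem hg)] at this
  exact inv_mem_iff.1 (mem_normalizer_of_conj_mem (cj_le_iff'.1 a))

theorem isCoatom (h : UMax Y ⊤ L₀) : IsCoatom L₀ :=
  ⟨h.lt.ne, fun X hX => (h.eq_or_le (h.le.trans hX.le) le_top).resolve_right hX.not_ge⟩

theorem existsUnique (h : UMax Y ⊤ L₀) : ∃! M : Subgroup G, IsCoatom M ∧ Y ≤ M :=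
  ⟨L₀, ⟨h.isCoatom, h.le⟩, fun M hM =>
    (hM.1.le_iff.1 (h.max M hM.2 hM.1.lt_top)).elim (fun e => absurd e h.lt.ne) Eq.symm⟩

end UMax

theorem umax_of_existsUnique [Finite G] {Y M : Subgroup G}
    (h : ∃! M : Subgroup G, IsCoatom M ∧ Y ≤ M) (h1 : IsCoatom M) (h2 : Y ≤ M) : UMax Y ⊤ M := by
  refine ⟨h2, h1.lt_top, fun X a b => ?_⟩
  obtain ⟨M', c, d⟩ := (eq_top_or_exists_le_coatom X).resolve_left b.ne
  exact h.unique ⟨c, a.trans d⟩ ⟨h1, h2⟩ ▸ d

theorem exists_umax_or [Finite G] {Y L : Subgroup G} (h : Y < L) : (∃ L₀, UMax Y L L₀) ∨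
    ∃ A B, Y ≤ A ∧ Y ≤ B ∧ A < L ∧ B < L ∧ A ⊔ B = L := by
  obtain ⟨A, h1, ⟨-, h2⟩, h3⟩ := exists_maximal_subgroup (P := fun X => Y ≤ X ∧ X < L) ⟨le_rfl, h⟩
  by_cases hA : ∀ X, Y ≤ X → X < L → X ≤ A
  · exact Or.inl ⟨A, h1, h2, hA⟩
  · push Not at hA
    obtain ⟨B, a, b, c⟩ := hA
    refine Or.inr ⟨A, B, h1, a, h2, b, by_contra fun hn => c ?_⟩
    exact le_sup_right.trans (h3 _ ⟨h1.trans le_sup_left,
      lt_of_le_of_ne (sup_le h2.le b.le) hn⟩ le_sup_left).le

namespace MinOver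

variable {Y L L₀ : Subgroup G}

theorem le_of_normal (h : MinOver Y L L₀) {N : Subgroup G} (h1 : Y ≤ N)
    (h2 : L ≤ normalizer (N : Set G)) : L ≤ N := h.gen.ge.trans (sup_commutator_le h1 h2)

theorem inf_normalizer_le (h : MinOver Y L L₀) {X : Subgroup G} (h1 : Y ≤ X) (h2 : X ≤ L₀) :
    L ⊓ normalizer (X : Set G) ≤ L₀ :=
  (h.eq_or_le (le_inf h.le' (h1.trans Subgroup.le_normalizer)) inf_le_left).resolve_left fun e =>
    h.not_le ((h.le_of_normal h1 (e.ge.trans inf_le_right)).trans h2)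

theorem not_le_normalizer (h : MinOver Y L L₀) {X : Subgroup G} (h1 : Y ≤ X) (h2 : X ≤ L₀) :
    ¬ L ≤ normalizer (X : Set G) := fun a => h.not_le ((h.le_of_normal h1 a).trans h2)

theorem mono (h : MinOver Y L L₀) {X : Subgroup G} (h1 : Y ≤ X) (h2 : X ≤ L₀) : MinOver X L L₀ :=
  ⟨h.toUMax.mono h1 h2, le_antisymm (sup_commutator_le' (h2.trans h.lt.le))
    (h.gen.ge.trans (sup_le_sup h1 (commutator_mono h1 le_rfl)))⟩

theorem mem_of_cj_le [Finite G] (h : MinOver Y L L₀) {g : G} (hg : g ∈ L) (h1 : cj(g, Y) ≤ L₀) :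
    g ∈ L₀ := h.inf_normalizer_le h.le le_rfl (mem_inf.2 ⟨hg, h.mem_normalizer_of_cj_le hg h1⟩)

theorem sup_cj [Finite G] (h : MinOver Y L L₀) {g : G} (hg : g ∈ L) (h1 : g ∉ L₀) :
    Y ⊔ cj(g, Y) = L :=
  h.eq_of_not_le le_sup_left (sup_le h.le' (cj_le_of_mem h.le' (Subgroup.le_normalizer hg)))
    fun a => h1 (h.mem_of_cj_le hg (le_sup_right.trans a))

theorem inf_cj [Finite G] (h : MinOver Y L L₀) (hY : Y ≤ centralizer (Y : Set G)) {g : G}
    (hg : g ∈ L) (h1 : g ∉ L₀) : Y ⊓ cj(g, Y) = Y ⊓ centralizer (L : Set G) := by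
  refine le_antisymm (le_inf inf_le_left ?_) (le_inf inf_le_left fun x hx => ?_)
  · rw [← h.sup_cj hg h1, centralizer_sup]
    exact inf_le_inf hY (by rw [← cj_centralizer]; exact cj_mono g hY)
  · rw [mem_cj, mul_assoc, ← (mem_centralizer_iff.1 (mem_inf.1 hx).2) g hg, inv_mul_cancel_left]
    exact (mem_inf.1 hx).1

theorem map {G' : Type*} [Group G'] (f : G →* G') (h : MinOver Y L L₀) (hk : L ⊓ f.ker ≤ L₀) :
    MinOver (Y.map f) (L.map f) (L₀.map f) :=
  ⟨h.toUMax.map f hk, by rw [← map_commutator, ← Subgroup.map_sup, h.gen]⟩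

theorem of_map {G' : Type*} [Group G'] (f : G →* G') (h : MinOver (Y.map f) (L.map f) (L₀.map f))
    (h1 : Y ≤ L₀) (h2 : L₀ ≤ L) (hk : L ⊓ f.ker ≤ Y) : MinOver Y L L₀ := by
  refine ⟨h.toUMax.of_map f h1 h2 hk, le_antisymm (sup_commutator_le' (h1.trans h2)) ?_⟩
  refine (eq_sup_inf_ker f (sup_commutator_le' (h1.trans h2)) ?_).le.trans
    (sup_le le_rfl (hk.trans le_sup_left))
  rw [Subgroup.map_sup, map_commutator, h.gen]

theorem map_of_injective {G' : Type*} [Group G'] {f : G →* G'} (hf : Function.Injective f)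
    (h : MinOver Y L L₀) : MinOver (Y.map f) (L.map f) (L₀.map f) :=
  h.map f (by rw [(MonoidHom.ker_eq_bot_iff f).2 hf, inf_bot_eq]; exact bot_le)

theorem cj (h : MinOver Y L L₀) (g : G) : MinOver cj(g, Y) cj(g, L) cj(g, L₀) :=
  h.map_of_injective (MulAut.conj g).injective

theorem isMinimalOver (h : MinOver Y ⊤ L₀) : IsMinimalOver Y :=
  ⟨(normalClosure_eq_sup Y).trans h.gen, h.existsUnique⟩

theorem subgroupOf (h : MinOver Y L L₀) : MinOver (Y.subgroupOf L) ⊤ (L₀.subgroupOf L) := by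
  refine of_map L.subtype ?_ (comap_mono h.le) le_top (by rw [ker_subtype, inf_bot_eq]; exact bot_le)
  rwa [map_subgroupOf_eq_of_le h.le', map_subgroupOf_eq_of_le h.lt.le, map_subtype_top]

theorem map_subtype {Y L₀ : Subgroup L} (h : MinOver Y ⊤ L₀) :
    MinOver (Y.map L.subtype) L (L₀.map L.subtype) := by
  have := h.map_of_injective L.subtype_injective
  rwa [map_subtype_top] at this

/-- A subnormal subgroup inside the maximal subgroup lies in a normal subgroup inside it. -/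
theorem _root_.Cfsg.Agent.Comp.UMax.exists_normal_of_subnIn [Finite G] (h : UMax Y L L₀)
    {N : Subgroup G} (h1 : SubnIn N L) (h2 : N ≤ L₀) :
    ∃ K, N ≤ K ∧ K ≤ L₀ ∧ L ≤ normalizer (K : Set G) := by
  let K := sSup {X | SubnIn X L ∧ X ≤ L₀}
  have hK : K ≤ L₀ := sSup_le fun X hX => hX.2
  have hs : SubnIn K L := SubnIn.sSup fun X hX => hX.1
  refine ⟨K, le_sSup ⟨h1, h2⟩, hK, ?_⟩
  have hn : L₀ ≤ normalizer (K : Set G) := le_normalizer_sSup fun g hg X hX =>
    ⟨hX.1.cj (Subgroup.le_normalizer (h.lt.le hg)), cj_le_of_mem hX.2 (Subgroup.le_normalizer hg)⟩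
  obtain ⟨X, a, b, c⟩ := hs.exists_lt_le_normalizer (fun e => h.not_le (e ▸ hK))
  refine (h.eq_of_not_le (le_inf h.le' (h.le.trans hn)) inf_le_left fun d => ?_).ge.trans inf_le_right
  exact a.not_ge (le_sSup ⟨c, (le_inf c.le b).trans d⟩)

end MinOver

theorem IsMinimalOver.minOver [Finite G] {Y M : Subgroup G} (h : IsMinimalOver Y) (h1 : IsCoatom M)
    (h2 : Y ≤ M) : MinOver Y ⊤ M :=
  ⟨umax_of_existsUnique h.2 h1 h2, (normalClosure_eq_sup Y).symm.trans h.1⟩

theorem isMinimalOver_iff [Finite G] {Y : Subgroup G} : IsMinimalOver Y ↔ ∃ M, MinOver Y ⊤ M :=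
  ⟨fun h => by
    obtain ⟨M, a, -⟩ := h.2
    exact ⟨M, IsMinimalOver.minOver h a.1 a.2⟩, fun ⟨_, h⟩ => h.isMinimalOver⟩

theorem le_normalCore_iff' {N M : Subgroup G} [N.Normal] : N ≤ M.normalCore ↔ N ≤ M :=
  normal_le_normalCore

/-- The quadratic pair lemma. -/
theorem quad_pair {V L X : Subgroup G} (hLV : L ≤ normalizer (V : Set G)) {g : G} (hg : g ∈ L)
    (hq : ⁅⁅V, X⁆, X⁆ = ⊥) (hgen : X ⊔ cj(g, X) = L) :
    ⁅V, X⁆ ⊔ ⁅V, cj(g, X)⁆ = ⁅V, L⁆ ∧ ⁅V, L⁆ ⊓ centralizer (X : Set G) = ⁅V, X⁆ ∧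
      ⁅V, L⁆ ⊓ centralizer (L : Set G) = ⁅V, X⁆ ⊓ ⁅V, cj(g, X)⁆ := by
  have hX : X ≤ L := le_sup_left.trans hgen.le
  have hX' : cj(g, X) ≤ L := le_sup_right.trans hgen.le
  have hV : cj(g, V) = V := cj_eq_self_iff.2 (hLV hg)
  have eB : cj(g, ⁅V, X⁆) = ⁅V, cj(g, X)⁆ := by rw [cj_commutator, hV]
  have hA : ⁅V, X⁆ ≤ V := commutator_le_left_of_le_normalizer (hX.trans hLV)
  have hB : ⁅V, cj(g, X)⁆ ≤ V := commutator_le_left_of_le_normalizer (hX'.trans hLV)
  have cA : ⁅V, X⁆ ≤ centralizer (X : Set G) := commutator_eq_bot_iff_le_centralizer.1 hq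
  have cB : ⁅V, cj(g, X)⁆ ≤ centralizer (cj(g, X) : Set G) := by
    rw [← eB, ← cj_centralizer]; exact cj_mono g cA
  have n1 : ∀ Z : Subgroup G, ⁅V, Z⁆ ≤ ⁅V, X⁆ ⊔ ⁅V, cj(g, X)⁆ →
      Z ≤ normalizer ((⁅V, X⁆ ⊔ ⁅V, cj(g, X)⁆ : Subgroup G) : Set G) := fun Z hZ =>
    le_normalizer_of_commutator_le (sup_le hA hB) (by rwa [commutator_comm])
  have e1 : ⁅V, X⁆ ⊔ ⁅V, cj(g, X)⁆ = ⁅V, L⁆ := by
    refine le_antisymm (sup_le (commutator_mono le_rfl hX) (commutator_mono le_rfl hX')) ?_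
    rw [← hgen]
    exact commutator_sup_right_le (n1 _ le_sup_left) (n1 _ le_sup_right) le_sup_left le_sup_right
  have e2 : ⁅V, L⁆ ⊓ centralizer (X : Set G) = ⁅V, X⁆ := by
    rw [← e1, sup_inf_of_le_normalizer (hA.trans (le_sup_left.trans (sup_le_normalizer_commutator _ _))) cA]
    refine sup_eq_left.2 fun x hx => ?_
    have hc : x ∈ centralizer (L : Set G) := by
      rw [← hgen, centralizer_sup]; exact mem_inf.2 ⟨(mem_inf.1 hx).2, cB (mem_inf.1 hx).1⟩
    have := (mem_inf.1 hx).1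
    rwa [← eB, mem_cj, mul_assoc, ← (mem_centralizer_iff.1 hc) g hg, inv_mul_cancel_left] at this
  refine ⟨e1, e2, ?_⟩
  have e3 : ⁅V, L⁆ ⊓ centralizer (cj(g, X) : Set G) = ⁅V, cj(g, X)⁆ := by
    rw [← eB, ← e2, cj_inf, cj_centralizer, cj_commutator, hV, cj_eq_self_of_mem hg]
  conv_rhs => rw [← e2, ← e3]
  conv_lhs => rw [← hgen, centralizer_sup, hgen, inf_inf_distrib_left]

end general

variable {G : Type u} [Group G] [Finite G] {p : ℕ} [hp : Fact p.Prime]

theorem subnIn_of_Res_le {K X : Subgroup G} (h1 : Res p K ≤ X) (h2 : X ≤ K) : SubnIn X K := by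
  obtain ⟨T, hT⟩ := exists_sylIn p K
  have hn : T ≤ normalizer (Res p K : Set G) := le_normalizer_ResPi (hT.le.trans le_normalizer)
  have := (subnIn_of_isNilpotent hT.isP.isNilpotent
    (inf_le_left : T ⊓ X ≤ T)).sup_left_of_le_normalizer hn
  rwa [← sup_inf_of_le_normalizer' hn h1, hT.Res_sup, inf_eq_right.2 h2] at this

theorem coprime_of_forall_isPGroup {X : Subgroup G} (h : ∀ Y, Y ≤ X → IsPGroup p Y → Y = ⊥) :
    (Nat.card X).Coprime p :=
  Resp_eq_bot_iff.1 (le_bot_iff.1 (Resp_le_of_forall fun Q a b => (h Q a b).le))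

theorem Res_le_of_le_sup {X N R : Subgroup G} (h : X ≤ N ⊔ R) (h1 : R ≤ normalizer (N : Set G))
    (h2 : IsPGroup p R) : Res p X ≤ N := (ResPi_mono h).trans (Res_sup_le' h1 h2)

theorem Res_le_of_le_sup' {X N R : Subgroup G} (h : Res p X ≤ N ⊔ R)
    (h1 : R ≤ normalizer (N : Set G)) (h2 : IsPGroup p R) : Res p X ≤ N :=
  (Res_Res X).ge.trans (Res_le_of_le_sup h h1 h2)

/-! ### `p`-closed subgroups -/

def PClosed (p : ℕ) (M : Subgroup G) : Prop := IsPGroup p (Resp p M)

section pclosed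

variable {M N : Subgroup G}

theorem PClosed.le_Op (h : PClosed p M) {Q : Subgroup G} (h1 : Q ≤ M) (h2 : IsPGroup p Q) :
    Q ≤ Op p M := (le_Resp h1 h2).trans ((ResPi_subnIn _ M).le_Op h)

theorem pClosed_of_forall (h : ∀ Q, Q ≤ M → IsPGroup p Q → Q ≤ Op p M) : PClosed p M :=
  (isPGroup_Op p M).to_le (Resp_le_of_forall h)

theorem PClosed.sylIn (h : PClosed p M) : SylIn p (Op p M) M :=
  ⟨Op_le p M, isPGroup_Op p M, fun Q a b c => le_antisymm (h.le_Op c a) b⟩

theorem SylIn.pClosed {P : Subgroup G} (h : SylIn p P M) (hn : M ≤ normalizer (P : Set G)) :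
    PClosed p M := h.isP.to_le (h.Resp_le le_rfl hn)

theorem PClosed.eq_Op (h : PClosed p M) {P : Subgroup G} (hP : SylIn p P M) : P = Op p M :=
  le_antisymm (h.le_Op hP.le hP.isP) hP.Op_le

theorem PClosed.le_normalizer (h : PClosed p M) {P : Subgroup G} (hP : SylIn p P M) :
    M ≤ normalizer (P : Set G) := h.eq_Op hP ▸ le_normalizer_Op_of_le le_rfl

theorem PClosed.of_le (h : PClosed p M) (h1 : N ≤ M) : PClosed p N := IsPGroup.to_le h (ResPi_mono h1)

theorem PClosed.map {G' : Type u} [Group G'] [Finite G'] (f : G →* G') (h : PClosed p M) :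
    PClosed p (M.map f) := by
  unfold PClosed; rw [← map_Resp]; exact IsPGroup.map h f

theorem PClosed.of_map {G' : Type u} [Group G'] [Finite G'] (f : G →* G') (h : PClosed p (M.map f))
    (hk : IsPGroup p (M ⊓ f.ker : Subgroup G)) : PClosed p M := by
  unfold PClosed at h; rw [← map_Resp] at h
  exact FClass.of_map (pCl_ext p) f h (hk.to_le (inf_le_inf_right _ (ResPi_le _ _)))

theorem pClosed_map_iff {G' : Type u} [Group G'] [Finite G'] {f : G →* G'}
    (hf : Function.Injective f) : PClosed p (M.map f) ↔ PClosed p M :=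
  ⟨fun h => h.of_map f (by
    rw [(MonoidHom.ker_eq_bot_iff f).2 hf, inf_bot_eq]; exact IsPGroup.of_bot), fun h => h.map f⟩

theorem PClosed.cj (h : PClosed p M) (g : G) : PClosed p cj(g, M) := h.map _

theorem pClosed_top_iff : PClosed p (⊤ : Subgroup G) ↔ IsPClosed p G :=
  ⟨fun h S => normal_iff_top_le_normalizer.2 (h.le_normalizer (sylIn_top S)), fun h => by
    obtain ⟨S⟩ := (inferInstance : Nonempty (Sylow p G))
    exact (sylIn_top S).pClosed (normal_iff_top_le_normalizer.1 (h S))⟩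

theorem pClosed_iff : PClosed p M ↔ IsPClosed p M := by
  rw [← pClosed_top_iff, ← pClosed_map_iff M.subtype_injective, map_subtype_top]

theorem pClosed_of_isPGroup (h : IsPGroup p M) : PClosed p M := h.to_le (ResPi_le _ _)

theorem pClosed_of_coprime (h : (Nat.card M).Coprime p) : PClosed p M := by
  unfold PClosed; rw [Resp_eq_bot_iff.2 h]; exact IsPGroup.of_bot

theorem PClosed.coprime (h : PClosed p M) (h1 : Op p M = ⊥) : (Nat.card M).Coprime p :=
  coprime_iff_not_dvd.2 (h.sylIn.eq_bot_iff.1 h1)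

theorem pClosed_of_commutator (h : IsPGroup p (⁅M, M⁆ : Subgroup G)) : PClosed p M := by
  obtain ⟨P, hP⟩ := exists_sylIn p M
  have a : ⁅M, M⁆ ≤ P := hP.le_of_normalizer' h (commutator_le_left_of_le_normalizer le_normalizer)
    (le_normalizer_commutator (hP.le.trans le_normalizer) (hP.le.trans le_normalizer))
  exact hP.pClosed (le_normalizer_of_commutator_le hP.le a)

theorem PClosed.Res_sup_Op (h : PClosed p M) : Res p M ⊔ Op p M = M := h.sylIn.Res_sup

theorem PClosed.coprime_map {G' : Type u} [Group G'] [Finite G'] (f : G →* G') (h : PClosed p M)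
    (hk : Op p M ≤ f.ker) : (Nat.card (M.map f)).Coprime p := by
  refine coprime_iff_not_dvd.2 ((h.sylIn.map f).eq_bot_iff.1 ?_)
  exact (Subgroup.map_eq_bot_iff _).2 hk

theorem PClosed.sup_Op (h : PClosed p N) {Q : Subgroup G} (hQ : IsPGroup p Q)
    (hn : N ≤ normalizer (Q : Set G)) : PClosed p (N ⊔ Q) := by
  have a : N ⊔ Q ≤ normalizer (Q : Set G) := sup_le hn Subgroup.le_normalizer
  have b : N ≤ normalizer ((Op p N ⊔ Q : Subgroup G) : Set G) :=
    le_normalizer_sup (le_normalizer_Op_of_le le_rfl) hn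
  refine SylIn.pClosed (P := Op p N ⊔ Q) (sylIn_of_not_dvd (sup_le_sup_right (Op_le p N) _)
    (isPGroup_sup ((Op_le p N).trans hn) (isPGroup_Op p N) hQ) fun hd => ?_)
    (sup_le b (le_sup_right.trans Subgroup.le_normalizer))
  have e : N ⊔ Q = N ⊔ (Op p N ⊔ Q) := by rw [← sup_assoc, sup_eq_left.2 (Op_le p N)]
  rw [e, relIndex_sup_of_le_normalizer b, ← inf_relIndex_right] at hd
  exact h.sylIn.not_dvd_relIndex_of_le (le_inf le_sup_left (Op_le p N)) inf_le_right hd

end pclosed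

/-! ### `p`-irreducible subgroups -/

structure PIrr (p : ℕ) (H : Subgroup G) : Prop where
  not_closed : ¬ PClosed p H
  res_le : ∀ N, N ≤ H → H ≤ normalizer (N : Set G) → ¬ PClosed p N → Res p H ≤ N

structure SPIrr (p : ℕ) (H : Subgroup G) : Prop where
  not_closed : ¬ PClosed p H
  res_le : ∀ N, N ≤ H → H ≤ normalizer (N : Set G) → ¬ ⁅N, H⁆ ≤ Op p H → Res p H ≤ N

section pirr

variable {H : Subgroup G}

theorem SPIrr.pIrr (h : SPIrr p H) : PIrr p H :=
  ⟨h.not_closed, fun N a b c => h.res_le N a b fun d =>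
    c (pClosed_of_commutator ((isPGroup_Op p H).to_le ((commutator_mono le_rfl a).trans d)))⟩

theorem le_normalizer_comap_inf {G' : Type*} [Group G'] (f : G →* G') {N : Subgroup G'}
    (h : H.map f ≤ normalizer (N : Set G')) :
    H ≤ normalizer ((N.comap f ⊓ H : Subgroup G) : Set G) :=
  le_normalizer_inf (le_normalizer_comap_of_map f h) le_normalizer

theorem le_sup_inf_ker {G' : Type*} [Group G'] (f : G →* G') {X Y H : Subgroup G} (hX : X ≤ H)
    (hY : Y ≤ H) (h : X.map f ≤ Y.map f) : X ≤ Y ⊔ (H ⊓ f.ker) :=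
  le_sup_left.trans ((eq_sup_inf_ker f (le_sup_right : Y ≤ X ⊔ Y)
    (by rw [Subgroup.map_sup]; exact sup_le h le_rfl)).le.trans
    (sup_le_sup_left (inf_le_inf_right _ (sup_le hX hY)) _))

theorem pIrr_map_iff {G' : Type u} [Group G'] [Finite G'] (f : G →* G')
    (hk : IsPGroup p (H ⊓ f.ker : Subgroup G)) : PIrr p (H.map f) ↔ PIrr p H := by
  refine ⟨fun h => ⟨fun a => h.not_closed (a.map f), fun N a b c => ?_⟩,
    fun h => ⟨fun a => h.not_closed (a.of_map f hk), fun N a b c => ?_⟩⟩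
  · have := h.res_le _ (map_mono a) (map_le_normalizer_map f b) fun d =>
      c (d.of_map f (hk.to_le (inf_le_inf_right _ a)))
    rw [← map_Res] at this
    exact Res_le_of_le_sup' (le_sup_inf_ker f (ResPi_le _ _) a this) (inf_le_left.trans b) hk
  · rw [← map_Res, ← map_comap_inf f a]
    exact map_mono (h.res_le _ inf_le_right (le_normalizer_comap_inf f b) fun d =>
      c (map_comap_inf f a ▸ d.map f))

theorem sPIrr_map_iff {G' : Type u} [Group G'] [Finite G'] (f : G →* G')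
    (hk : IsPGroup p (H ⊓ f.ker : Subgroup G)) : SPIrr p (H.map f) ↔ SPIrr p H := by
  have key : ∀ N, N ≤ H → (⁅N.map f, H.map f⁆ ≤ Op p (H.map f) ↔ ⁅N, H⁆ ≤ Op p H) := fun N a => by
    rw [← map_commutator, ← map_Op f hk]
    refine ⟨fun b => (le_sup_inf_ker f ((commutator_mono a le_rfl).trans
      (commutator_le_left_of_le_normalizer le_normalizer)) (Op_le p H) b).trans
      (sup_le le_rfl (Comp.le_Op inf_le_left
        (le_normalizer_inf le_normalizer (le_normalizer_ker f H)) hk)), map_mono⟩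
  refine ⟨fun h => ⟨fun a => h.not_closed (a.map f), fun N a b c => ?_⟩,
    fun h => ⟨fun a => h.not_closed (a.of_map f hk), fun N a b c => ?_⟩⟩
  · have := h.res_le _ (map_mono a) (map_le_normalizer_map f b) fun d => c ((key N a).1 d)
    rw [← map_Res] at this
    exact Res_le_of_le_sup' (le_sup_inf_ker f (ResPi_le _ _) a this) (inf_le_left.trans b) hk
  · rw [← map_Res, ← map_comap_inf f a]
    exact map_mono (h.res_le _ inf_le_right (le_normalizer_comap_inf f b) fun d =>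
      c (map_comap_inf f a ▸ (key _ inf_le_right).2 d))

theorem isPGroup_inf_ker_of_injective {G' : Type*} [Group G'] {f : G →* G'}
    (hf : Function.Injective f) (H : Subgroup G) : IsPGroup p (H ⊓ f.ker : Subgroup G) := by
  rw [(MonoidHom.ker_eq_bot_iff f).2 hf, inf_bot_eq]; exact IsPGroup.of_bot

theorem pIrr_top_iff : PIrr p (⊤ : Subgroup G) ↔ IsPIrreducible p G :=
  ⟨fun h => ⟨fun a => h.not_closed (pClosed_top_iff.2 a), fun N a b => Res_top (p := p) (G := G) ▸
    h.res_le N le_top (normal_iff_top_le_normalizer.1 a) fun c => b (pClosed_iff.1 c)⟩,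
   fun h => ⟨fun a => h.1 (pClosed_top_iff.1 a), fun N _ a b => Res_top.le.trans
    (h.2 N (normal_iff_top_le_normalizer.2 a) fun c => b (pClosed_iff.2 c))⟩⟩

theorem sPIrr_top_iff : SPIrr p (⊤ : Subgroup G) ↔ IsStronglyPIrreducible p G :=
  ⟨fun h => ⟨fun a => h.not_closed (pClosed_top_iff.2 a), fun N a b => Res_top (p := p) (G := G) ▸
    h.res_le N le_top (normal_iff_top_le_normalizer.1 a) fun c => b (c.trans (Op_top p).le)⟩,
   fun h => ⟨fun a => h.1 (pClosed_top_iff.1 a), fun N _ a b => Res_top.le.trans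
    (h.2 N (normal_iff_top_le_normalizer.2 a) fun c => b (c.trans (Op_top p).ge))⟩⟩

theorem pIrr_iff : PIrr p H ↔ IsPIrreducible p H := by
  rw [← pIrr_top_iff, ← pIrr_map_iff H.subtype (isPGroup_inf_ker_of_injective H.subtype_injective _),
    map_subtype_top]

theorem sPIrr_iff : SPIrr p H ↔ IsStronglyPIrreducible p H := by
  rw [← sPIrr_top_iff, ← sPIrr_map_iff H.subtype
    (isPGroup_inf_ker_of_injective H.subtype_injective _), map_subtype_top]

theorem PIrr.Resp_eq (h : PIrr p H) : Resp p H = H := by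
  obtain ⟨T, hT⟩ := exists_sylIn p H
  refine le_antisymm (ResPi_le _ _) (le_of_Res_le_of_sylIn hT (h.res_le _ (ResPi_le _ _)
    (le_normalizer_ResPi le_normalizer) fun a => h.not_closed ?_) (le_Resp hT.le hT.isP))
  unfold PClosed at a; rwa [Resp_Resp] at a

theorem commutator_sup_eq_of_Resp_eq (h : Resp p H = H) {T : Subgroup G} (hT : SylIn p T H) :
    ⁅H, H⁆ ⊔ T = H := by
  have a : ⁅H, H⁆ ⊔ T ≤ H := sup_le (commutator_le_left_of_le_normalizer le_normalizer) hT.le
  exact le_antisymm a (h.ge.trans (hT.Resp_le le_sup_right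
    (le_normalizer_of_commutator_le a le_sup_left)))

theorem Res_le_commutator_of_Resp_eq (h : Resp p H = H) : Res p H ≤ ⁅H, H⁆ := by
  obtain ⟨T, hT⟩ := exists_sylIn p H
  exact Res_le_of_le_sup (commutator_sup_eq_of_Resp_eq h hT).ge
    (le_normalizer_commutator (hT.le.trans le_normalizer) (hT.le.trans le_normalizer)) hT.isP

theorem PIrr.Res_le_commutator (h : PIrr p H) : Res p H ≤ ⁅H, H⁆ :=
  Res_le_commutator_of_Resp_eq h.Resp_eq

theorem PIrr.Res_le_of_not_le (h : PIrr p H) {N Y : Subgroup G} (h1 : N ≤ H)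
    (h2 : H ≤ normalizer (N : Set G)) (hY : IsPGroup p Y) (h3 : Y ≤ N) (h4 : ¬ Y ≤ Op p H) :
    Res p H ≤ N := h.res_le N h1 h2 fun a =>
  h4 ((a.le_Op h3 hY).trans ((SubnIn.of_normalizer h1 h2).Op_le p))

theorem PIrr.commutator_Res (h : PIrr p H) {T Y : Subgroup G} (hT : SylIn p T H) (h1 : Y ≤ T)
    (h2 : T ≤ normalizer (Y : Set G)) (h3 : ¬ Y ≤ Op p H) : ⁅Res p H, Y⁆ = Res p H := by
  have hY := hT.isP.to_le h1
  have hn : T ≤ normalizer (Res p H : Set G) := le_normalizer_ResPi (hT.le.trans le_normalizer)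
  have a : ⁅Res p H, Y⁆ ≤ Res p H := commutator_le_left_of_le_normalizer (h1.trans hn)
  refine le_antisymm a (Res_le_of_le_sup' (R := Y) (h.Res_le_of_not_le
    (sup_le (a.trans (ResPi_le _ _)) (h1.trans hT.le)) ?_ hY le_sup_right h3)
    (le_sup_right.trans (sup_le_normalizer_commutator _ _)) hY)
  refine hT.Res_sup.ge.trans (sup_le ?_ (le_normalizer_sup (le_normalizer_commutator hn h2) h2))
  rw [sup_comm, commutator_comm]; exact le_normalizer_sup_commutator _ _

theorem PIrr.pClosed (h : PIrr p H) {N : Subgroup G} (h1 : N ≤ H) (h2 : H ≤ normalizer (N : Set G))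
    (h3 : ¬ Res p H ≤ N) : PClosed p N := by_contra fun a => h3 (h.res_le N h1 h2 a)

theorem PIrr.le_Op (h : PIrr p H) {C Q : Subgroup G} (h2 : H ≤ normalizer (C : Set G))
    (h3 : ¬ Res p H ≤ C) (hQ : IsPGroup p Q) (a : Q ≤ H) (b : Q ≤ C) : Q ≤ Op p H :=
  by_contra fun c => h3 ((h.Res_le_of_not_le inf_le_left
    (le_normalizer_inf le_normalizer h2) hQ (le_inf a b) c).trans inf_le_right)

theorem PIrr.OpMod_le (h : PIrr p H) {C : Subgroup G} (h2 : H ≤ normalizer (C : Set G))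
    (h3 : ¬ Res p H ≤ C) (h4 : Op p H ≤ C) : OpMod p H C ≤ C := by
  have hn : H ≤ normalizer (OpMod p H C : Set G) := le_normalizer_OpMod le_normalizer h2
  have a := h.pClosed (Comp.OpMod_le H C) hn fun b =>
    h3 ((ResPi_le_ResPi b).trans (Res_OpMod_le h2))
  exact a.Res_sup_Op.ge.trans (sup_le (Res_OpMod_le h2)
    (((SubnIn.of_normalizer (Comp.OpMod_le H C) hn).Op_le p).trans h4))

theorem PIrr.not_isPGroup_Res (h : PIrr p H) : ¬ IsPGroup p (Res p H) := fun a =>
  h.not_closed (pClosed_of_isPGroup (Res_eq_bot_iff.1 ((Res_Res H).symm.trans (Res_eq_bot_iff.2 a))))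

end pirr

/-! ### `p`-minimal subgroups -/

section pmin

variable {T L L₀ : Subgroup G}

theorem UMax.minOver (h : UMax T L L₀) (hT : SylIn p T L) (hn : ¬ L ≤ normalizer (T : Set G)) :
    MinOver T L L₀ := by
  refine ⟨h, h.eq_of_not_le le_sup_left (sup_commutator_le' hT.le) fun a => h.not_le ?_⟩
  have b := (hT.of_le le_sup_left (sup_commutator_le' hT.le)).frattini (sup_commutator_le' hT.le)
    (le_normalizer_sup_commutator _ _)
  exact b.ge.trans (sup_le a ((h.eq_or_le (le_inf hT.le Subgroup.le_normalizer)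
    inf_le_left).resolve_left fun e => hn (e.ge.trans inf_le_right)))

theorem MinOver.sylIn {Y : Subgroup G} (h : MinOver Y L L₀) (hT : SylIn p T L₀) (h1 : Y ≤ T) :
    SylIn p T L :=
  .of_normalizer (hT.le.trans h.lt.le)
    (hT.of_le (le_inf (hT.le.trans h.lt.le) Subgroup.le_normalizer) (h.inf_normalizer_le h1 hT.le))

theorem UMax.Res_le_or (h : UMax T L L₀) (hT : IsPGroup p T) {N : Subgroup G} (h1 : N ≤ L)
    (h2 : T ≤ normalizer (N : Set G)) : Res p L ≤ N ∨ N ≤ L₀ :=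
  (h.eq_or_le le_sup_right (sup_le h1 h.le')).imp (fun e => Res_le_of_le_sup e.ge h2 hT)
    (le_sup_left.trans ·)

theorem UMax.not_Res_le (h : UMax T L L₀) (hT : SylIn p T L) : ¬ Res p L ≤ L₀ := fun a =>
  h.not_le (le_of_Res_le_of_sylIn hT a h.le)

theorem UMax.le_normalizer_inf (h : UMax T L L₀) (hT : SylIn p T L) {N : Subgroup G} (h1 : N ≤ L₀)
    (h2 : L ≤ normalizer (N : Set G)) : L ≤ normalizer ((T ⊓ N : Subgroup G) : Set G) := by
  have a := h1.trans h.lt.le
  have b := (hT.inf_normal a (hT.le.trans h2)).frattini a h2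
  refine (h.eq_of_not_le (le_inf hT.le (Comp.le_normalizer_inf Subgroup.le_normalizer
    (hT.le.trans h2))) inf_le_left fun c => h.not_le (b.ge.trans (sup_le h1 c))).ge.trans inf_le_right

theorem UMax.pClosed (h : UMax T L L₀) (hT : SylIn p T L) {N : Subgroup G} (h1 : N ≤ L₀)
    (h2 : L ≤ normalizer (N : Set G)) : PClosed p N :=
  (hT.inf_normal (h1.trans h.lt.le) (hT.le.trans h2)).pClosed
    ((h1.trans h.lt.le).trans (h.le_normalizer_inf hT h1 h2))

theorem UMax.inf_le_Op (h : UMax T L L₀) (hT : SylIn p T L) {N : Subgroup G} (h1 : N ≤ L₀)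
    (h2 : SubnIn N L) : N ⊓ T ≤ Op p L := by
  obtain ⟨K, a, b, c⟩ := h.exists_normal_of_subnIn h2 h1
  exact (le_inf inf_le_right (inf_le_left.trans a)).trans (Comp.le_Op (inf_le_left.trans hT.le)
    (h.le_normalizer_inf hT b c) (hT.isP.to_le inf_le_left))

theorem MinOver.not_pClosed (h : MinOver T L L₀) (hT : SylIn p T L) : ¬ PClosed p L := fun a =>
  h.not_le_normalizer le_rfl h.le (a.le_normalizer hT)

theorem MinOver.pIrr (h : MinOver T L L₀) (hT : SylIn p T L) : PIrr p L :=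
  ⟨h.not_pClosed hT, fun _ a b c => (h.Res_le_or hT.isP a (hT.le.trans b)).resolve_right fun d =>
    c (h.pClosed hT d b)⟩

theorem UMax.exists_isPGroup_Res (h : UMax T L L₀) (hT : SylIn p T L)
    (hc : (Nat.card (Res p L)).Coprime p) : ∃ t : ℕ, t.Prime ∧ IsPGroup t (Res p L) := by
  by_contra hn
  refine h.not_Res_le hT ((inf_eq_left (b := L₀)).1 (eq_of_forall_sylIn inf_le_left fun q hq _ => ?_))
  have := Fact.mk hq
  obtain ⟨R, a, b⟩ := exists_invariant_sylIn q (le_normalizer_ResPi (hT.le.trans Subgroup.le_normalizer))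
    (coprime_card_of_isPGroup hT.isP hc) (Or.inl (isSolvable_of_isPGroup hT.isP))
  refine ⟨R, a, le_inf a.le ((h.Res_le_or hT.isP (a.le.trans (ResPi_le _ _)) b).resolve_left
    fun c => hn ⟨q, hq, a.isP.to_le c⟩)⟩

/-- A normal `p'`-subgroup inside the maximal subgroup lies in the Frattini subgroup. -/
theorem UMax.le_frattini {M N : Subgroup G} [N.Normal] (h : UMax T ⊤ M) (hT : SylIn p T ⊤)
    (h1 : N ≤ M) (h2 : (Nat.card N).Coprime p) : N ≤ frattini G := by
  refine Solv.le_frattini_iff.2 fun K hK => by_contra fun hn => ?_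
  have e := Solv.sup_eq_top_of_not_le_coatom hK hn
  obtain ⟨S, hS⟩ := exists_sylIn p K
  have hS' : SylIn p S ⊤ := hS.trans_of_not_dvd le_top fun a => coprime_iff_not_dvd.1 h2
    (a.trans (e ▸ relIndex_sup_dvd_card (le_normalizer_normal N K)))
  obtain ⟨g, -, hg⟩ := hS'.exists_cj_eq hT
  have a : cj(g, K) ≤ M := h.max _ (hg ▸ cj_mono g hS.le) (lt_top_iff_ne_top.2 fun b =>
    hK.1 (cj_inj.1 (b.trans (cj_top g).symm)))
  have b : cj(g, K ⊔ N) ≤ M := by rw [cj_sup, cj_eq_self_of_normal N]; exact sup_le a h1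
  rw [e, cj_top] at b
  exact h.not_le b

def PMin (p : ℕ) (L : Subgroup G) : Prop := ∃ T L₀, SylIn p T L ∧ MinOver T L L₀

theorem PMin.minOver (h : PMin p L) (hT : SylIn p T L) : ∃ L₀, MinOver T L L₀ := by
  obtain ⟨S, M, a, b⟩ := h
  obtain ⟨g, hg, e⟩ := a.exists_cj_eq hT
  have := b.cj g
  rw [e, cj_eq_self_of_mem hg] at this
  exact ⟨_, this⟩

theorem PMin.minOver_top {M : Subgroup G} (h : PMin p (⊤ : Subgroup G)) (hT : SylIn p T ⊤)
    (hM : IsCoatom M) (h1 : T ≤ M) : MinOver T ⊤ M := by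
  obtain ⟨_, a⟩ := h.minOver hT
  exact IsMinimalOver.minOver a.isMinimalOver hM h1

theorem pMin_top_iff : PMin p (⊤ : Subgroup G) ↔ IsPMinimal p G := by
  refine ⟨fun h S => ?_, fun h => ?_⟩
  · obtain ⟨M, a⟩ := h.minOver (sylIn_top S)
    exact ⟨fun b => a.not_le_normalizer le_rfl a.le (normal_iff_top_le_normalizer.1 b), a.existsUnique⟩
  · obtain ⟨S⟩ := (inferInstance : Nonempty (Sylow p G))
    obtain ⟨a, b⟩ := h S
    obtain ⟨M, c, -⟩ := id b
    exact ⟨S, M, sylIn_top S, (umax_of_existsUnique b c.1 c.2).minOver (sylIn_top S)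
      fun d => a (normal_iff_top_le_normalizer.2 d)⟩

theorem pMin_iff : PMin p L ↔ IsPMinimal p L := by
  rw [← pMin_top_iff]
  refine ⟨fun ⟨T, M, a, b⟩ => ⟨_, _, ?_, b.subgroupOf⟩, fun ⟨T, M, a, b⟩ => ⟨_, _, ?_, b.map_subtype⟩⟩
  · have := a.subgroupOf le_rfl
    rwa [subgroupOf_self] at this
  · have := a.map L.subtype
    rwa [map_subtype_top] at this

theorem PMin.pIrr (h : PMin p L) : PIrr p L := by
  obtain ⟨T, M, a, b⟩ := h
  exact b.pIrr a

theorem PMin.cj (h : PMin p L) (g : G) : PMin p cj(g, L) := by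
  obtain ⟨T, M, a, b⟩ := h
  exact ⟨_, _, a.cj g, b.cj g⟩

theorem PMin.sup_isPGroup (h : PMin p L) {Q : Subgroup G} (hQ : IsPGroup p Q)
    (hn : L ≤ normalizer (Q : Set G)) : PMin p (L ⊔ Q) := by
  obtain ⟨T, M, a, b⟩ := h
  have hTQ : L ⊓ Q ≤ T := (Comp.le_Op inf_le_left (le_normalizer_inf le_normalizer hn)
    (hQ.to_le inf_le_right)).trans a.Op_le
  refine ⟨T ⊔ Q, M ⊔ Q, sylIn_of_not_dvd (sup_le_sup_right a.le _)
    (isPGroup_sup (a.le.trans hn) a.isP hQ) fun hd => a.not_dvd_relIndex ?_,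
    ⟨⟨sup_le_sup_right b.le _, lt_of_le_of_ne (sup_le_sup_right b.lt.le _) fun e => b.not_le ?_,
      fun X c d => ?_⟩, ?_⟩⟩
  · have e1 := relIndex_mul_card (sup_le_sup_right a.le Q)
    have e2 := card_sup_mul_card_inf hn
    have e3 := card_sup_mul_card_inf (a.le.trans hn)
    have e4 := relIndex_mul_card a.le
    have e5 : T ⊓ Q = L ⊓ Q := le_antisymm (inf_le_inf_right _ a.le) (le_inf hTQ inf_le_right)
    rw [e5] at e3
    have : (T ⊔ Q).relIndex (L ⊔ Q) = T.relIndex L := by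
      refine Nat.eq_of_mul_eq_mul_right (Nat.mul_pos (Nat.card_pos (α := T)) (Nat.card_pos (α := Q))) ?_
      rw [← mul_assoc (T.relIndex L), e4, ← e2, ← e1, ← e3, mul_assoc]
    exact this ▸ hd
  · have := sup_inf_of_le_normalizer (b.lt.le.trans hn) b.lt.le
    rw [e, inf_eq_right.2 le_sup_left] at this
    exact this.le.trans (sup_le le_rfl ((inf_comm Q L).le.trans (hTQ.trans b.le)))
  · have e := sup_inf_of_le_normalizer' hn (le_sup_right.trans c)
    rw [sup_comm Q, inf_eq_right.2 d.le] at e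
    refine e.le.trans (sup_le le_sup_right (le_sup_left.trans' (b.max _
      (le_inf a.le (le_sup_left.trans c)) (lt_of_le_of_ne inf_le_left fun e' => d.not_ge ?_))))
    exact sup_le (e'.ge.trans inf_le_right) (le_sup_right.trans c)
  · refine le_antisymm (sup_commutator_le' (sup_le_sup_right a.le _)) (sup_le ?_
      (le_sup_right.trans le_sup_left))
    exact b.gen.ge.trans (sup_le_sup le_sup_left (commutator_mono le_sup_left le_sup_left))

end pmin

/-! ### `O_p = 1` -/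

section opbot

variable {L M Y : Subgroup G}

theorem coprime_Fit (h : Op p M = ⊥) : (Nat.card (Fit M)).Coprime p :=
  coprime_of_forall_isPGroup fun _ a b =>
    le_bot_iff.1 ((le_Op_of_isNilpotent (isNilpotent_Fit M) a b).trans ((Op_Fit M).trans h).le)

theorem Fstar_le_Res (h : Op p M = ⊥) : Fstar M ≤ Res p M :=
  sup_le (le_Res_of_perfect (Lay_perfect M) (Lay_le M)) (le_Res (Fit_le M) (coprime_Fit h))

theorem eq_bot_of_le_centralizer_Fstar (h : Op p M = ⊥) (hY : IsPGroup p Y) (h1 : Y ≤ M)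
    (h2 : Y ≤ centralizer (Fstar M : Set G)) : Y = ⊥ :=
  eq_bot_of_isPGroup_of_coprime hY
    ((coprime_Fit h).coprime_dvd_left (card_dvd_of_le (le_Fit_of_le_centralizer_Fstar h1 h2)))

theorem commutator_sup_centralizer_of_Fstar (h : Fstar L = L) (hO : Op p L = ⊥) (hY : IsPGroup p Y)
    (hn : Y ≤ normalizer (L : Set G)) : ⁅L, Y⁆ ⊔ (L ⊓ centralizer (Y : Set G)) = L := by
  refine le_antisymm (sup_le (commutator_le_left_of_le_normalizer hn) inf_le_left)
    (h.ge.trans (sup_le (Lay_le_iff.2 fun K hK => ?_) ?_))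
  · have hK' : CompIn K (L ⊔ Y) := hK.trans (.of_normalizer le_sup_left (sup_le le_normalizer hn))
    rcases hK'.le_commutator_or le_sup_right with a | a
    · exact (a.trans (commutator_mono hK.le le_rfl)).trans le_sup_left
    · exact (le_inf hK.le (commutator_eq_bot_iff_le_centralizer.1 a)).trans le_sup_right
  · exact (Solv.coprime_commutator_sup_centralizer (le_normalizer_Fit hn)
      (coprime_card_of_isPGroup hY (coprime_Fit hO)) (Or.inl (isSolvable_of_isPGroup hY))).ge.trans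
      (sup_le_sup (commutator_mono (Fit_le L) le_rfl) (inf_le_inf_right _ (Fit_le L)))

theorem commutator_commutator_of_Fstar (h : Fstar L = L) (hO : Op p L = ⊥) (hY : IsPGroup p Y)
    (hn : Y ≤ normalizer (L : Set G)) : ⁅⁅L, Y⁆, Y⁆ = ⁅L, Y⁆ :=
  (Solv.commutator_eq_of_sup_centralizer (le_sup_left.trans (sup_le_normalizer_commutator _ _))
    (commutator_sup_centralizer_of_Fstar h hO hY hn)).symm

theorem SubnIn.Fstar_eq_self (h : SubnIn L M) (h1 : L ≤ Fstar M) : Fstar L = L := by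
  rw [Fstar_eq_inf_of_subnIn h, inf_eq_right.2 h1]

theorem SubnIn.Op_eq_bot (h : SubnIn L M) (h1 : Op p M = ⊥) : Op p L = ⊥ :=
  le_bot_iff.1 ((h.Op_le p).trans h1.le)

theorem commutator_eq_bot_of_quad_of_Op (hO : Op p L = ⊥) (hY : IsPGroup p Y)
    (hn : Y ≤ normalizer (L : Set G)) (hq : ⁅⁅L, Y⁆, Y⁆ = ⊥) : ⁅L, Y⁆ = ⊥ := by
  have a : ⁅L, Y⁆ ≤ L := commutator_le_left_of_le_normalizer hn
  have s : SubnIn Y (L ⊔ Y) := by
    refine .step _ (Y ⊔ ⁅Y, L⁆) _ le_sup_left (sup_le le_normalizer ?_) (.of_normalizer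
      (sup_le le_sup_right ((commutator_comm _ _).le.trans (a.trans le_sup_left)))
      (sup_le (le_normalizer_sup_commutator _ _) (le_sup_left.trans le_normalizer)))
    rw [commutator_comm]
    exact le_normalizer_of_le_centralizer (commutator_eq_bot_iff_le_centralizer.1 hq)
  have b : ⁅L, Y⁆ ≤ Op p (L ⊔ Y) := (commutator_mono le_rfl (s.le_Op hY)).trans
    (commutator_le_right_of_le_normalizer (le_normalizer_Op_of_le le_sup_left))
  exact le_bot_iff.1 ((le_inf b a).trans ((Op_inf_le le_sup_left).trans hO.le))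

/-- Coprime action on an abelian section. -/
theorem inf_centralizer_le_of_coprime_section {A V N : Subgroup G} (hA : A ≤ normalizer (V : Set G))
    (hAN : A ≤ normalizer (N : Set G)) (h1 : N ≤ V) (h2 : ⁅V, V⁆ ≤ N)
    (hc : (Nat.card A).Coprime (N.relIndex V)) :
    (⁅V, A⁆ ⊔ N) ⊓ centralizer (A : Set G) ≤ N := by
  have hVN : V ≤ normalizer (N : Set G) := le_normalizer_of_commutator_le h1 h2
  let K := normalizer (N : Set G)
  have : (N.subgroupOf K).Normal := normal_in_normalizer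
  let f := QuotientGroup.mk' (N.subgroupOf K)
  have hk : f.ker = N.subgroupOf K := QuotientGroup.ker_mk' _
  have i := K.subtype_injective
  have a1 : A.subgroupOf K ≤ normalizer (V.subgroupOf K : Set K) := by
    rw [← map_le_normalizer_map_iff i, map_subgroupOf_eq_of_le hAN, map_subgroupOf_eq_of_le hVN]
    exact hA
  have a2 : ((V.subgroupOf K).map f) ≤ centralizer ((V.subgroupOf K).map f : Set _) := by
    rw [← commutator_eq_bot_iff_le_centralizer, map_eq_bot_iff_le_ker', hk, ← map_subtype_le_iff,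
      map_commutator, map_subgroupOf_eq_of_le hVN]
    exact h2
  have a3 : Nat.card ((V.subgroupOf K).map f) = N.relIndex V := by
    rw [← relIndex_ker, hk, relIndex_subgroupOf hVN]
  have := Solv.coprime_abelian_inf_eq_bot (isMulCommutative_iff_le.2 a2) (map_le_normalizer_map f a1)
    (a3 ▸ hc.coprime_dvd_left ((card_map_dvd _ f).trans (card_subgroupOf hAN).dvd))
  have b : ⁅V, A⁆ ⊔ N ≤ V := sup_le (commutator_le_left_of_le_normalizer hA) h1
  intro x hx
  obtain ⟨hx1, hx2⟩ := mem_inf.1 hx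
  have hxK : x ∈ K := hVN (b hx1)
  have c : f ⟨x, hxK⟩ ∈ (⊥ : Subgroup (K ⧸ N.subgroupOf K)) := by
    rw [← this]
    refine mem_inf.2 ⟨mem_inf.2 ⟨mem_map_of_mem f (b hx1), ?_⟩, ?_⟩
    · rintro _ ⟨y, hy, rfl⟩
      rw [← map_mul, ← map_mul]
      congr 1
      exact Subtype.ext (hx2 _ hy)
    · have d : (⟨x, hxK⟩ : K) ∈ ⁅V.subgroupOf K, A.subgroupOf K⁆ ⊔ N.subgroupOf K := by
        rw [← mem_map_iff_mem i, Subgroup.map_sup, map_commutator, map_subgroupOf_eq_of_le hVN,
          map_subgroupOf_eq_of_le hAN, map_subgroupOf_eq_of_le le_normalizer]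
        exact hx1
      have := mem_map_of_mem f d
      rwa [Subgroup.map_sup, (Subgroup.map_eq_bot_iff _).2 hk.ge, sup_bot_eq, map_commutator] at this
  rw [mem_bot, ← MonoidHom.mem_ker, hk] at c
  exact c

end opbot

end Cfsg.Agent.Comp
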