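/-
Weakly closed and large `p`-subgroups, the families `𝔐` and `ℌ` of the local structure theorem.
-/
import Cfsg.Agent.Lib.Comp.PMin

set_option autoImplicit false
set_option linter.unusedSectionVars false

namespace Cfsg.Agent.Comp

open Subgroup
open scoped commutatorElement

universe u

section general

variable {G : Type*} [Group G]

theorem sup_commutator_sup_self (Q N : Subgroup G) : Q ⊔ ⁅Q, Q ⊔ N⁆ = Q ⊔ ⁅Q, N⁆ :=
  le_antisymm (sup_commutator_le le_sup_left (sup_le (le_sup_left.trans le_normalizer)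
    (le_normalizer_sup_commutator _ _))) (sup_le_sup_left (commutator_mono le_rfl le_sup_right) _)

theorem sup_commutator_le_of_forall {A M X : Subgroup G} (h : ∀ g ∈ M, cj(g, A) ≤ X) :
    A ⊔ ⁅A, M⁆ ≤ X := by
  rw [sup_commutator_eq_iSup]; exact iSup_le fun g => h g g.2

theorem isElementaryAbelian_iSup {p : ℕ} {ι : Sort*} {A : ι → Subgroup G}
    (h1 : ∀ i, ∀ x ∈ A i, x ^ p = 1) (h2 : ∀ i j, A i ≤ centralizer (A j : Set G)) :
    IsElementaryAbelian p (⨆ i, A i) := by
  have c : (⨆ i, A i) ≤ centralizer ((⨆ i, A i : Subgroup G) : Set G) :=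
    iSup_le fun i => le_centralizer_iff.1 (iSup_le fun j => h2 j i)
  exact IsElementaryAbelian.of_le (isElementaryAbelian_omegaOne c)
    (iSup_le fun i => le_omegaOne (le_iSup A i) (h1 i))

/-- The standard amalgam argument, without graphs. -/
theorem amalgam_closure {ι : Type*} {P Q Z : ι → Subgroup G} (hQ : ∀ i j, Q i ≤ P j)
    (hn : ∀ i, P i ≤ normalizer (Q i : Set G)) (h0 : ∀ i, Z i ≤ Q i)
    (step : ∀ i j g, cj(g, Z i) ≤ P j → cj(g⁻¹, Z j) ≤ P i → cj(g, Z i) ≤ Q j) {g : G}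
    (hg : g ∈ ⨆ i, P i) (i j : ι) : cj(g, Z i) ≤ Q j := by
  have key : ∀ (n : ℕ) (l : List G), l.length = n → (∀ x ∈ l, ∃ k, x ∈ P k) →
      ∀ i j, cj(l.prod, Z i) ≤ Q j := by
    intro n
    induction n with
    | zero =>
      intro l a _ i j
      rw [List.length_eq_zero_iff.1 a, List.prod_nil]
      exact step i j 1 (by rw [cj_one]; exact (h0 i).trans (hQ i j))
        (by rw [inv_one, cj_one]; exact (h0 j).trans (hQ j i))
    | succ n ih =>
      have k : ∀ l : List G, l.length = n + 1 → (∀ x ∈ l, ∃ k, x ∈ P k) →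
          ∀ i j, cj(l.prod, Z i) ≤ P j := by
        intro l a b i j
        obtain ⟨x, l, rfl⟩ := List.exists_cons_of_length_eq_add_one a
        obtain ⟨k, hk⟩ := b x List.mem_cons_self
        rw [List.prod_cons, cj_mul]
        exact (cj_le_of_mem (ih l (by simpa using a) (fun y hy => b y (List.mem_cons_of_mem _ hy)) i k)
          (hn k hk)).trans (hQ k j)
      intro l a b i j
      refine step i j _ (k l a b i j) ?_
      rw [List.prod_inv_reverse]
      refine k _ (by simpa using a) (fun x hx => ?_) j i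
      obtain ⟨y, hy, rfl⟩ := List.mem_map.1 (List.mem_reverse.1 hx)
      obtain ⟨k, hk⟩ := b y hy
      exact ⟨k, inv_mem hk⟩
  rw [iSup_eq_closure, ← mem_toSubmonoid, closure_toSubmonoid] at hg
  obtain ⟨l, a, rfl⟩ := Submonoid.exists_list_of_mem_closure hg
  refine key _ l rfl (fun x hx => ?_) i j
  rcases a x hx with b | b
  · exact Set.mem_iUnion.1 b
  · obtain ⟨k, hk⟩ := Set.mem_iUnion.1 (Set.mem_inv.1 b)
    exact ⟨k, inv_mem_iff.1 hk⟩

theorem le_weakClosure {Q L : Subgroup G} {g : G} (h : cj(g, Q) ≤ L) :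
    cj(g, Q) ≤ weakClosure Q L :=
  le_iSup (fun g : {g : G // cj(g, Q) ≤ L} => cj((g : G), Q)) ⟨g, h⟩

theorem weakClosure_le_iff {Q L X : Subgroup G} :
    weakClosure Q L ≤ X ↔ ∀ g, cj(g, Q) ≤ L → cj(g, Q) ≤ X :=
  ⟨fun h _ a => (le_weakClosure a).trans h, fun h => iSup_le fun g => h g g.2⟩

theorem weakClosure_le (Q L : Subgroup G) : weakClosure Q L ≤ L := weakClosure_le_iff.2 fun _ h => h

theorem weakClosure_mono {Q L M : Subgroup G} (h : L ≤ M) : weakClosure Q L ≤ weakClosure Q M :=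
  weakClosure_le_iff.2 fun _ a => le_weakClosure (a.trans h)

theorem le_normalizer_weakClosure {A Q L : Subgroup G} (h : A ≤ normalizer (L : Set G)) :
    A ≤ normalizer (weakClosure Q L : Set G) :=
  le_normalizer_of_cj_le fun g hg => cj_le_iff.2 (weakClosure_le_iff.2 fun x a => cj_le_iff.1 (by
    rw [← cj_mul]
    exact le_weakClosure (by rw [cj_mul]; exact cj_le_of_mem a (h hg))))

theorem subnormalClosure_le {A X : Subgroup G} (h1 : A ≤ X) (h2 : SubnIn X ⊤) :
    subnormalClosure A ≤ X := sInf_le ⟨h1, h2.isSubnormal⟩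

theorem IsLarge.cj {Q : Subgroup G} (h : IsLarge Q) (g : G) : IsLarge cj(g, Q) := by
  refine ⟨by rw [← cj_centralizer]; exact cj_mono g h.1, fun U a b => ?_⟩
  rw [← cj_centralizer, le_cj_iff] at a
  have := h.2 _ a fun c => b (cj_eq_bot_iff.1 c)
  rwa [← cj_normalizer, ← le_cj_iff, cj_normalizer] at this

theorem IsLarge.centralizer_singleton_le {Q : Subgroup G} (h : IsLarge Q) {y : G} (h1 : y ≠ 1)
    (h2 : y ∈ centralizer (Q : Set G)) : centralizer ({y} : Set G) ≤ normalizer (Q : Set G) := by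
  rw [← centralizer_zpowers]
  exact (centralizer_le_normalizer _).trans
    (h.2 _ (zpowers_le.2 h2) fun a => h1 (zpowers_eq_bot.1 a))

theorem isQuasisimple_quotient_of_ker {Y : Type*} [Group Y] (g : G →* Y) (N : Subgroup G) [N.Normal]
    (hk : g.ker = N) (h : QS g.range) : IsQuasisimple (G ⧸ N) :=
  isQuasisimple_congr ((QuotientGroup.quotientMulEquivOfEq hk.symm).trans
    (QuotientGroup.quotientKerEquivRange g)).symm h.isQuasisimple

end general

variable {G : Type u} [Group G] [Finite G] {p : ℕ} [hp : Fact p.Prime]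

theorem sup_Res_eq_of_closure {Q A : Subgroup G} (h : Q ⊔ ⁅Q, A⁆ = A) : Q ⊔ Res p A = A := by
  have h1 : Q ≤ A := le_sup_left.trans h.le
  have s : SubnIn (Q ⊔ Res p A) A := subnIn_of_Res_le le_sup_right (sup_le h1 (ResPi_le _ _))
  by_contra hn
  exact (s.sup_commutator_lt hn).not_ge
    (h.ge.trans (sup_le_sup le_sup_left (commutator_mono le_sup_left le_rfl)))

theorem commutator_Res_of_closure {Q A : Subgroup G} (hQ : IsPGroup p Q) (h : Q ⊔ ⁅Q, A⁆ = A) :
    ⁅Res p A, Q⁆ = Res p A := by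
  have h1 : Q ≤ A := le_sup_left.trans h.le
  refine le_antisymm (commutator_le_left_of_le_normalizer (le_normalizer_ResPi
    (h1.trans le_normalizer))) (Res_le_of_le_sup ?_
    (le_sup_right.trans (sup_le_normalizer_commutator _ _)) hQ)
  rw [sup_comm, commutator_comm, ← sup_commutator_sup_self, sup_Res_eq_of_closure h, h]

theorem eq_bot_of_Fstar_le_normalizer {M D : Subgroup G} (h : Op p M = ⊥) (hD : IsPGroup p D)
    (h1 : D ≤ M) (h2 : Fstar M ≤ normalizer (D : Set G)) : D = ⊥ := by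
  refine eq_bot_of_le_centralizer_Fstar h hD h1 (commutator_eq_bot_iff_le_centralizer.1
    (le_bot_iff.1 ((le_inf (commutator_le_left_of_le_normalizer h2)
    (commutator_le_right_of_le_normalizer (h1.trans (le_normalizer_Fstar_self M)))).trans ?_)))
  exact (Comp.le_Op inf_le_right (le_normalizer_inf h2 le_normalizer) (hD.to_le inf_le_left)).trans
    ((Fstar_subnIn M).Op_eq_bot h).le

theorem PIrr.sup_isPGroup {H Q : Subgroup G} (h : PIrr p H) (hQ : IsPGroup p Q)
    (hn : H ≤ normalizer (Q : Set G)) : PIrr p (H ⊔ Q) := by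
  refine ⟨fun a => h.not_closed (a.of_le le_sup_left), fun N a b c => ?_⟩
  have n : H ⊔ Q ≤ normalizer (Q : Set G) := sup_le hn le_normalizer
  have e : H ⊓ (N ⊔ Q) ⊔ Q = N ⊔ Q := by
    rw [sup_comm, ← sup_inf_of_le_normalizer' hn le_sup_right, sup_comm Q,
      inf_eq_right.2 (sup_le a le_sup_right)]
  have d : Res p H ≤ N := Res_le_of_le_sup' ((h.res_le _ inf_le_left (le_normalizer_inf le_normalizer
    (le_normalizer_sup (le_sup_left.trans b) hn)) fun d =>
    c ((e ▸ d.sup_Op hQ (inf_le_left.trans hn)).of_le le_sup_left)).trans inf_le_right)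
    (le_sup_right.trans b) hQ
  obtain ⟨T, hT⟩ := exists_sylIn p H
  refine Res_le_of_le_sup (R := T ⊔ Q) (sup_le (le_of_Res_le_of_sylIn hT (d.trans le_sup_left)
    (le_sup_left.trans le_sup_right)) (le_sup_right.trans le_sup_right))
    ((sup_le_sup_right hT.le _).trans b) (isPGroup_sup (hT.le.trans hn) hT.isP hQ)

theorem Res_le_centralizer_of_commutator_le_Phi {A X : Subgroup G} (hA : IsPGroup p A)
    (hn : X ≤ normalizer (A : Set G)) (h : ⁅A, X⁆ ≤ Phi A) : Res p X ≤ centralizer (A : Set G) :=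
  Res_le_of_forall_coprime fun R a b => Solv.coprime_frattini_le_centralizer
    (coprime_card_of_isPGroup (G := A) (hA.to_subgroup _) b).symm
    ((commutator_mono le_rfl a).trans h) (a.trans hn)

theorem SylIn.of_parabolic {S T H K : Subgroup G} (hS : SylIn p S H) (h1 : S ≤ K) (h2 : K ≤ H)
    (hT : SylIn p T K) : SylIn p T H := hT.trans_of_not_dvd h2 (hS.not_dvd_relIndex_of_le h1 h2)

theorem isParabolic_subgroupOf {S L K : Subgroup G} (hS : SylIn p S L) (h : S ≤ K) :
    IsParabolic p (K.subgroupOf L) := ⟨hS.toSylow, comap_mono h⟩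

/-! ### weakly closed subgroups -/

structure WC (p : ℕ) (Q : Subgroup G) : Prop where
  isP : IsPGroup p Q
  eq : ∀ g, IsPGroup p (Q ⊔ cj(g, Q) : Subgroup G) → cj(g, Q) = Q

section wc

variable {Q R K L N : Subgroup G}

theorem WC.cj_eq (h : WC p Q) (hR : IsPGroup p R) (h1 : Q ≤ R) {g : G} (h2 : cj(g, Q) ≤ R) :
    cj(g, Q) = Q := h.eq g (hR.to_le (sup_le h1 h2))

theorem wc_iff : WC p Q ↔ IsWeaklyClosedSubgroup p Q := by
  refine ⟨fun h => ?_, fun ⟨T, a, b⟩ => ⟨T.isPGroup'.to_le a, fun g c => ?_⟩⟩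
  · obtain ⟨T, a⟩ := h.isP.exists_le_sylow
    exact ⟨T, a, fun g b => h.cj_eq T.isPGroup' a b⟩
  · obtain ⟨x, -, d⟩ := (sylIn_top T).exists_cj_le c le_top
    rw [cj_sup, ← cj_mul] at d
    have e1 := b x (le_sup_left.trans d)
    have e2 := b (x * g) (le_sup_right.trans d)
    rw [cj_mul] at e2
    exact cj_inj.1 (e2.trans e1.symm)

theorem WC.normalizer_le (h : WC p Q) (hR : IsPGroup p R) (h1 : Q ≤ R) :
    normalizer (R : Set G) ≤ normalizer (Q : Set G) := fun _ hg =>
  cj_eq_self_iff.1 (h.cj_eq hR h1 (cj_le_of_mem h1 hg))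

theorem WC.le_normalizer (h : WC p Q) (hR : IsPGroup p R) (h1 : Q ≤ R) :
    R ≤ normalizer (Q : Set G) := Subgroup.le_normalizer.trans (h.normalizer_le hR h1)

theorem WC.le_normalizer_of_le_normalizer (h : WC p Q) (hR : IsPGroup p R)
    (h1 : Q ≤ normalizer (R : Set G)) : R ≤ normalizer (Q : Set G) :=
  le_sup_right.trans (h.le_normalizer (isPGroup_sup h1 h.isP hR) le_sup_left)

theorem WC.Op_le_normalizer (h : WC p Q) (h1 : Q ≤ K) : Op p K ≤ normalizer (Q : Set G) :=
  h.le_normalizer_of_le_normalizer (isPGroup_Op p K) (le_normalizer_Op_of_le h1)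

theorem WC.eq_of_le_normalizer (h : WC p Q) {g : G} (h1 : cj(g, Q) ≤ normalizer (Q : Set G)) :
    cj(g, Q) = Q := h.eq g (isPGroup_sup' h1 h.isP (isPGroup_cj_iff.2 h.isP))

theorem wc_of_normalizer_le (hQ : IsPGroup p Q)
    (h : ∀ R : Subgroup G, IsPGroup p R → Q ≤ R → normalizer (R : Set G) ≤ normalizer (Q : Set G)) :
    WC p Q := by
  refine ⟨hQ, fun g a => ?_⟩
  obtain ⟨T, b, c⟩ := exists_sylIn_ge a le_top
  have d := c.cj_of_mem (le_normalizer (mem_top g⁻¹))
  have e : Q ≤ cj(g⁻¹, T) := cj_le_iff.1 (le_sup_right.trans b)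
  obtain ⟨n, hn, f⟩ := (c.of_le (le_normalizer.trans (h T c.isP (le_sup_left.trans b))) le_top).exists_cj_eq
    (d.of_le (le_normalizer.trans (h _ d.isP e)) le_top)
  have : g * n ∈ normalizer (Q : Set G) := h T c.isP (le_sup_left.trans b)
    (cj_eq_self_iff.1 (by rw [cj_mul, f, cj_cj_inv]))
  exact cj_eq_self_iff.2 ((mul_mem_cancel_right hn).1 this)

theorem wc_of_forall (hQ : IsPGroup p Q) (h : ∀ g, cj(g, Q) ≤ normalizer (Q : Set G) →
    Q ≤ normalizer (cj(g, Q) : Set G) → cj(g, Q) = Q) : WC p Q := by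
  have k : ∀ R g, Q ≤ R → R ≤ normalizer (Q : Set G) → g ∈ normalizer (R : Set G) →
      g ∈ normalizer (Q : Set G) := fun R g a b c => cj_eq_self_iff.1 (h g
    ((cj_le_of_mem a c).trans b) (by
      rw [← cj_normalizer]; exact le_cj_iff.2 ((cj_le_of_mem a (inv_mem c)).trans b)))
  refine wc_of_normalizer_le hQ fun R a b g c => k R g b (by_contra fun d => ?_) c
  have := lt_inf_normalizer_of_isPGroup a (lt_of_le_of_ne (inf_le_left : R ⊓ normalizer (Q : Set G) ≤ R)
    fun e => d (e.ge.trans inf_le_right))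
  exact this.not_ge (le_inf inf_le_left fun x hx =>
    k _ x (le_inf b le_normalizer) inf_le_right (mem_inf.1 hx).2)

theorem WC.exists_cj_eq (h : WC p Q) (h1 : Q ≤ K) {g : G} (h2 : cj(g, Q) ≤ K) :
    ∃ k ∈ K, cj(g, Q) = cj(k, Q) := by
  obtain ⟨T, a, b⟩ := exists_sylIn_ge h.isP h1
  obtain ⟨k, c, d⟩ := b.exists_cj_le (isPGroup_cj_iff.2 h.isP) h2
  rw [← cj_mul] at d
  refine ⟨k⁻¹, inv_mem c, ?_⟩
  conv_rhs => rw [← h.cj_eq b.isP a d, cj_mul, cj_inv_cj]

theorem WC.mem_mul (h : WC p Q) (h1 : Q ≤ K) {g : G} (h2 : cj(g, Q) ≤ K) :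
    ∃ k ∈ K, k⁻¹ * g ∈ normalizer (Q : Set G) := by
  obtain ⟨k, a, b⟩ := h.exists_cj_eq h1 h2
  exact ⟨k, a, cj_eq_self_iff.1 (by rw [cj_mul, b, cj_inv_cj])⟩

theorem WC.frattini (h : WC p Q) (h1 : Q ≤ N) (h2 : N ≤ K) (h3 : K ≤ normalizer (N : Set G)) :
    N ⊔ (K ⊓ normalizer (Q : Set G)) = K := by
  refine le_antisymm (sup_le h2 inf_le_left) fun g hg => ?_
  obtain ⟨k, a, b⟩ := h.mem_mul h1 (cj_le_of_mem h1 (h3 hg))
  rw [← mul_inv_cancel_left k g]
  exact mul_mem_sup a (mem_inf.2 ⟨mul_mem (inv_mem (h2 a)) hg, b⟩)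

theorem WC.cj (h : WC p Q) (g : G) : WC p cj(g, Q) :=
  ⟨isPGroup_cj_iff.2 h.isP, fun x a => by
    have := h.eq (g⁻¹ * x * g) (by
      rw [← isPGroup_cj_iff (g := g), cj_sup, ← cj_mul, ← mul_assoc, mul_inv_cancel_left, cj_mul]
      exact a)
    rw [← cj_mul]
    conv_rhs => rw [← this, ← cj_mul, ← mul_assoc, mul_inv_cancel_left]⟩

theorem wc_subgroupOf (h1 : Q ≤ K) (hQ : IsPGroup p Q)
    (h : ∀ g ∈ K, IsPGroup p (Q ⊔ cj(g, Q) : Subgroup G) → cj(g, Q) = Q) :
    WC p (Q.subgroupOf K) := by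
  refine ⟨hQ.comap_subtype, fun g a => map_injective K.subtype_injective ?_⟩
  rw [← isPGroup_map_subtype_iff, Subgroup.map_sup, map_cj, map_subgroupOf_eq_of_le h1] at a
  rw [map_cj, map_subgroupOf_eq_of_le h1]
  exact h g g.2 a

theorem WC.subgroupOf (h : WC p Q) (h1 : Q ≤ K) : WC p (Q.subgroupOf K) :=
  wc_subgroupOf h1 h.isP fun g _ => h.eq g

theorem WC.map {G' : Type u} [Group G'] [Finite G'] {f : G →* G'} (hf : Function.Surjective f)
    (h : WC p Q) : WC p (Q.map f) := by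
  refine ⟨h.isP.map f, fun g a => ?_⟩
  obtain ⟨g, rfl⟩ := hf g
  rw [← map_cj, ← Subgroup.map_sup] at a
  obtain ⟨x, b, c⟩ := h.exists_cj_eq (le_sup_left : Q ≤ Q ⊔ cj(g, Q)) le_sup_right
  obtain ⟨T, d, e⟩ := exists_sylIn_ge h.isP (le_sup_left : Q ≤ Q ⊔ cj(g, Q))
  have e' := (e.map f).max _ a (map_mono e.le) le_rfl
  rw [← map_cj, c, map_cj]
  exact cj_eq_self_iff.2 (map_le_normalizer_map f (h.le_normalizer e.isP d)
    (e' ▸ mem_map_of_mem f b))

theorem WC.weakClosure_eq (h : WC p Q) (h1 : Q ≤ K) : weakClosure Q K = Q ⊔ ⁅Q, K⁆ := by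
  refine le_antisymm (weakClosure_le_iff.2 fun g a => ?_) (sup_commutator_le_of_forall fun g hg =>
    le_weakClosure (cj_le_of_mem h1 (Subgroup.le_normalizer hg)))
  obtain ⟨k, b, c⟩ := h.exists_cj_eq h1 a
  exact c ▸ cj_le_sup_commutator b

theorem WC.closure_le_of_subnIn (h : WC p Q) {X : Subgroup G} (hX : SubnIn X K) (h1 : Q ≤ X) :
    Q ⊔ ⁅Q, K⁆ ≤ X := by
  induction hX with
  | refl => exact sup_commutator_le' h1
  | step X Y K a b c ih =>
    refine sup_commutator_le_of_forall fun g hg => ?_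
    obtain ⟨y, d, e⟩ := h.exists_cj_eq (h1.trans a) ((cj_le_sup_commutator hg).trans (ih (h1.trans a)))
    exact e ▸ cj_le_of_mem h1 (b d)

theorem WC.closure_closure (h : WC p Q) (h1 : Q ≤ K) : Q ⊔ ⁅Q, Q ⊔ ⁅Q, K⁆⁆ = Q ⊔ ⁅Q, K⁆ :=
  le_antisymm (sup_commutator_le' le_sup_left) (h.closure_le_of_subnIn
    ((SubnIn.of_normalizer (sup_commutator_le' le_sup_left) (le_normalizer_sup_commutator _ _)).trans
    (.of_normalizer (sup_commutator_le' h1) (le_normalizer_sup_commutator _ _))) le_sup_left)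

theorem WC.sup_commutator_commutator (h : WC p Q) (N : Subgroup G) :
    Q ⊔ ⁅Q, ⁅Q, N⁆⁆ = Q ⊔ ⁅Q, N⁆ := by
  have := h.closure_closure (le_sup_left : Q ≤ Q ⊔ N)
  rwa [sup_commutator_sup_self Q N, sup_commutator_sup_self] at this

theorem WC.inf_normalizer_sup_Res (h : WC p Q) (hn : Q ≤ normalizer (N : Set G)) :
    (N ⊓ normalizer (Q : Set G)) ⊔ Res p N = N := by
  obtain ⟨T, a, b⟩ := exists_sylIn_ge h.isP (le_sup_left : Q ≤ Q ⊔ N)
  exact le_antisymm (sup_le inf_le_left (ResPi_le _ _)) (le_of_Res_le_of_sylIn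
    (b.inf_normal le_sup_right (b.le.trans (sup_le hn Subgroup.le_normalizer))) le_sup_right
    ((le_inf inf_le_right (inf_le_left.trans (h.le_normalizer b.isP a))).trans le_sup_left))

theorem WC.inf_normalizer_sup_commutator (h : WC p Q) (hn : Q ≤ normalizer (N : Set G)) :
    (N ⊓ normalizer (Q : Set G)) ⊔ ⁅N, Q⁆ = N := by
  have a := commutator_le_left_of_le_normalizer hn
  refine le_antisymm (sup_le inf_le_left a) fun g hg => ?_
  obtain ⟨k, b, c⟩ := h.mem_mul le_sup_left (cj_le_sup_commutator (A := Q) hg)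
  rw [commutator_comm, sup_comm] at b
  obtain ⟨x, d, y, e, rfl⟩ := (mem_sup_of_le_normalizer' (le_sup_right.trans
    (sup_le_normalizer_commutator _ _))).1 b
  rw [← mul_inv_cancel_left x g]
  refine mul_mem (mem_sup_right d) (mem_sup_left (mem_inf.2 ⟨mul_mem (inv_mem (a d)) hg, ?_⟩))
  have := mul_mem (Subgroup.le_normalizer e) c
  rwa [mul_inv_rev, mul_assoc, mul_inv_cancel_left] at this

/-- A subgroup normalizing all `K`-conjugates of `Q` acts trivially on `⟨Q^K⟩` modulo `O_p`. -/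
theorem commutator_closure_le_of_normalizes {D : Subgroup G} (hQ : IsPGroup p Q) (h1 : Q ≤ K)
    (hD : K ≤ normalizer (D : Set G)) (h : D ≤ normalizer (Q : Set G)) :
    ⁅Q ⊔ ⁅Q, K⁆, D⁆ ≤ Op p D ⊓ (Q ⊔ ⁅Q, K⁆) := by
  have n : K ≤ normalizer ((Op p D ⊓ (Q ⊔ ⁅Q, K⁆) : Subgroup G) : Set G) :=
    le_normalizer_inf (le_normalizer_Op hD) (le_normalizer_sup_commutator _ _)
  refine (le_actKer_iff.1 (sup_commutator_le (le_actKer_iff.2 ⟨h1.trans n, ?_⟩)
    (le_normalizer_actKer n hD))).2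
  refine (le_inf (commutator_le_left_of_le_normalizer h)
    (commutator_le_right_of_le_normalizer (h1.trans hD))).trans (le_inf (Comp.le_Op inf_le_right
    (le_normalizer_inf h le_normalizer) (hQ.to_le inf_le_left)) (inf_le_left.trans le_sup_left))

theorem WC.charP_aux (h : WC p Q) (hC : centralizer (Q : Set G) ≤ Q) (hK : CharP p K) (h1 : Q ≤ L)
    (h2 : L ≤ K) : ⁅Q, K ⊓ centralizer (Op p L : Set G)⁆ ≤ Q ⊓ Op p L ∧
      IsPGroup p (K ⊓ centralizer (Op p L : Set G) : Subgroup G) := by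
  set D := K ⊓ centralizer (Op p L : Set G) with hD
  have nD : L ≤ normalizer (D : Set G) := le_normalizer_inf (h2.trans Subgroup.le_normalizer)
    (le_normalizer_centralizer (le_normalizer_Op_of_le le_rfl))
  have nO : K ≤ normalizer (Op p K : Set G) := le_normalizer_Op_of_le le_rfl
  have a1 : ⁅Q, Op p K⁆ ≤ Op p L := (le_inf (commutator_le_right_of_le_normalizer
    ((h1.trans h2).trans nO)) ((commutator_le_left_of_le_normalizer
    (h.Op_le_normalizer (h1.trans h2))).trans h1)).trans (Op_inf_le h2)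
  have a2 : D ≤ centralizer ((⁅Q, Op p K⁆ : Subgroup G) : Set G) :=
    inf_le_right.trans (centralizer_mono a1)
  have a3 : ⁅Q, D⁆ ≤ D := commutator_le_right_of_le_normalizer (h1.trans nD)
  have a4 : ⁅Q ⊔ ⁅Q, D⁆, Op p K⁆ ≤ ⁅Q, Op p K⁆ := (le_actKer_iff.1 (sup_commutator_le
    (le_actKer_iff.2 ⟨le_sup_left.trans (sup_le_normalizer_commutator _ _), le_rfl⟩)
    (le_normalizer_actKer (le_normalizer_of_le_centralizer a2) (inf_le_left.trans nO)))).2
  have a5 : IsPGroup p (⁅Q, D⁆ : Subgroup G) := by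
    have b : Res p ⁅Q, D⁆ ≤ centralizer (Op p K : Set G) := by
      refine Res_le_centralizer_of_quad (isPGroup_Op p K) (a3.trans (inf_le_left.trans nO))
        (le_bot_iff.1 ((commutator_mono ((commutator_comm _ _).le.trans
        ((commutator_mono le_sup_right le_rfl).trans a4)) a3).trans (commutator_eq_bot_iff'.2 a2).le))
    have c := hK.le_Op ((ResPi_le _ _).trans (a3.trans inf_le_left)) b
    exact Res_eq_bot_iff.1 ((Res_Res _).symm.trans (Res_eq_bot_iff.2 ((isPGroup_Op p K).to_le c)))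
  have a6 : D ≤ normalizer (Q : Set G) := (le_normalizer_sup_commutator _ _).trans (h.normalizer_le
    (isPGroup_sup (le_sup_left.trans (sup_le_normalizer_commutator _ _)) h.isP a5) le_sup_left)
  have a7 : ⁅Q, D⁆ ≤ Op p L := by
    refine ((commutator_mono le_sup_left le_rfl).trans
      (commutator_closure_le_of_normalizes h.isP h1 nD a6)).trans ?_
    exact Comp.le_Op (inf_le_right.trans (sup_commutator_le' h1)) (le_normalizer_inf
      (le_normalizer_Op nD) (le_normalizer_sup_commutator _ _)) ((isPGroup_Op p D).to_le inf_le_left)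
  refine ⟨le_inf (commutator_le_left_of_le_normalizer a6) a7, ?_⟩
  have b : Res p D ≤ Q := (Res_le_centralizer_of_quad h.isP a6 (commutator_eq_bot_iff'.2
    (inf_le_right.trans (centralizer_mono a7)))).trans hC
  exact Res_eq_bot_iff.1 ((Res_Res _).symm.trans (Res_eq_bot_iff.2 (h.isP.to_le b)))

theorem WC.charP (h : WC p Q) (hC : centralizer (Q : Set G) ≤ Q) (hK : CharP p K) (h1 : Q ≤ L)
    (h2 : L ≤ K) : CharP p L :=
  charP_of_isPGroup_centralizer le_rfl ((h.charP_aux hC hK h1 h2).2.to_le (inf_le_inf_right _ h2))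

theorem WC.charP_aux' (h : WC p Q) (hC : centralizer (Q : Set G) ≤ Q) (h1 : Q ≤ L) {y : G}
    (hy : y ∈ Op p L) (hc : CharP p (centralizer ({y} : Set G))) :
    ⁅Q, centralizer (Op p L : Set G)⁆ ≤ Q ⊓ Op p L ∧
      IsPGroup p (centralizer (Op p L : Set G)) ∧ CharP p L := by
  have hK := hc.normalizer_of_mem (isPGroup_Op p L) hy
  have := h.charP_aux hC hK h1 (le_normalizer_Op_of_le le_rfl)
  rw [inf_eq_right.2 (centralizer_le_normalizer _)] at this
  exact ⟨this.1, this.2, h.charP hC hK h1 (le_normalizer_Op_of_le le_rfl)⟩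

end wc

/-! ### large subgroups -/

structure Large (p : ℕ) (Q : Subgroup G) : Prop where
  isP : IsPGroup p Q
  ne_bot : Q ≠ ⊥
  large : IsLarge Q

section large

variable {Q L Y : Subgroup G}

theorem Large.wc (h : Large p Q) : WC p Q :=
  wc_of_normalizer_le h.isP fun R a b => (le_normalizer_center le_rfl).trans (h.large.2 _
    (inf_le_right.trans (centralizer_mono b))
    (inf_centralizer_ne_bot a a le_normalizer fun c => h.ne_bot (le_bot_iff.1 (b.trans c.le))))

theorem Large.cj (h : Large p Q) (g : G) : Large p cj(g, Q) :=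
  ⟨isPGroup_cj_iff.2 h.isP, fun a => h.ne_bot (cj_eq_bot_iff.1 a), IsLarge.cj h.large g⟩

theorem Large.centralizer_le_normalizer (h : Large p Q) (hY : IsPGroup p Y) (h1 : Y ≠ ⊥)
    (h2 : Q ≤ normalizer (Y : Set G)) : centralizer (Y : Set G) ≤ normalizer (Q : Set G) :=
  (centralizer_mono inf_le_left).trans ((Subgroup.centralizer_le_normalizer _).trans
    (h.large.2 _ inf_le_right (inf_centralizer_ne_bot h.isP hY h2 h1)))

theorem Large.commutator_closure_le (h : Large p Q) (h0 : Q ≤ L) (hY : IsPGroup p Y) (h1 : Y ≠ ⊥)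
    (h2 : L ≤ normalizer (Y : Set G)) :
    ⁅Q ⊔ ⁅Q, L⁆, centralizer (Y : Set G)⁆ ≤ Op p (Q ⊔ ⁅Q, L⁆) :=
  (commutator_closure_le_of_normalizes h.isP h0 (le_normalizer_centralizer h2)
    (h.centralizer_le_normalizer hY h1 (h0.trans h2))).trans (Comp.le_Op inf_le_right
    (le_normalizer_inf (le_normalizer_Op ((sup_commutator_le' h0).trans
    (le_normalizer_centralizer h2))) le_normalizer) ((isPGroup_Op p _).to_le inf_le_left))

theorem Large.centralizer_le_normalizer_closure (h : Large p Q) (h0 : Q ≤ L) (hY : IsPGroup p Y)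
    (h1 : Y ≠ ⊥) (h2 : L ≤ normalizer (Y : Set G)) :
    centralizer (Y : Set G) ≤ normalizer ((Q ⊔ ⁅Q, L⁆ : Subgroup G) : Set G) :=
  le_normalizer_iff_commutator_le_left.2 ((h.commutator_closure_le h0 hY h1 h2).trans (Op_le _ _))

theorem Large.weakClosure_sup (h : Large p Q) (h0 : Q ≤ L) (hY : IsPGroup p Y)
    (h1 : Y ≠ ⊥) (h2 : L ≤ normalizer (Y : Set G)) :
    weakClosure Q L = weakClosure Q (L ⊔ centralizer (Y : Set G)) := by
  refine le_antisymm (weakClosure_mono le_sup_left) ?_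
  rw [h.wc.weakClosure_eq h0, h.wc.weakClosure_eq (h0.trans le_sup_left)]
  exact sup_commutator_le le_sup_left (sup_le (le_normalizer_sup_commutator _ _)
    (h.centralizer_le_normalizer_closure h0 hY h1 h2))

theorem Large.inf_centralizer_cj (h : Large p Q) {g : G} (hg : g ∉ normalizer (Q : Set G)) :
    centralizer (Q : Set G) ⊓ centralizer (cj(g, Q) : Set G) = ⊥ :=
  by_contra fun a => hg (cj_eq_self_iff.1 (h.wc.eq_of_le_normalizer
    (((le_centralizer_iff.1 inf_le_right).trans (Subgroup.centralizer_le_normalizer _)).trans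
    (h.large.2 _ inf_le_left a))))

theorem Large.charP_centralizer (h : Large p Q) {y : G} (h1 : y ≠ 1)
    (h2 : y ∈ centralizer (Q : Set G)) : CharP p (centralizer ({y} : Set G)) :=
  charP_of_isPGroup_centralizer (Comp.le_Op (le_centralizer_singleton_iff.2 h2)
    (IsLarge.centralizer_singleton_le h.large h1 h2) h.isP)
    (h.isP.to_le (inf_le_right.trans h.large.1))

theorem Large.charP_aux (h : Large p Q) (h0 : Q ≤ L) (h1 : Op p L ≠ ⊥) :
    ⁅Q, centralizer (Op p L : Set G)⁆ ≤ Q ⊓ Op p L ∧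
      IsPGroup p (centralizer (Op p L : Set G)) ∧ CharP p L := by
  obtain ⟨y, a, b⟩ := exists_mem_ne_one
    (inf_centralizer_ne_bot h.isP (isPGroup_Op p L) (le_normalizer_Op_of_le h0) h1)
  exact h.wc.charP_aux' h.large.1 h0 (mem_inf.1 a).1 (h.charP_centralizer b (mem_inf.1 a).2)

theorem Large.centralizer_Op_le (h : Large p Q) {T R : Subgroup G} (hT : SylIn p T ⊤) (h0 : T ≤ R)
    (h1 : Op p R ≠ ⊥) : centralizer (Op p R : Set G) ≤ Op p R := by
  obtain ⟨g, -, a⟩ := hT.exists_cj_le h.isP le_top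
  have b := ((h.cj g).charP_aux (a.trans h0) h1).2.1
  have n := le_normalizer_centralizer (le_normalizer_Op_of_le (p := p) (le_refl R))
  exact Comp.le_Op ((hT.le_of_normalizer' b le_top (h0.trans n)).trans h0) n b

theorem Large.parabolicChar (h : Large p Q) : IsOfParabolicCharacteristic p G := fun R a b ⟨T, c⟩ =>
  charP_iff_subtype.1 (inf_le_right.trans (h.centralizer_Op_le (sylIn_top T) c fun d =>
    b (le_bot_iff.1 ((Comp.le_Op le_normalizer le_rfl a).trans d.le))))

end large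

/-! ### the family `𝔐` -/

theorem mem_charPSubgroups {L : Subgroup G} :
    L ∈ charPSubgroups p G ↔ Op p L ≠ ⊥ ∧ centralizer (Op p L : Set G) ≤ Op p L :=
  and_congr_left' (not_congr Op_eq_bot_iff.symm)

theorem IsOfParabolicCharacteristic.mem (h : IsOfParabolicCharacteristic p G) {T R : Subgroup G}
    (hT : SylIn p T ⊤) (h0 : T ≤ R) (h1 : Op p R ≠ ⊥) : R ∈ charPSubgroups p G := by
  have n : R ≤ Subgroup.normalizer (Op p R : Set G) := le_normalizer_Op_of_le le_rfl
  have a := IsOfParabolicCharacteristic.normalizer h hT (isPGroup_Op p R) h1 (h0.trans n)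
  have b := Op_le_Op n ((hT.of_le (h0.trans n) le_top).Op_le.trans h0)
  exact mem_charPSubgroups.2 ⟨h1, (a.le_Op (centralizer_le_normalizer _) (centralizer_mono b)).trans b⟩

theorem IsOfParabolicCharacteristic.normalizer_mem (h : IsOfParabolicCharacteristic p G)
    {T R : Subgroup G} (hT : SylIn p T ⊤) (hR : IsPGroup p R) (h1 : R ≠ ⊥)
    (h0 : T ≤ Subgroup.normalizer (R : Set G)) :
    Subgroup.normalizer (R : Set G) ∈ charPSubgroups p G :=
  IsOfParabolicCharacteristic.mem h hT h0 fun a =>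
    h1 (le_bot_iff.1 ((Comp.le_Op le_normalizer le_rfl hR).trans a.le))

theorem charP_of_mem {L : Subgroup G} (h : L ∈ charPSubgroups p G) : CharP p L :=
  inf_le_right.trans (mem_charPSubgroups.1 h).2

theorem YL_ne_bot {L : Subgroup G} (h : CharP p L) (h1 : Op p L ≠ ⊥) : YL p L ≠ ⊥ := by
  obtain ⟨T, hT⟩ := exists_sylIn p L
  exact fun a => OmZ_ne_bot hT.isP (fun b => h1 (le_bot_iff.1 (hT.Op_le.trans b.le)))
    (le_bot_iff.1 ((OmZ_le_YL h hT).trans a.le))

theorem exists_maxCharP {L : Subgroup G} (h : L ∈ charPSubgroups p G) :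
    ∃ X ∈ maxCharPSubgroups p G, L ≤ X := by
  obtain ⟨X, a, b, c⟩ := exists_maximal_subgroup (P := fun X => X ∈ charPSubgroups p G) h
  exact ⟨X, ⟨b, c⟩, a⟩

/-- Supplements to the centralizer of `Y_L` that normalize `C_T(Y_L)`. -/
theorem YL_eq_of_supplement {T L X : Subgroup G} (hL : CharP p L) (hT : SylIn p T L)
    (hX : SylIn p T X) (h2 : X ⊔ centralizer (YL p L : Set G) = L ⊔ centralizer (YL p L : Set G))
    (h3 : X ≤ normalizer ((T ⊓ centralizer (YL p L : Set G) : Subgroup G) : Set G)) :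
    Op p X = T ⊓ centralizer (YL p L : Set G) ∧ YL p X = YL p L := by
  have y := pRed_YL p L
  have n : X ≤ normalizer (YL p L : Set G) :=
    (le_sup_left.trans h2.le).trans (sup_le y.norm (centralizer_le_normalizer _))
  have r : Red p (YL p L) X := y.red.of_sup_eq y.norm h2
  have e := r.Op_normalizer hX n
  rw [inf_eq_left.2 h3] at e
  refine ⟨e, le_antisymm ((pRed_YL p X).le_OmZ.trans (by rw [e, ← YL_eq_OmZ hL hT])) ?_⟩
  exact PRed.le_YL ⟨(y.le_Op.trans hT.Op_le).trans hX.le, n, y.elem, r⟩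

/-- The data of a member of `𝔐(S)` in a group of parabolic characteristic `p`. -/
structure FM (p : ℕ) (S M : Subgroup G) : Prop where
  par : IsOfParabolicCharacteristic p G
  syl : SylIn p S ⊤
  le : S ≤ M
  mem : IsInFrakM p M

namespace FM

variable {S M : Subgroup G}

theorem Op_ne_bot (h : FM p S M) : Op p M ≠ ⊥ := (mem_charPSubgroups.1 h.mem.1).1

theorem centralizer_Op_le (h : FM p S M) : centralizer (Op p M : Set G) ≤ Op p M :=
  (mem_charPSubgroups.1 h.mem.1).2

theorem charP (h : FM p S M) : CharP p M := charP_of_mem h.mem.1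

theorem sylIn (h : FM p S M) : SylIn p S M := h.syl.of_le h.le le_top

theorem Y_ne_bot (h : FM p S M) : YL p M ≠ ⊥ := YL_ne_bot h.charP h.Op_ne_bot

theorem le_dagger (h : FM p S M) {X : Subgroup G} (h1 : M ≤ X) (h2 : Op p X ≠ ⊥) :
    X ≤ M ⊔ centralizer (YL p M : Set G) := by
  obtain ⟨Z, a, b⟩ := exists_maxCharP (IsOfParabolicCharacteristic.mem h.par h.syl (h.le.trans h1) h2)
  exact h.mem.2.2.1 Z a (h1.trans b) ▸ b

theorem normalizer_le_dagger (h : FM p S M) {I : Subgroup G} (h1 : IsPGroup p I) (h2 : I ≠ ⊥)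
    (h3 : M ≤ normalizer (I : Set G)) : normalizer (I : Set G) ≤ M ⊔ centralizer (YL p M : Set G) :=
  h.le_dagger h3 fun a => h2 (le_bot_iff.1 ((Comp.le_Op le_normalizer le_rfl h1).trans a.le))

theorem normalizer_Y (h : FM p S M) :
    normalizer (YL p M : Set G) = M ⊔ centralizer (YL p M : Set G) :=
  le_antisymm (h.normalizer_le_dagger (isPGroup_YL M) h.Y_ne_bot (pRed_YL p M).norm)
    (sup_le (pRed_YL p M).norm (centralizer_le_normalizer _))

theorem YL_normalizer (h : FM p S M) : YL p (normalizer (YL p M : Set G)) = YL p M := by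
  rw [h.normalizer_Y]; exact h.mem.2.2.2.1.symm

theorem inf_centralizer (h : FM p S M) : S ⊓ centralizer (YL p M : Set G) = Op p M := by
  have n := (pRed_YL p M).norm
  refine le_antisymm (((pClosed_iff.2 h.mem.2.2.2.2.1).le_Op (inf_le_inf_right _ h.le)
    (h.syl.isP.to_le inf_le_left)).trans ((SubnIn.of_normalizer inf_le_left
    (le_normalizer_inf le_normalizer (le_normalizer_centralizer n))).Op_le p))
    (le_inf h.sylIn.Op_le (Op_le_centralizer_YL M))

theorem sylIn_centralizer (h : FM p S M) : SylIn p (Op p M) (centralizer (YL p M : Set G)) := by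
  have := (h.syl.of_le (h.le.trans (pRed_YL p M).norm) le_top).inf_centralizer le_rfl
  rwa [h.inf_centralizer, inf_eq_right.2 (centralizer_le_normalizer _)] at this

theorem Y_eq (h : FM p S M) : YL p M = OmZ p (Op p M) := by
  have := YL_eq_OmZ h.charP h.sylIn
  rwa [h.inf_centralizer] at this

theorem normalizer_Op_le (h : FM p S M) :
    normalizer (Op p M : Set G) ≤ normalizer (YL p M : Set G) := by
  rw [h.Y_eq]; exact le_normalizer_OmZ le_rfl

theorem le_Op (h : FM p S M) {X : Subgroup G} (h1 : IsPGroup p X)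
    (h2 : X ≤ normalizer (Op p M : Set G)) (h3 : X ≤ centralizer (YL p M : Set G)) : X ≤ Op p M :=
  h.sylIn_centralizer.le_of_normalizer h1 h3 h2

theorem cj_Op_eq (h : FM p S M) {g : G} (hg : g ∈ normalizer (YL p M : Set G))
    (h1 : IsPGroup p (Op p M ⊔ cj(g, Op p M) : Subgroup G)) : cj(g, Op p M) = Op p M := by
  have a := h.sylIn_centralizer
  have b := a.cj_of_mem (normalizer_le_normalizer_centralizer _ hg)
  exact (b.max _ h1 le_sup_right (sup_le a.le b.le)).symm.trans
    (a.max _ h1 le_sup_left (sup_le a.le b.le))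

end FM

theorem le_centralizer_of_asym {Y : Subgroup G} (h : ¬ IsSymmetricIn Y) {g : G}
    (h1 : cj(g, Y) ≤ normalizer (Y : Set G)) (h2 : Y ≤ normalizer (cj(g, Y) : Set G)) :
    cj(g, Y) ≤ centralizer (Y : Set G) :=
  commutator_eq_bot_iff'.1 (by_contra fun a => h ⟨g, a, le_inf
    (commutator_le_left_of_le_normalizer h1) (commutator_le_right_of_le_normalizer h2)⟩)

theorem cj_le_centralizer_of_asym {Y : Subgroup G} (h : ¬ IsSymmetricIn Y) {g x : G}
    (h1 : cj(g, Y) ≤ normalizer (cj(x, Y) : Set G)) (h2 : cj(x, Y) ≤ normalizer (cj(g, Y) : Set G)) :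
    cj(g, Y) ≤ centralizer (cj(x, Y) : Set G) := by
  rw [← cj_centralizer, le_cj_iff, ← cj_mul]
  refine le_centralizer_of_asym h ?_ ?_
  · rwa [cj_mul, ← le_cj_iff, cj_normalizer]
  · rwa [cj_mul, ← cj_normalizer, ← cj_le_iff]

theorem isElementaryAbelian_closure_of_asym {Y R X : Subgroup G} (h : ¬ IsSymmetricIn Y)
    (hY : IsElementaryAbelian p Y) (h1 : Y ≤ R) (h2 : R ≤ normalizer (Y : Set G))
    (hX : X ≤ normalizer (R : Set G)) : IsElementaryAbelian p (Y ⊔ ⁅Y, X⁆) := by
  rw [sup_commutator_eq_iSup]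
  have k : ∀ a b : X, cj((a : G), Y) ≤ normalizer (cj((b : G), Y) : Set G) := fun a b => by
    rw [← cj_normalizer]
    exact (cj_le_of_mem h1 (hX a.2)).trans ((cj_eq_self_iff.2 (hX b.2)).ge.trans (cj_mono _ h2))
  exact isElementaryAbelian_iSup (fun g => (IsElementaryAbelian.map hY _).2)
    fun a b => cj_le_centralizer_of_asym h (k a b) (k b a)

theorem FM.wc {S M : Subgroup G} (h : FM p S M) (ha : ¬ IsSymmetricIn (YL p M)) : WC p (Op p M) := by
  refine wc_of_forall (isPGroup_Op p M) fun g a b => ?_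
  let x : Bool → G := fun i => cond i 1 g
  have hY : YL p M ≤ Op p M := YL_le_Op M
  have k := fun {y : G} => amalgam_closure (g := y) (P := fun i => normalizer (cj(x i, Op p M) : Set G))
    (Q := fun i => cj(x i, Op p M)) (Z := fun i => cj(x i, YL p M)) (by
      rintro (_ | _) (_ | _) <;> simp only [x, cond, cj_one]
      exacts [le_normalizer, a, b, le_normalizer]) (fun _ => le_rfl) (fun i => cj_mono _ hY) (by
      intro i j y c d
      have n : ∀ z : G, normalizer (cj(z, Op p M) : Set G) ≤ normalizer (cj(z, YL p M) : Set G) :=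
        fun z => by rw [← cj_normalizer, ← cj_normalizer]; exact cj_mono z h.normalizer_Op_le
      have e : cj(y, cj(x i, YL p M)) ≤ centralizer (cj(x j, YL p M) : Set G) := by
        rw [← cj_mul]
        refine cj_le_centralizer_of_asym ha (by rw [cj_mul]; exact c.trans (n _)) ?_
        rw [cj_mul, ← cj_normalizer]
        exact le_cj_iff.2 (d.trans (n _))
      rw [← cj_centralizer, le_cj_iff] at e
      rw [← cj_normalizer, le_cj_iff] at c
      exact le_cj_iff.2 (h.le_Op (isPGroup_cj_iff.2 (isPGroup_cj_iff.2 (isPGroup_cj_iff.2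
        (isPGroup_YL M)))) c e))
  let H := ⨆ i, normalizer (cj(x i, Op p M) : Set G)
  have h1 : normalizer (Op p M : Set G) ≤ H := by
    refine le_trans ?_ (le_iSup (fun i => normalizer (cj(x i, Op p M) : Set G)) true)
    simp only [x, cond, cj_one, le_refl]
  have h2 : normalizer (cj(g, Op p M) : Set G) ≤ H :=
    le_iSup (fun i => normalizer (cj(x i, Op p M) : Set G)) false
  have h3 : YL p M ⊔ ⁅YL p M, H⁆ ≤ Op p M := sup_commutator_le_of_forall fun y hy => by
    simpa only [x, cond, cj_one] using k hy true true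
  have h4 : H ≤ normalizer (YL p M : Set G) := by
    rw [h.normalizer_Y]
    exact (le_normalizer_sup_commutator _ _).trans (h.normalizer_le_dagger ((isPGroup_Op p M).to_le h3)
      (fun c => h.Y_ne_bot (le_bot_iff.1 (le_sup_left.trans c.le)))
      ((le_normalizer_Op_of_le le_rfl).trans (h1.trans (le_normalizer_sup_commutator _ _))))
  have h5 : M ≤ normalizer (cj(g⁻¹, YL p M) : Set G) := by
    rw [← cj_normalizer, ← cj_le_iff]
    refine le_trans ?_ (h2.trans h4)
    rw [← cj_normalizer]; exact cj_mono g (le_normalizer_Op_of_le le_rfl)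
  have h6 := h.normalizer_le_dagger (isPGroup_cj_iff.2 (isPGroup_YL M))
    (fun c => h.Y_ne_bot (cj_eq_bot_iff.1 c)) h5
  rw [← h.normalizer_Y, ← cj_normalizer] at h6
  have h7 : g ∈ normalizer (normalizer (YL p M : Set G) : Set G) :=
    inv_mem_iff.1 (mem_normalizer_of_conj_mem (cj_le_iff'.1 h6))
  have h8 : g ∈ normalizer (YL p M : Set G) := h.YL_normalizer ▸ le_normalizer_YL le_rfl h7
  exact h.cj_Op_eq h8 (isPGroup_sup' a (isPGroup_Op p M) (isPGroup_cj_iff.2 (isPGroup_Op p M)))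

theorem exists_frakM (h : IsOfParabolicCharacteristic p G) {T L : Subgroup G} (hT : SylIn p T ⊤)
    (h1 : T ≤ L) (hL : L ∈ charPSubgroups p G) : ∃ M X : Subgroup G, T ≤ M ∧ IsInFrakM p M ∧
      T ≤ X ∧ X ≤ M ∧ X ∈ charPSubgroups p G ∧ YL p L = YL p X ∧ YL p L ≤ YL p M ∧
      L ⊔ centralizer (YL p L : Set G) = X ⊔ centralizer (YL p L : Set G) := by
  set C := centralizer (YL p L : Set G) with hC
  have sy : ∀ X, T ≤ X → SylIn p T X := fun X a => hT.of_le a le_top
  have cL := charP_of_mem hL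
  have yL := YL_ne_bot cL (mem_charPSubgroups.1 hL).1
  obtain ⟨Y, y1, ⟨N₀, n1, n2, n3, rfl⟩, y2⟩ := exists_maximal_subgroup (P := fun Y => ∃ N,
    N ∈ charPSubgroups p G ∧ T ≤ N ∧ L ≤ ((L ⊔ C) ⊓ N) ⊔ C ∧ Y = YL p N)
    ⟨L, hL, h1, (le_inf le_sup_left le_rfl).trans le_sup_left, rfl⟩
  set Y := YL p N₀ with hY
  have y0 : Y ≠ ⊥ := fun a => yL (le_bot_iff.1 (y1.trans a.le))
  set N := normalizer (Y : Set G) with hN
  have a1 : N₀ ≤ N := (pRed_YL p N₀).norm
  have a2 : N ∈ charPSubgroups p G :=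
    IsOfParabolicCharacteristic.normalizer_mem h hT (isPGroup_YL _) y0 (n2.trans a1)
  have a3 : YL p N = Y := y2 _ ⟨N, a2, n2.trans a1, n3.trans (sup_le_sup_right
    (inf_le_inf_left _ a1) _), rfl⟩ (YL_le_YL (charP_of_mem a2) (sy _ (n2.trans a1)) n2 a1)
  set D := centralizer (Y : Set G) with hD
  have dN : D ≤ N := centralizer_le_normalizer _
  have dC : D ≤ C := centralizer_mono y1
  obtain ⟨M, -, ⟨m1, m2⟩, m3⟩ := exists_minimal_subgroup (P := fun M => T ≤ M ∧ M ⊔ D = N)
    ⟨n2.trans a1, sup_eq_left.2 dN⟩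
  have mN : M ≤ N := le_sup_left.trans m2.le
  have b1 : M ≤ normalizer ((T ⊓ D : Subgroup G) : Set G) :=
    (m3 _ ⟨le_inf m1 (le_normalizer_inf le_normalizer (le_normalizer_centralizer (m1.trans mN))),
      ((sy M m1).normalizer_sup_centralizer mN).trans m2⟩ inf_le_left).ge.trans inf_le_right
  obtain ⟨b2, b3⟩ := YL_eq_of_supplement (charP_of_mem a2) (sy N (m1.trans mN)) (sy M m1)
    (by rw [a3]; exact m2.trans (sup_eq_left.2 dN).symm) (by rw [a3]; exact b1)
  rw [a3] at b2 b3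
  have b4 : M ∈ charPSubgroups p G := IsOfParabolicCharacteristic.mem h hT m1 fun a =>
    y0 (le_bot_iff.1 (b3.ge.trans ((YL_le_Op M).trans a.le)))
  have b5 : L ≤ ((L ⊔ C) ⊓ M) ⊔ C := by
    refine n3.trans (sup_le ((inf_le_inf_left _ (a1.trans m2.ge)).trans ?_) le_sup_right)
    rw [inf_comm, sup_comm M, sup_inf_of_le_normalizer' (le_normalizer_centralizer mN)
      (dC.trans le_sup_right)]
    exact sup_le (dC.trans le_sup_right) ((inf_comm _ _).le.trans le_sup_left)
  have b6 : ∀ X ∈ charPSubgroups p G, M ≤ X → X ≤ N := fun X a b => by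
    have := y2 _ ⟨X, a, m1.trans b, b5.trans (sup_le_sup_right (inf_le_inf_left _ b) _), rfl⟩
      (b3 ▸ YL_le_YL (charP_of_mem a) (sy _ (m1.trans b)) m1 b)
    rw [hN, ← this]; exact (pRed_YL p X).norm
  have s := (sy M m1).inf_centralizer mN
  have pc : PClosed p (M ⊓ D) := s.pClosed (inf_le_left.trans b1)
  have nL : L ⊔ C ≤ normalizer (YL p L : Set G) :=
    sup_le (pRed_YL p L).norm (centralizer_le_normalizer _)
  have t1 : T ≤ (L ⊔ C) ⊓ M := le_inf (h1.trans le_sup_left) m1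
  have t2 : T ≤ (L ⊔ C) ⊓ M ⊓ normalizer ((T ⊓ C : Subgroup G) : Set G) := le_inf t1
    (le_normalizer_inf le_normalizer (le_normalizer_centralizer (h1.trans (pRed_YL p L).norm)))
  have t3 : ((L ⊔ C) ⊓ M ⊓ normalizer ((T ⊓ C : Subgroup G) : Set G)) ⊔ C = L ⊔ C :=
    ((sy _ t1).normalizer_sup_centralizer (inf_le_left.trans nL)).trans
      (le_antisymm (sup_le inf_le_left le_sup_right) (sup_le b5 le_sup_right))
  obtain ⟨t4, t5⟩ := YL_eq_of_supplement cL (sy L h1) (sy _ t2) t3 inf_le_right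
  refine ⟨M, _, m1, ⟨b4, ?_⟩, t2, inf_le_left.trans inf_le_right,
    IsOfParabolicCharacteristic.mem h hT t2 fun a =>
      yL (le_bot_iff.1 (t5.ge.trans ((YL_le_Op _).trans a.le))), t5.symm, y1.trans b3.ge, t3.symm⟩
  rw [show largestPReducedOf p M = Y from b3, m2]
  refine ⟨⟨a2, fun X a b => le_antisymm (b6 X a (mN.trans b)) b⟩, fun X a b =>
    (a.2 N a2 (b6 X a.1 b)).symm, a3.symm, pClosed_iff.1 pc, Solv.le_frattini_iff.2 fun K hK => ?_⟩
  let f := QuotientGroup.mk' (pCore p M)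
  have hf : Function.Surjective f := QuotientGroup.mk'_surjective _
  have hK' := isCoatom_comap_of_surjective hf hK
  refine map_le_iff_le_comap.2 (by_contra fun c => ?_)
  have e := Solv.sup_eq_top_of_not_le_coatom hK' c
  set K' := (K.comap f).map M.subtype with hK'def
  have k0 : K' ≤ M := map_subtype_le _
  have e' : K' ⊔ (M ⊓ D) = M := by
    rw [← map_subgroupOf_eq_of_le (inf_le_left : M ⊓ D ≤ M), hK'def, ← Subgroup.map_sup, e,
      map_subtype_top]
  have k1 : Op p M ≤ K' := map_mono ((QuotientGroup.ker_mk' _).ge.trans (ker_le_comap f K))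
  have nD : M ≤ normalizer ((M ⊓ D : Subgroup G) : Set G) :=
    le_normalizer_inf le_normalizer (le_normalizer_centralizer mN)
  obtain ⟨S, hS⟩ := exists_sylIn p K'
  have hS' : SylIn p S M := hS.trans_of_not_dvd k0 fun d => by
    have r1 := card_sup_mul_card_inf (k0.trans nD)
    have r2 := relIndex_mul_card k0
    have r3 := relIndex_mul_card (inf_le_right : K' ⊓ (M ⊓ D) ≤ M ⊓ D)
    rw [e', ← r2, ← r3, mul_comm (Nat.card K'), mul_right_comm] at r1
    exact s.not_dvd_relIndex_of_le (le_inf (b2.ge.trans k1) s.le) inf_le_right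
      (Nat.eq_of_mul_eq_mul_right Nat.card_pos (Nat.eq_of_mul_eq_mul_right Nat.card_pos r1) ▸ d)
  obtain ⟨g, g1, g2⟩ := hS'.exists_cj_eq (sy M m1)
  have g3 : cj(g, K') = M := m3 _ ⟨g2 ▸ cj_mono g hS.le, by
    have : K' ⊔ D = N := le_antisymm (sup_le (k0.trans mN) dN)
      (m2.ge.trans (sup_le (e'.ge.trans (sup_le_sup_left inf_le_right _)) le_sup_right))
    have e0 : cj(g, D) = D := cj_eq_self_iff.2 (le_normalizer_centralizer mN g1)
    rw [← e0, ← cj_sup, this,
      cj_eq_self_of_mem (mN g1)]⟩ (cj_le_of_mem k0 (le_normalizer g1))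
  have g4 : K' = M := cj_inj.1 (g3.trans (cj_eq_self_of_mem g1).symm)
  exact hK'.1 (map_injective M.subtype_injective (g4.trans (map_subtype_top M).symm))

/-! ### the family `ℌ` -/

structure FH (p : ℕ) (O Y H : Subgroup G) : Prop where
  isP : IsPGroup p O
  le_O : Y ≤ O
  norm : O ≤ normalizer (Y : Set G)
  le : O ≤ H
  not_le : ¬ Y ≤ Op p H
  min : ∀ P, O ≤ P → P < H → Y ≤ Op p P

theorem IsInFrakH.fh {M H : Subgroup G} (h : IsInFrakH p M H) : FH p (Op p M) (YL p M) H :=
  ⟨isPGroup_Op p M, YL_le_Op M, (Op_le p M).trans (pRed_YL p M).norm, h.2.1, h.2.2.1, h.2.2.2⟩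

namespace FH

variable {O Y H : Subgroup G}

theorem eq_or (h : FH p O Y H) {P : Subgroup G} (h1 : O ≤ P) (h2 : P ≤ H) : P = H ∨ Y ≤ Op p P :=
  h2.eq_or_lt.imp_right (h.min P h1)

theorem eq_of_subnIn (h : FH p O Y H) {P : Subgroup G} (h1 : O ≤ P) (h2 : SubnIn P H) : P = H :=
  (h.eq_or h1 h2.le).resolve_right fun a => h.not_le (a.trans (h2.Op_le p))

theorem Res_sup (h : FH p O Y H) : Res p H ⊔ O = H :=
  h.eq_of_subnIn le_sup_right (subnIn_of_Res_le le_sup_left (sup_le (ResPi_le _ _) h.le))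

theorem closure_O (h : FH p O Y H) : O ⊔ ⁅O, H⁆ = H :=
  h.eq_of_subnIn le_sup_left (.of_normalizer (sup_commutator_le' h.le)
    (le_normalizer_sup_commutator _ _))

theorem commutator_Res (h : FH p O Y H) : ⁅Res p H, Y⁆ = Res p H := by
  have n : O ≤ normalizer (Res p H : Set G) := le_normalizer_ResPi (h.le.trans le_normalizer)
  have a := commutator_le_left_of_le_normalizer (h.le_O.trans n)
  refine le_antisymm a (Res_le_of_le_sup ((h.eq_or le_sup_right (sup_le (a.trans (ResPi_le _ _))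
    h.le)).resolve_right fun b => h.not_le ?_).ge (le_normalizer_commutator n h.norm) h.isP)
  have s : SubnIn (⁅Res p H, Y⁆ ⊔ Y) H := by
    refine .of_normalizer (sup_le (a.trans (ResPi_le _ _)) (h.le_O.trans h.le)) (h.Res_sup.ge.trans
      (sup_le ?_ (le_normalizer_sup (le_normalizer_commutator n h.norm) h.norm)))
    rw [sup_comm, commutator_comm]; exact le_normalizer_sup_commutator _ _
  exact ((le_inf b le_sup_right).trans (Op_inf_le (sup_le_sup_left h.le_O _))).trans (s.Op_le p)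

theorem closure_Y (h : FH p O Y H) : Res p H ⊔ Y = Y ⊔ ⁅Y, H⁆ := by
  refine le_antisymm (sup_le (h.commutator_Res.ge.trans ?_) le_sup_left) (sup_commutator_le
    le_sup_right (h.Res_sup.ge.trans (sup_le (le_sup_left.trans le_normalizer)
    (le_normalizer_sup (le_normalizer_ResPi (h.le.trans le_normalizer)) h.norm))))
  rw [commutator_comm]; exact (commutator_mono le_rfl (ResPi_le _ _)).trans le_sup_right

theorem pIrr (h : FH p O Y H) : PIrr p H := by
  have hY := h.isP.to_le h.le_O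
  refine ⟨fun a => h.not_le (a.le_Op (h.le_O.trans h.le) hY), fun N a b c => by_contra fun d => ?_⟩
  have e1 : Y ≤ Op p (N ⊔ O) := (h.eq_or le_sup_right (sup_le a h.le)).resolve_left fun e =>
    d (Res_le_of_le_sup e.ge (h.le.trans b) h.isP)
  have e2 : ⁅Y, N⁆ ≤ Op p H := ((le_inf ((commutator_mono e1 le_rfl).trans
    (commutator_le_left_of_le_normalizer (le_normalizer_Op_of_le le_sup_left)))
    (commutator_le_right_of_le_normalizer ((h.le_O.trans h.le).trans b))).trans
    (Op_inf_le le_sup_left)).trans ((SubnIn.of_normalizer a b).Op_le p)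
  obtain ⟨T, t1, t2⟩ := exists_sylIn_ge h.isP h.le
  have s := t2.inf_normal a (t2.le.trans b)
  have f := s.frattini a b
  set P := H ⊓ normalizer ((T ⊓ N : Subgroup G) : Set G) with hP
  have e3 : Y ≤ Op p P := (h.eq_or (le_inf h.le (t1.trans (le_normalizer_inf le_normalizer
    (t2.le.trans b)))) inf_le_left).resolve_left fun e =>
    c (s.pClosed (a.trans (e.ge.trans inf_le_right)))
  have nO : H ≤ normalizer (Op p H : Set G) := le_normalizer_Op_of_le le_rfl
  have e4 : Y ⊔ ⁅Y, P⁆ ≤ Op p P := sup_commutator_le e3 (le_normalizer_Op_of_le le_rfl)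
  have e5 : ⁅Y ⊔ ⁅Y, P⁆, N⁆ ≤ Op p H := (le_actKer_iff.1 (sup_commutator_le
    (le_actKer_iff.2 ⟨(h.le_O.trans h.le).trans nO, e2⟩)
    (le_normalizer_actKer (inf_le_left.trans nO) (inf_le_left.trans b)))).2
  have e6 : Y ⊔ ⁅Y, P⁆ ≤ H := (e4.trans (Op_le p P)).trans inf_le_left
  refine h.not_le ((le_sup_left.trans le_sup_left).trans (Comp.le_Op (N := Y ⊔ ⁅Y, P⁆ ⊔ Op p H)
    (sup_le e6 (Op_le p H)) (f.ge.trans (sup_le (le_normalizer_iff_commutator_le_left.2 ?_)
    (le_normalizer_sup (le_normalizer_sup_commutator _ _) (inf_le_left.trans nO))))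
    (isPGroup_sup (e6.trans nO) ((isPGroup_Op p P).to_le e4) (isPGroup_Op p H))))
  exact (commutator_sup_left_le (e6.trans nO) le_normalizer e5
    (commutator_le_left_of_le_normalizer (a.trans nO))).trans le_sup_right

end FH

end Cfsg.Agent.Comp
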