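/-
The coset graph of an amalgam and finite subgroups of possibly infinite groups.
-/
import Cfsg.Agent.Lib.Comp.Large

set_option autoImplicit false
set_option linter.unusedSectionVars false

namespace Cfsg.Agent.Comp

open Subgroup
open scoped commutatorElement

variable {X : Type*} [Group X] {p : ℕ}

/-! ### finite subgroups of arbitrary groups -/

theorem sup_induction_right {A B : Subgroup X} {P : X → Prop} (h1 : P 1)
    (hA : ∀ x, ∀ a ∈ A, P x → P (x * a)) (hB : ∀ x, ∀ b ∈ B, P x → P (x * b)) {x : X}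
    (hx : x ∈ A ⊔ B) : P x := by
  rw [sup_eq_closure] at hx
  induction hx using closure_induction_right with
  | one => exact h1
  | mul_right x _ y hy h => exact hy.elim (hA x y · h) (hB x y · h)
  | mul_inv_cancel x _ y hy h => exact hy.elim (fun a => hA x _ (inv_mem a) h) fun a => hB x _ (inv_mem a) h

theorem SylIn.top_subgroupOf {T M : Subgroup X} (h : SylIn p T M) : SylIn p (T.subgroupOf M) ⊤ := by
  have := h.subgroupOf le_rfl
  rwa [subgroupOf_self] at this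

theorem SylIn.exists_cj_eq' [Fact p.Prime] {S T M : Subgroup X} [Finite M] (h : SylIn p S M)
    (h' : SylIn p T M) : ∃ g ∈ M, cj(g, S) = T := by
  obtain ⟨g, -, e⟩ := h.top_subgroupOf.exists_cj_eq h'.top_subgroupOf
  have := congrArg (Subgroup.map M.subtype) e
  rw [map_cj, map_subgroupOf_eq_of_le h.le, map_subgroupOf_eq_of_le h'.le] at this
  exact ⟨g, g.2, this⟩

theorem SylIn.of_card_le' [Fact p.Prime] {S T M : Subgroup X} [Finite M] (h : SylIn p S M)
    (h1 : IsPGroup p T) (h2 : T ≤ M) (h3 : Nat.card S ≤ Nat.card T) : SylIn p T M := by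
  have := (h.top_subgroupOf.of_card_le (h1.comap_subtype (K := M)) le_top (by
    rwa [card_subgroupOf h.le, comap_subtype, card_subgroupOf h2])).map_of_injective
    M.subtype_injective
  rwa [comap_subtype, map_subgroupOf_eq_of_le h2, map_subtype_top] at this

theorem finite_of_le {A M : Subgroup X} [Finite M] (h : A ≤ M) : Finite A :=
  Finite.of_injective _ (inclusion_injective h)

theorem finite_cj (g : X) (M : Subgroup X) [Finite M] : Finite cj(g, M) :=
  Finite.of_equiv _ (cjEquiv g M).toEquiv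

theorem isNilpotent_of_isPGroup_of_le [Fact p.Prime] {Q M : Subgroup X} [Finite M] (h : Q ≤ M)
    (hQ : IsPGroup p Q) : Group.IsNilpotent Q :=
  have := finite_of_le h
  hQ.isNilpotent

theorem pCoreOf_le (p : ℕ) (M : Subgroup X) : pCoreOf p M ≤ M := map_subtype_le _

theorem le_pCoreOf {N M : Subgroup X} (h1 : N ≤ M) (h2 : M ≤ normalizer (N : Set X))
    (h : IsPGroup p N) : N ≤ pCoreOf p M :=
  le_map_subtype_iff.2 ⟨h1, le_sSup ⟨(normal_subgroupOf_iff_le_normalizer h1).2 h2, h.comap_subtype⟩⟩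

theorem pCoreOf_le_iff {M Y : Subgroup X} : pCoreOf p M ≤ Y ↔
    ∀ N, N ≤ M → M ≤ normalizer (N : Set X) → IsPGroup p N → N ≤ Y :=
  ⟨fun h _ a b c => (le_pCoreOf a b c).trans h, fun h => map_subtype_le_iff.2 (sSup_le fun N hN =>
    map_subtype_le_iff.1 (h _ (map_subtype_le _) ((normal_iff_map_subtype N).1 hN.1) (hN.2.map _)))⟩

theorem cj_pCoreOf (g : X) (M : Subgroup X) : cj(g, pCoreOf p M) = pCoreOf p cj(g, M) := by
  have k : ∀ (g : X) (M : Subgroup X), cj(g, pCoreOf p M) ≤ pCoreOf p cj(g, M) := fun g M =>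
    cj_le_iff.2 (pCoreOf_le_iff.2 fun N a b c => cj_le_iff.1 (le_pCoreOf (cj_mono g a)
      (by rw [← cj_normalizer]; exact cj_mono g b) (isPGroup_cj_iff.2 c)))
  refine le_antisymm (k g M) (le_cj_iff.2 ((k _ _).trans ?_))
  rw [cj_inv_cj]

theorem le_normalizer_pCoreOf {A M : Subgroup X} (h : A ≤ normalizer (M : Set X)) :
    A ≤ normalizer (pCoreOf p M : Set X) := fun g hg =>
  cj_eq_self_iff.1 (by rw [cj_pCoreOf, cj_eq_self_iff.2 (h hg)])

theorem isPGroup_pCoreOf (p : ℕ) (M : Subgroup X) [Finite M] : IsPGroup p (pCoreOf p M) :=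
  (isPGroup_pCore p).map _

theorem SylIn.pCoreOf_le {T M : Subgroup X} (h : SylIn p T M) : pCoreOf p M ≤ T :=
  pCoreOf_le_iff.2 fun _ a b c => h.le_of_normalizer' c a (h.le.trans b)

theorem sylowCenterClosure_le_iff {M Y : Subgroup X} :
    sylowCenterClosure p M ≤ Y ↔ ∀ S, SylIn p S M → OmZ p S ≤ Y :=
  ⟨fun h S a => by
    obtain ⟨T, rfl⟩ := a.exists_sylow
    exact (le_iSup (fun S : Sylow p M => OmZ p ((S : Subgroup M).map M.subtype)) T).trans h,
   fun h => iSup_le fun S => h _ (sylIn_sylow S)⟩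

theorem SylIn.OmZ_le_sylowCenterClosure {T M : Subgroup X} (h : SylIn p T M) :
    OmZ p T ≤ sylowCenterClosure p M := sylowCenterClosure_le_iff.1 le_rfl T h

theorem cj_sylowCenterClosure (g : X) (M : Subgroup X) :
    cj(g, sylowCenterClosure p M) = sylowCenterClosure p cj(g, M) := by
  have k : ∀ (g : X) (M : Subgroup X), cj(g, sylowCenterClosure p M) ≤ sylowCenterClosure p cj(g, M) :=
    fun g M => cj_le_iff.2 (sylowCenterClosure_le_iff.2 fun S a => cj_le_iff.1 (by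
      rw [cj_OmZ]; exact (a.cj g).OmZ_le_sylowCenterClosure))
  refine le_antisymm (k g M) (le_cj_iff.2 ((k _ _).trans ?_))
  rw [cj_inv_cj]

theorem le_normalizer_sylowCenterClosure {A M : Subgroup X} (h : A ≤ normalizer (M : Set X)) :
    A ≤ normalizer (sylowCenterClosure p M : Set X) := fun g hg =>
  cj_eq_self_iff.1 (by rw [cj_sylowCenterClosure, cj_eq_self_iff.2 (h hg)])

/-- Characteristic `p` for a subgroup of a possibly infinite group. -/
def ChP (p : ℕ) (M : Subgroup X) : Prop := M ⊓ centralizer (pCoreOf p M : Set X) ≤ pCoreOf p M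

theorem chP_iff {M : Subgroup X} : ChP p M ↔ centralizer (pCore p M : Set M) ≤ pCore p M := by
  rw [← map_le_map_iff_of_injective M.subtype_injective, map_subtype_centralizer]; rfl

theorem ChP.cj {M : Subgroup X} (h : ChP p M) (g : X) : ChP p cj(g, M) := by
  unfold ChP; rw [← cj_pCoreOf, ← cj_centralizer, ← cj_inf]; exact cj_mono g h

theorem ChP.sylowCenterClosure_le {M : Subgroup X} (h : ChP p M) :
    sylowCenterClosure p M ≤ OmZ p (pCoreOf p M) :=
  sylowCenterClosure_le_iff.2 fun S a => OmZ_le_OmZ a.pCoreOf_le ((le_inf ((OmZ_le p S).trans a.le)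
    ((OmZ_le_centralizer p S).trans (centralizer_mono a.pCoreOf_le))).trans h)

theorem pElementClosure_le (p : ℕ) (M : Subgroup X) : pElementClosure p M ≤ M :=
  (closure_le _).2 fun _ h => h.1

theorem le_pElementClosure [Fact p.Prime] {T M : Subgroup X} (h : T ≤ M) (hT : IsPGroup p T) :
    T ≤ pElementClosure p M := fun x hx => by
  obtain ⟨k, hk⟩ := IsPGroup.iff_orderOf.1 hT ⟨x, hx⟩
  exact subset_closure ⟨h hx, k, by rw [← hk, orderOf_mk]⟩

theorem le_normalizer_pElementClosure {A M : Subgroup X} (h : A ≤ normalizer (M : Set X)) :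
    A ≤ normalizer (pElementClosure p M : Set X) :=
  le_normalizer_of_cj_le fun g hg => cj_le_iff.2 ((closure_le _).2 fun x hx => by
    rw [SetLike.mem_coe, mem_cj, inv_inv]
    exact subset_closure ⟨conj_mem_of_le_normalizer h hg hx.1, by rw [orderOf_conj]; exact hx.2⟩)

theorem SylIn.frattini' [Fact p.Prime] {T N M : Subgroup X} [Finite N] (h : SylIn p T N)
    (h1 : N ≤ M) (h2 : M ≤ normalizer (N : Set X)) : N ⊔ (M ⊓ normalizer (T : Set X)) = M := by
  refine le_antisymm (sup_le h1 inf_le_left) fun g hg => ?_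
  obtain ⟨n, a, b⟩ := (h.cj_of_mem (h2 hg)).exists_cj_eq' h
  rw [← inv_mul_cancel_left n g]
  exact mul_mem_sup (inv_mem a) (mem_inf.2 ⟨mul_mem (h1 a) hg, cj_eq_self_iff.1 (by rwa [cj_mul])⟩)

theorem SylIn.pElementClosure_sup [Fact p.Prime] {T M : Subgroup X} [Finite M] (h : SylIn p T M) :
    pElementClosure p M ⊔ (M ⊓ normalizer (T : Set X)) = M :=
  have := finite_of_le (pElementClosure_le p M)
  (h.of_le (le_pElementClosure h.le h.isP) (pElementClosure_le p M)).frattini'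
    (pElementClosure_le p M) (le_normalizer_pElementClosure le_normalizer)

theorem SylIn.pResidual_sup [Fact p.Prime] {T M : Subgroup X} [Finite M] (h : SylIn p T M) :
    (pResidual p M).map M.subtype ⊔ T = M := by
  have := congrArg (Subgroup.map M.subtype) h.top_subgroupOf.Res_sup
  rwa [Subgroup.map_sup, Res_top, map_subgroupOf_eq_of_le h.le, map_subtype_top] at this

theorem le_of_le_sup_commutator {V U Q : Subgroup X} (hQ : Group.IsNilpotent Q) (h1 : V ≤ Q)
    (h2 : U ≤ Q) (h3 : Q ≤ normalizer (U : Set X)) (h : V ≤ U ⊔ ⁅V, Q⁆) : V ≤ U := by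
  obtain ⟨n, hn⟩ := (isNilpotent_iff_lowerCentralSeries Q).1 hQ
  have k : ∀ n, Q ≤ normalizer (Q.lowerCentralSeries n : Set X) := fun n => by
    induction n with
    | zero => exact le_normalizer
    | succ n ih => exact le_normalizer_commutator ih le_normalizer
  have l : ∀ n, Q.lowerCentralSeries n ≤ Q := fun n => by
    induction n with
    | zero => exact le_rfl
    | succ n ih => exact (commutator_le_left_of_le_normalizer (k n)).trans ih
  have : ∀ n, V ≤ U ⊔ Q.lowerCentralSeries n := fun n => by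
    induction n with
    | zero => exact h1.trans le_sup_right
    | succ n ih =>
      have m := le_normalizer_sup h3 (k (n + 1))
      exact h.trans (sup_le le_sup_left ((commutator_mono ih le_rfl).trans (commutator_sup_left_le
        (h2.trans m) ((l n).trans m) ((commutator_le_left_of_le_normalizer h3).trans le_sup_left)
        le_sup_right)))
  simpa [hn] using this n

theorem exists_pow_ne_one {x : X} {n : ℕ} (h : x ^ p ^ n = 1) (h1 : x ≠ 1) :
    ∃ k, x ^ k ≠ 1 ∧ (x ^ k) ^ p = 1 := by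
  induction n with
  | zero => exact absurd (by simpa using h) h1
  | succ n ih =>
    by_cases a : x ^ p ^ n = 1
    · exact ih a
    · exact ⟨_, a, by rw [← pow_mul, ← pow_succ, h]⟩

theorem eq_bot_of_omegaOne_eq_bot {Z : Subgroup X} (hZ : IsPGroup p Z) (h : omegaOne p Z = ⊥) :
    Z = ⊥ := by
  refine (eq_bot_iff_forall _).2 fun x hx => by_contra fun a => ?_
  obtain ⟨n, hn⟩ := hZ ⟨x, hx⟩
  obtain ⟨k, b, c⟩ := exists_pow_ne_one (n := n) (congrArg Subtype.val hn) a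
  exact b (mem_bot.1 (h ▸ mem_omegaOne (pow_mem hx k) c))

theorem OmZ_ne_bot' [Fact p.Prime] {T : Subgroup X} [Finite T] (hT : IsPGroup p T) (h : T ≠ ⊥) :
    OmZ p T ≠ ⊥ := fun a => by
  have := eq_bot_of_omegaOne_eq_bot (hT.to_le inf_le_left) a
  rw [← map_center_subtype, map_eq_bot_iff_of_injective _ T.subtype_injective] at this
  have _ := (nontrivial_iff_ne_bot T).2 h
  exact (nontrivial_iff_ne_bot _).1 hT.center_nontrivial this

/-! ### amalgams -/

/-- A faithful rank two amalgam. -/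
structure Amal (A B : Subgroup X) : Prop where
  sup : A ⊔ B = ⊤
  core : ∀ N : Subgroup X, N ≤ A ⊓ B → N.Normal → N = ⊥

theorem Amal.symm {A B : Subgroup X} (h : Amal A B) : Amal B A :=
  ⟨(sup_comm _ _).trans h.sup, fun N a => h.core N (a.trans (inf_comm _ _).le)⟩

theorem Amal.cj {A B : Subgroup X} (h : Amal A B) (g : X) : Amal cj(g, A) cj(g, B) :=
  ⟨by rw [← cj_sup, h.sup, cj_top], fun N a b => h.core N (by
    rwa [← cj_inf, le_cj_iff, cj_eq_self_of_normal] at a) b⟩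

theorem Amal.eq_bot {A B N : Subgroup X} (h : Amal A B) (h1 : N ≤ A ⊓ B)
    (h2 : A ≤ normalizer (N : Set X)) (h3 : B ≤ normalizer (N : Set X)) : N = ⊥ :=
  h.core N h1 (normal_iff_top_le_normalizer.2 (h.sup.ge.trans (sup_le h2 h3)))

theorem Amal.eq_bot_of_factor {A B T : Subgroup X} (h : Amal A B) (h1 : T ≤ A ⊓ B)
    (hA : ∀ g ∈ A, ∃ n ∈ normalizer (T : Set X), n⁻¹ * g ∈ A ⊓ B)
    (hB : ∀ g ∈ B, ∃ n ∈ normalizer (T : Set X), n⁻¹ * g ∈ A ⊓ B) : T = ⊥ := by
  have k : ∀ x, ∃ n ∈ normalizer (T : Set X), n⁻¹ * x ∈ A ⊓ B := fun x => by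
    refine sup_induction_right (P := fun x => ∃ n ∈ normalizer (T : Set X), n⁻¹ * x ∈ A ⊓ B)
      ⟨1, one_mem _, by simp⟩ ?_ ?_ (h.sup.ge (mem_top x))
    · rintro x a ha ⟨n, b, c⟩
      obtain ⟨m, d, e⟩ := hA _ (mul_mem (mem_inf.1 c).1 ha)
      exact ⟨n * m, mul_mem b d, by simpa [mul_assoc] using e⟩
    · rintro x a ha ⟨n, b, c⟩
      obtain ⟨m, d, e⟩ := hB _ (mul_mem (mem_inf.1 c).2 ha)
      exact ⟨n * m, mul_mem b d, by simpa [mul_assoc] using e⟩
  refine le_bot_iff.1 (le_sup_left.trans (h.core (T ⊔ ⁅T, ⊤⁆) (sup_commutator_le_of_forall fun g _ => ?_)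
    (normal_iff_top_le_normalizer.2 (le_normalizer_sup_commutator _ _))).le)
  obtain ⟨n, a, b⟩ := k g⁻¹
  rw [← cj_eq_self_iff.2 a, ← cj_mul]
  exact cj_le_of_mem h1 (le_normalizer (by simpa using inv_mem b))

/-- An amalgam of characteristic `p`. -/
structure CAmal (p : ℕ) (A B : Subgroup X) : Prop extends Amal A B where
  finA : Finite A
  finB : Finite B
  sylA : ∀ T, SylIn p T (A ⊓ B) → SylIn p T A
  sylB : ∀ T, SylIn p T (A ⊓ B) → SylIn p T B
  chA : ChP p A
  chB : ChP p B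
  ne : ∀ T, SylIn p T (A ⊓ B) → T ≠ ⊥

theorem CAmal.symm {A B : Subgroup X} (h : CAmal p A B) : CAmal p B A :=
  ⟨h.toAmal.symm, h.finB, h.finA, fun T a => h.sylB T (inf_comm A B ▸ a),
    fun T a => h.sylA T (inf_comm A B ▸ a), h.chB, h.chA, fun T a => h.ne T (inf_comm A B ▸ a)⟩

theorem sylIn_cj_iff {T M : Subgroup X} {g : X} : SylIn p T cj(g, M) ↔ SylIn p cj(g⁻¹, T) M :=
  ⟨fun h => by simpa only [cj_inv_cj] using h.cj g⁻¹, fun h => by simpa only [cj_cj_inv] using h.cj g⟩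

theorem CAmal.cj {A B : Subgroup X} (h : CAmal p A B) (g : X) : CAmal p cj(g, A) cj(g, B) :=
  have := h.finA
  have := h.finB
  ⟨h.toAmal.cj g, finite_cj g A, finite_cj g B,
    fun T a => sylIn_cj_iff.2 (h.sylA _ (sylIn_cj_iff.1 (cj_inf g A B ▸ a))),
    fun T a => sylIn_cj_iff.2 (h.sylB _ (sylIn_cj_iff.1 (cj_inf g A B ▸ a))), h.chA.cj g, h.chB.cj g,
    fun T a b => h.ne _ (sylIn_cj_iff.1 (cj_inf g A B ▸ a)) (cj_eq_bot_iff.2 b)⟩

theorem IsAmalgamPair.amal {A B : Subgroup X} (h : IsAmalgamPair A B) : Amal A B := ⟨h.1, h.2.2.2⟩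

theorem IsCharPAmalgamPair.cAmal [Fact p.Prime] {A B : Subgroup X} (h : IsCharPAmalgamPair p A B) :
    CAmal p A B := by
  obtain ⟨a, fA, fB, dA, dB, s, cA, cB⟩ := h
  obtain ⟨P⟩ := (inferInstance : Nonempty (Sylow p A))
  obtain ⟨Q⟩ := (inferInstance : Nonempty (Sylow p B))
  have k : ∀ T, SylIn p T (A ⊓ B) → SylIn p T A := fun T b => by
    obtain ⟨S, rfl⟩ := b.exists_sylow
    exact (sylIn_sylow P).of_card_le' b.isP (b.le.trans inf_le_left)
      (by rw [card_map_subtype, card_map_subtype, (s S P Q).1])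
  refine ⟨IsAmalgamPair.amal a, fA, fB, k, fun T b => ?_, chP_iff.2 cA, chP_iff.2 cB,
    fun T b c => ?_⟩
  · obtain ⟨S, rfl⟩ := b.exists_sylow
    exact (sylIn_sylow Q).of_card_le' b.isP (b.le.trans inf_le_right)
      (by rw [card_map_subtype, card_map_subtype, (s S P Q).2])
  · exact (k T b).top_subgroupOf.eq_bot_iff.1 (by rw [c, bot_subgroupOf]) (by rwa [card_top])

theorem CAmal.pCoreOf_le {A B : Subgroup X} (h : CAmal p A B) : pCoreOf p A ≤ B := by
  obtain ⟨T, a⟩ := exists_sylIn p (A ⊓ B)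
  exact (h.sylA T a).pCoreOf_le.trans (a.le.trans inf_le_right)

theorem CAmal.Z_ne_bot [Fact p.Prime] {A B : Subgroup X} (h : CAmal p A B) :
    sylowCenterClosure p A ≠ ⊥ := fun a => by
  obtain ⟨T, b⟩ := exists_sylIn p (A ⊓ B)
  have := h.finA
  have := finite_of_le (h.sylA T b).le
  exact OmZ_ne_bot' b.isP (h.ne T b) (le_bot_iff.1 ((h.sylA T b).OmZ_le_sylowCenterClosure.trans a.le))

/-- The normalizers of the common Sylow subgroups lie in the intersection. -/
def NormLe (p : ℕ) (A B : Subgroup X) : Prop :=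
  ∀ T, SylIn p T (A ⊓ B) → A ⊓ normalizer (T : Set X) ≤ B ∧ B ⊓ normalizer (T : Set X) ≤ A

theorem NormLe.symm {A B : Subgroup X} (h : NormLe p A B) : NormLe p B A :=
  fun T a => (h T (inf_comm A B ▸ a)).symm

theorem NormLe.cj {A B : Subgroup X} (h : NormLe p A B) (g : X) : NormLe p cj(g, A) cj(g, B) :=
  fun T a => by
    have := h _ (sylIn_cj_iff.1 (cj_inf g A B ▸ a))
    rw [← cj_cj_inv g T, ← cj_normalizer, ← cj_inf, ← cj_inf, cj_le_cj_iff, cj_le_cj_iff]
    exact this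

theorem IsSpeAmalgamPair.normLe {A B : Subgroup X} (h : IsSpeAmalgamPair p A B) : NormLe p A B :=
  fun T a => by
    obtain ⟨S, rfl⟩ := a.exists_sylow
    obtain ⟨b, c⟩ := h.2.1 S
    exact ⟨c.trans inf_le_right, b ▸ inf_le_left⟩

/-! ### the coset graph -/

section graph

variable {M₁ M₂ : Subgroup X}

open MulAction

theorem cosetGraph_adj {a b : CosetVertex M₁ M₂} : (cosetGraph M₁ M₂).Adj a b ↔ ∃ x : X,
    (a = Sum.inl (x : X ⧸ M₁) ∧ b = Sum.inr (x : X ⧸ M₂)) ∨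
      (a = Sum.inr (x : X ⧸ M₂) ∧ b = Sum.inl (x : X ⧸ M₁)) := by
  rw [cosetGraph, SimpleGraph.fromRel_adj]
  refine ⟨fun ⟨_, h⟩ => h.elim (fun ⟨x, h⟩ => ⟨x, Or.inl h⟩) fun ⟨x, h⟩ => ⟨x, Or.inr h.symm⟩, ?_⟩
  rintro ⟨x, ⟨rfl, rfl⟩ | ⟨rfl, rfl⟩⟩
  · exact ⟨Sum.inl_ne_inr, Or.inl ⟨x, rfl, rfl⟩⟩
  · exact ⟨Sum.inr_ne_inl, Or.inr ⟨x, rfl, rfl⟩⟩

theorem adj_inl_inr (x : X) :
    (cosetGraph M₁ M₂).Adj (Sum.inl (x : X ⧸ M₁)) (Sum.inr (x : X ⧸ M₂)) :=
  cosetGraph_adj.2 ⟨x, Or.inl ⟨rfl, rfl⟩⟩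

theorem adj_smul {a b : CosetVertex M₁ M₂} (h : (cosetGraph M₁ M₂).Adj a b) (g : X) :
    (cosetGraph M₁ M₂).Adj (g • a) (g • b) := by
  obtain ⟨x, ⟨rfl, rfl⟩ | ⟨rfl, rfl⟩⟩ := cosetGraph_adj.1 h
  · exact adj_inl_inr (g * x)
  · exact (adj_inl_inr (g * x)).symm

/-- Left multiplication as a graph homomorphism. -/
def smulHom (M₁ M₂ : Subgroup X) (g : X) : cosetGraph M₁ M₂ →g cosetGraph M₁ M₂ :=
  ⟨fun a => g • a, fun h => adj_smul h g⟩

theorem connected_cosetGraph (h : M₁ ⊔ M₂ = ⊤) : (cosetGraph M₁ M₂).Connected := by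
  have k : ∀ x : X, (cosetGraph M₁ M₂).Reachable (Sum.inl ((1 : X) : X ⧸ M₁)) (Sum.inl (x : X ⧸ M₁)) :=
    fun x => by
      refine sup_induction_right (P := fun x : X => (cosetGraph M₁ M₂).Reachable
        (Sum.inl ((1 : X) : X ⧸ M₁)) (Sum.inl (x : X ⧸ M₁))) (.refl _) (fun x a ha b => ?_)
        (fun x a ha b => ?_) (h.ge (mem_top x))
      · rwa [QuotientGroup.mk_mul_of_mem x ha]
      · refine (b.trans (adj_inl_inr x).reachable).trans ?_
        rw [← QuotientGroup.mk_mul_of_mem x ha]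
        exact (adj_inl_inr _).symm.reachable
  refine (SimpleGraph.connected_iff_exists_forall_reachable _).2 ⟨Sum.inl ((1 : X) : X ⧸ M₁), ?_⟩
  rintro (v | v) <;> induction v using QuotientGroup.induction_on
  · exact k _
  · exact (k _).trans (adj_inl_inr _).reachable

theorem dist_smul (hc : (cosetGraph M₁ M₂).Connected) (g : X) (a b : CosetVertex M₁ M₂) :
    (cosetGraph M₁ M₂).dist (g • a) (g • b) = (cosetGraph M₁ M₂).dist a b := by
  have k : ∀ (g : X) (a b : CosetVertex M₁ M₂),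
      (cosetGraph M₁ M₂).dist (g • a) (g • b) ≤ (cosetGraph M₁ M₂).dist a b := fun g a b => by
    obtain ⟨w, hw⟩ := hc.exists_walk_length_eq_dist a b
    have := SimpleGraph.dist_le (w.map (smulHom M₁ M₂ g))
    rwa [SimpleGraph.Walk.length_map, hw] at this
  refine le_antisymm (k g a b) ?_
  simpa only [inv_smul_smul] using k g⁻¹ (g • a) (g • b)

theorem stabilizer_smul (g : X) (a : CosetVertex M₁ M₂) :
    stabilizer X (g • a) = cj(g, stabilizer X a) := stabilizer_smul_eq_stabilizer_map_conj g a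

theorem stabilizer_quot (M : Subgroup X) (x : X) : stabilizer X (x : X ⧸ M) = cj(x, M) := by
  ext g
  rw [mem_stabilizer_iff, mem_cj, Quotient.smul_coe, eq_comm, QuotientGroup.eq, smul_eq_mul, mul_assoc]

theorem stabilizer_inl (x : X) :
    stabilizer X (Sum.inl (x : X ⧸ M₁) : CosetVertex M₁ M₂) = cj(x, M₁) := by
  rw [← stabilizer_quot]; ext g; simp only [mem_stabilizer_iff, Sum.smul_inl, Sum.inl.injEq]

theorem stabilizer_inr (x : X) :
    stabilizer X (Sum.inr (x : X ⧸ M₂) : CosetVertex M₁ M₂) = cj(x, M₂) := by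
  rw [← stabilizer_quot]; ext g; simp only [mem_stabilizer_iff, Sum.smul_inr, Sum.inr.injEq]

theorem adj_induction {P : Subgroup X → Subgroup X → Prop} (h : P M₁ M₂)
    (hs : ∀ A B, P A B → P B A) (hc : ∀ A B g, P A B → P cj(g, A) cj(g, B))
    {a b : CosetVertex M₁ M₂} (hab : (cosetGraph M₁ M₂).Adj a b) :
    P (stabilizer X a) (stabilizer X b) := by
  obtain ⟨x, ⟨rfl, rfl⟩ | ⟨rfl, rfl⟩⟩ := cosetGraph_adj.1 hab <;> rw [stabilizer_inl, stabilizer_inr]
  exacts [hc _ _ x h, hs _ _ (hc _ _ x h)]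

theorem Amal.adj (h : Amal M₁ M₂) {a b : CosetVertex M₁ M₂} (hab : (cosetGraph M₁ M₂).Adj a b) :
    Amal (stabilizer X a) (stabilizer X b) :=
  adj_induction h (fun _ _ => Amal.symm) (fun _ _ g h => h.cj g) hab

theorem CAmal.adj (h : CAmal p M₁ M₂) {a b : CosetVertex M₁ M₂} (hab : (cosetGraph M₁ M₂).Adj a b) :
    CAmal p (stabilizer X a) (stabilizer X b) :=
  adj_induction h (fun _ _ => CAmal.symm) (fun _ _ g h => h.cj g) hab

theorem NormLe.adj (h : NormLe p M₁ M₂) {a b : CosetVertex M₁ M₂}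
    (hab : (cosetGraph M₁ M₂).Adj a b) : NormLe p (stabilizer X a) (stabilizer X b) :=
  adj_induction h (fun _ _ => NormLe.symm) (fun _ _ g h => h.cj g) hab

theorem exists_adj (a : CosetVertex M₁ M₂) : ∃ b, (cosetGraph M₁ M₂).Adj a b := by
  rcases a with (v | v) <;> induction v using QuotientGroup.induction_on
  exacts [⟨_, adj_inl_inr _⟩, ⟨_, (adj_inl_inr _).symm⟩]

theorem exists_smul_eq_of_adj {a b c : CosetVertex M₁ M₂} (h : (cosetGraph M₁ M₂).Adj a b)
    (h' : (cosetGraph M₁ M₂).Adj a c) : ∃ g ∈ stabilizer X a, g • b = c := by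
  obtain ⟨x, ⟨rfl, rfl⟩ | ⟨rfl, rfl⟩⟩ := cosetGraph_adj.1 h <;>
    obtain ⟨y, ⟨e, rfl⟩ | ⟨e, rfl⟩⟩ := cosetGraph_adj.1 h'
  · refine ⟨y * x⁻¹, mem_stabilizer_iff.2 ?_, ?_⟩
    · conv_rhs => rw [e]
      simp
    · simp
  · exact absurd e Sum.inl_ne_inr
  · exact absurd e Sum.inr_ne_inl
  · refine ⟨y * x⁻¹, mem_stabilizer_iff.2 ?_, ?_⟩
    · conv_rhs => rw [e]
      simp
    · simp

theorem factor_of_transitive {a b : CosetVertex M₁ M₂} (h : (cosetGraph M₁ M₂).Adj a b)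
    {L : Subgroup X} (hL : L ≤ stabilizer X a) (ht : ∀ ν ν', (cosetGraph M₁ M₂).Adj a ν →
      (cosetGraph M₁ M₂).Adj a ν' → ∃ g ∈ L, g • ν = ν') {g : X} (hg : g ∈ stabilizer X a) :
    ∃ n ∈ L, n⁻¹ * g ∈ stabilizer X a ⊓ stabilizer X b := by
  obtain ⟨n, c, d⟩ := ht b (g • b) h (by simpa only [mem_stabilizer_iff.1 hg] using adj_smul h g)
  exact ⟨n, c, mem_inf.2 ⟨mul_mem (inv_mem (hL c)) hg, by
    rw [mem_stabilizer_iff, mul_smul, ← d, inv_smul_smul]⟩⟩

theorem exists_adj_dist (hc : (cosetGraph M₁ M₂).Connected) {a b : CosetVertex M₁ M₂} {n : ℕ}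
    (h : (cosetGraph M₁ M₂).dist a b = n + 1) :
    ∃ c, (cosetGraph M₁ M₂).Adj a c ∧ (cosetGraph M₁ M₂).dist c b = n := by
  obtain ⟨w, hw⟩ := hc.exists_walk_length_eq_dist a b
  cases w with
  | nil => rw [h] at hw; simp at hw
  | cons e w =>
    refine ⟨_, e, le_antisymm ((SimpleGraph.dist_le w).trans (by simp [h] at hw; omega)) ?_⟩
    have t := hc.dist_triangle (u := a) (w := b) (v := w.getVert 0)
    rw [SimpleGraph.Walk.getVert_zero, SimpleGraph.dist_eq_one_iff_adj.2 e, h] at t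
    omega

theorem le_neighbourKernel_iff {Y : Subgroup X} {a : CosetVertex M₁ M₂} : Y ≤ neighbourKernel a ↔
    Y ≤ stabilizer X a ∧ ∀ b, (cosetGraph M₁ M₂).Adj a b → Y ≤ stabilizer X b := by
  simp only [neighbourKernel, le_inf_iff, le_iInf_iff, SimpleGraph.mem_neighborSet]

theorem CAmal.vertexQ_le (h : CAmal p M₁ M₂) (a : CosetVertex M₁ M₂) :
    vertexQ p a ≤ neighbourKernel a :=
  le_neighbourKernel_iff.2 ⟨Comp.pCoreOf_le _ _, fun _ e => (h.adj e).pCoreOf_le⟩

theorem CAmal.vertexZ_le (h : CAmal p M₁ M₂) (a : CosetVertex M₁ M₂) :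
    vertexZ p a ≤ OmZ p (vertexQ p a) := by
  obtain ⟨b, e⟩ := exists_adj a
  exact (h.adj e).chA.sylowCenterClosure_le

theorem le_normalizer_vertexZ (a : CosetVertex M₁ M₂) :
    stabilizer X a ≤ normalizer (vertexZ p a : Set X) := le_normalizer_sylowCenterClosure le_normalizer

theorem vertexZ_smul (g : X) (a : CosetVertex M₁ M₂) : vertexZ p (g • a) = cj(g, vertexZ p a) := by
  rw [vertexZ, stabilizer_smul, cj_sylowCenterClosure]

theorem vertexQ_smul (g : X) (a : CosetVertex M₁ M₂) : vertexQ p (g • a) = cj(g, vertexQ p a) := by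
  rw [vertexQ, stabilizer_smul, cj_pCoreOf]

theorem le_kernel_of_dist_lt {a b : CosetVertex M₁ M₂}
    (h : (cosetGraph M₁ M₂).dist a b < criticalDistance p M₁ M₂) : vertexZ p a ≤ neighbourKernel b :=
  by_contra fun c => Nat.notMem_of_lt_sInf h ⟨a, b, rfl, c⟩

theorem CAmal.critical_pos (h : CAmal p M₁ M₂) {a b : CosetVertex M₁ M₂} (hc : IsCriticalPair p a b) :
    ∃ n, criticalDistance p M₁ M₂ = n + 1 := by
  refine Nat.exists_eq_succ_of_ne_zero fun e => hc.1 ?_
  obtain rfl := (connected_cosetGraph h.sup).dist_eq_zero_iff.1 (hc.2.trans e)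
  exact ((h.vertexZ_le a).trans (OmZ_le _ _)).trans (h.vertexQ_le a)

theorem vertexZ_le_vertexVIter {a b : CosetVertex M₁ M₂} {n : ℕ}
    (h : (cosetGraph M₁ M₂).dist a b ≤ n) : vertexZ p b ≤ vertexVIter p M₁ M₂ n a :=
  le_iSup (fun μ : {μ : CosetVertex M₁ M₂ // (cosetGraph M₁ M₂).dist a μ ≤ n} =>
    vertexZ p (μ : CosetVertex M₁ M₂)) ⟨b, h⟩

theorem vertexVIter_le_iff {a : CosetVertex M₁ M₂} {n : ℕ} {Y : Subgroup X} :
    vertexVIter p M₁ M₂ n a ≤ Y ↔ ∀ b, (cosetGraph M₁ M₂).dist a b ≤ n → vertexZ p b ≤ Y :=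
  ⟨fun h _ e => (vertexZ_le_vertexVIter e).trans h, fun h => iSup_le fun b => h b b.2⟩

theorem cj_vertexVIter_le (hc : (cosetGraph M₁ M₂).Connected) (g : X) (a : CosetVertex M₁ M₂) (n : ℕ) :
    cj(g, vertexVIter p M₁ M₂ n a) ≤ vertexVIter p M₁ M₂ n (g • a) :=
  cj_le_iff.2 (vertexVIter_le_iff.2 fun b e => cj_le_iff.1 (by
    rw [← vertexZ_smul]; exact vertexZ_le_vertexVIter (by rwa [dist_smul hc])))

theorem vertexVIter_smul (hc : (cosetGraph M₁ M₂).Connected) (g : X) (a : CosetVertex M₁ M₂) (n : ℕ) :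
    vertexVIter p M₁ M₂ n (g • a) = cj(g, vertexVIter p M₁ M₂ n a) :=
  le_antisymm (le_cj_iff.2 (by simpa only [inv_smul_smul] using cj_vertexVIter_le hc g⁻¹ (g • a) n))
    (cj_vertexVIter_le hc g a n)

theorem le_normalizer_vertexVIter (hc : (cosetGraph M₁ M₂).Connected) (a : CosetVertex M₁ M₂) (n : ℕ) :
    stabilizer X a ≤ normalizer (vertexVIter p M₁ M₂ n a : Set X) := fun g hg =>
  cj_eq_self_iff.1 (by rw [← vertexVIter_smul hc, mem_stabilizer_iff.1 hg])

theorem vertexVIter_le_succ (hc : (cosetGraph M₁ M₂).Connected) {a b : CosetVertex M₁ M₂}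
    (h : (cosetGraph M₁ M₂).Adj a b) (n : ℕ) :
    vertexVIter p M₁ M₂ n b ≤ vertexVIter p M₁ M₂ (n + 1) a :=
  vertexVIter_le_iff.2 fun c e => vertexZ_le_vertexVIter (by
    have := hc.dist_triangle (u := a) (v := b) (w := c)
    rw [SimpleGraph.dist_eq_one_iff_adj.2 h] at this
    omega)

theorem CAmal.vertexVIter_succ_le [Fact p.Prime] (h : CAmal p M₁ M₂) {a b : CosetVertex M₁ M₂}
    (e : (cosetGraph M₁ M₂).Adj a b) (n : ℕ) {Y : Subgroup X} (h1 : vertexVIter p M₁ M₂ n b ≤ Y)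
    (h2 : stabilizer X a ≤ normalizer (Y : Set X)) : vertexVIter p M₁ M₂ (n + 1) a ≤ Y := by
  have hc := connected_cosetGraph h.sup
  refine vertexVIter_le_iff.2 fun c d => ?_
  rcases hd : (cosetGraph M₁ M₂).dist a c with _ | m
  · obtain rfl := hc.dist_eq_zero_iff.1 hd
    have k := h.adj e
    have := k.finA
    obtain ⟨T, t⟩ := exists_sylIn p (stabilizer X a ⊓ stabilizer X b)
    refine sylowCenterClosure_le_iff.2 fun S s => ?_
    obtain ⟨g, g1, rfl⟩ := (k.sylA T t).exists_cj_eq' s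
    rw [← cj_OmZ]
    exact cj_le_of_mem (((k.sylB T t).OmZ_le_sylowCenterClosure.trans
      (vertexZ_le_vertexVIter (by simp))).trans h1) (h2 g1)
  · obtain ⟨b', e', f⟩ := exists_adj_dist hc hd
    obtain ⟨g, g1, rfl⟩ := exists_smul_eq_of_adj e e'
    refine (vertexZ_le_vertexVIter (n := n) (a := g • b) (by omega)).trans ?_
    rw [vertexVIter_smul hc]
    exact cj_le_of_mem h1 (h2 g1)

end graph

end Cfsg.Agent.Comp
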