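/-
The family of a solvable signalizer functor and the transitivity theorem.
-/
import Cfsg.Agent.Lib.Comp.Loc
import Cfsg.Prelude.Def_Balance

set_option autoImplicit false
set_option linter.unusedSectionVars false

namespace Cfsg.Agent.Comp

open Subgroup
open scoped commutatorElement Pointwise

universe u

variable {G : Type u} [Group G] [Finite G] {p : ℕ} [hp : Fact p.Prime]

theorem exists_centralizer_not_le_two {A N₁ N₂ D₁ D₂ : Subgroup G} (hA : IsElementaryAbelian p A)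
    (hA3 : p ^ 3 ≤ Nat.card A) (h1 : A ≤ normalizer (N₁ : Set G)) (h2 : A ≤ normalizer (N₂ : Set G))
    (c1 : (Nat.card N₁).Coprime p) (c2 : (Nat.card N₂).Coprime p) (n1 : ¬ N₁ ≤ D₁)
    (n2 : ¬ N₂ ≤ D₂) : ∃ a ∈ A, a ≠ 1 ∧ ¬ N₁ ⊓ centralizer ({a} : Set G) ≤ D₁ ∧
      ¬ N₂ ⊓ centralizer ({a} : Set G) ≤ D₂ := by
  have hA1 := ne_bot_of_pow_le_card hA3
  obtain ⟨B₁, a1, b1, d1⟩ : ∃ B, B ≤ A ∧ B.relIndex A = p ∧ ¬ N₁ ⊓ centralizer (B : Set G) ≤ D₁ := by
    by_contra h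
    push Not at h
    exact n1 (le_of_forall_hyperplane hA hA1 h1 c1 h)
  obtain ⟨B₂, a2, b2, d2⟩ : ∃ B, B ≤ A ∧ B.relIndex A = p ∧ ¬ N₂ ⊓ centralizer (B : Set G) ≤ D₂ := by
    by_contra h
    push Not at h
    exact n2 (le_of_forall_hyperplane hA hA1 h2 c2 h)
  obtain ⟨a, ha, h⟩ := exists_mem_ne_one (ne_bot_of_pow_le_card (k := 0)
    (pow_le_card_inf_of_relIndex a2 (pow_le_card_of_relIndex a2 hA3 b2.le) b1.le))
  exact ⟨a, a1 ha.1, h,
    fun e => d1 ((inf_le_inf_left _ (centralizer_le_centralizer_singleton ha.1)).trans e),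
    fun e => d2 ((inf_le_inf_left _ (centralizer_le_centralizer_singleton ha.2)).trans e)⟩

/-- Ambient form of a solvable signalizer functor on an elementary abelian group. -/
structure SSF (p : ℕ) (A : Subgroup G) (θ : G → Subgroup G) : Prop where
  elem : IsElementaryAbelian p A
  le : ∀ a ∈ A, a ≠ 1 → θ a ≤ centralizer ({a} : Set G)
  cop : ∀ a ∈ A, a ≠ 1 → (Nat.card (θ a)).Coprime p
  norm : ∀ a ∈ A, a ≠ 1 → A ≤ normalizer (θ a : Set G)
  bal : ∀ a ∈ A, a ≠ 1 → ∀ b ∈ A, b ≠ 1 → θ a ⊓ centralizer ({b} : Set G) ≤ θ b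
  solv : ∀ a ∈ A, a ≠ 1 → Group.IsSolvable (θ a)

/-- Membership in the family of `θ`. -/
structure InFam (p : ℕ) (A : Subgroup G) (θ : G → Subgroup G) (U : Subgroup G) : Prop where
  solv : Group.IsSolvable U
  cop : (Nat.card U).Coprime p
  norm : A ≤ normalizer (U : Set G)
  le : ∀ a ∈ A, a ≠ 1 → U ⊓ centralizer ({a} : Set G) ≤ θ a

variable {A : Subgroup G} {θ : G → Subgroup G}

theorem ssf_iff (hA : IsElementaryAbelian p A) :
    SSF p A θ ↔ IsSolvableSignalizerFunctor p A θ :=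
  ⟨fun h => ⟨⟨h.le, fun a ha h1 => coprime_iff_not_dvd.1 (h.cop a ha h1),
      fun a ha h1 => le_normalizer_iff.1 (h.norm a ha h1), h.bal⟩, h.solv⟩,
    fun h => ⟨hA, h.1.1, fun a ha h1 => coprime_iff_not_dvd.2 (h.1.2.1 a ha h1),
      fun a ha h1 => le_normalizer_iff.2 (h.1.2.2.1 a ha h1), h.1.2.2.2, h.2⟩⟩

theorem inFam_iff {U : Subgroup G} : InFam p A θ U ↔ U ∈ signalizerFamily p A θ :=
  ⟨fun h => ⟨h.solv, coprime_iff_not_dvd.1 h.cop, le_normalizer_iff.1 h.norm, h.le⟩,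
    fun h => ⟨h.1, coprime_iff_not_dvd.2 h.2.1, le_normalizer_iff.2 h.2.2.1, h.2.2.2⟩⟩

theorem le_signalizerInf_iff {B X : Subgroup G} :
    X ≤ signalizerInf B θ ↔ ∀ b ∈ B, b ≠ 1 → X ≤ θ b := by
  rw [signalizerInf, le_iInf_iff]
  exact ⟨fun h b hb h1 => h ⟨b, hb, h1⟩, fun h b => h b b.2.1 b.2.2⟩

theorem signalizerInf_le {B : Subgroup G} {b : G} (hb : b ∈ B) (h1 : b ≠ 1) :
    signalizerInf B θ ≤ θ b := le_signalizerInf_iff.1 le_rfl b hb h1

theorem signalizerInf_anti {B C : Subgroup G} (h : B ≤ C) :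
    signalizerInf C θ ≤ signalizerInf B θ :=
  le_signalizerInf_iff.2 fun _ hb h1 => signalizerInf_le (h hb) h1

theorem InFam.of_le {U V : Subgroup G} (h : InFam p A θ U) (h1 : V ≤ U)
    (h2 : A ≤ normalizer (V : Set G)) : InFam p A θ V :=
  ⟨isSolvable_of_le h1 h.solv, coprime_of_le h.cop h1, h2,
    fun a ha e => (inf_le_inf_right _ h1).trans (h.le a ha e)⟩

theorem InFam.bot : InFam p A θ ⊥ :=
  ⟨inferInstance, coprime_bot, le_normalizer_normal _ _, fun _ _ _ => inf_le_left.trans bot_le⟩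

theorem InFam.inf_centralizer_le {U B : Subgroup G} (h : InFam p A θ U) (hB : B ≤ A) :
    U ⊓ centralizer (B : Set G) ≤ signalizerInf B θ :=
  le_signalizerInf_iff.2 fun b hb h1 =>
    (inf_le_inf_left _ (centralizer_le_centralizer_singleton hb)).trans (h.le b (hB hb) h1)

theorem InFam.coprime {U : Subgroup G} (h : InFam p A θ U) (hA : IsElementaryAbelian p A)
    {B : Subgroup G} (hB : B ≤ A) : (Nat.card B).Coprime (Nat.card U) :=
  coprime_of_isPGroup ((IsElementaryAbelian.isPGroup hA).to_le hB) h.cop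

namespace SSF

theorem isPGroup (h : SSF p A θ) : IsPGroup p A := IsElementaryAbelian.isPGroup h.elem

theorem inFam (h : SSF p A θ) {a : G} (ha : a ∈ A) (h1 : a ≠ 1) : InFam p A θ (θ a) :=
  ⟨h.solv a ha h1, h.cop a ha h1, h.norm a ha h1, h.bal a ha h1⟩

theorem signalizerInf_le_centralizer (h : SSF p A θ) {B : Subgroup G} (hB : B ≤ A) :
    signalizerInf B θ ≤ centralizer (B : Set G) :=
  le_centralizer_iff_forall.2 fun b hb => by
    by_cases h1 : b = 1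
    · rw [h1]; exact le_centralizer_one _
    · exact (signalizerInf_le hb h1).trans (h.le b (hB hb) h1)

theorem le_normalizer_signalizerInf (h : SSF p A θ) {B : Subgroup G} (hB : B ≤ A) :
    A ≤ normalizer (signalizerInf B θ : Set G) :=
  le_normalizer_iInf fun b => h.norm b (hB b.2.1) b.2.2

theorem inFam_signalizerInf (h : SSF p A θ) {B : Subgroup G} (hB : B ≤ A) (h1 : B ≠ ⊥) :
    InFam p A θ (signalizerInf B θ) := by
  obtain ⟨b, hb, e⟩ := exists_mem_ne_one h1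
  exact (h.inFam (hB hb) e).of_le (signalizerInf_le hb e) (h.le_normalizer_signalizerInf hB)

theorem signalizerInf_eq (h : SSF p A θ) {B : Subgroup G} (hB : B ≤ A) {b : G} (hb : b ∈ B)
    (h1 : b ≠ 1) : signalizerInf B θ = θ b ⊓ centralizer (B : Set G) :=
  le_antisymm (le_inf (signalizerInf_le hb h1) (h.signalizerInf_le_centralizer hB))
    ((h.inFam (hB hb) h1).inf_centralizer_le hB)

theorem signalizerInf_zpowers (h : SSF p A θ) {a : G} (ha : a ∈ A) (h1 : a ≠ 1) :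
    signalizerInf (zpowers a) θ = θ a := by
  rw [h.signalizerInf_eq (zpowers_le.2 ha) (mem_zpowers a) h1, centralizer_zpowers,
    inf_eq_left.2 (h.le a ha h1)]

theorem sup (h : SSF p A θ) {X Y : Subgroup G} (hX : InFam p A θ X) (hY : InFam p A θ Y)
    (hn : Y ≤ normalizer (X : Set G)) : InFam p A θ (X ⊔ Y) := by
  refine ⟨by rw [sup_comm]; exact isSolvable_sup hn hY.solv hX.solv, coprime_sup' hn hX.cop hY.cop,
    le_normalizer_sup hX.norm hY.norm, fun a ha h1 z hz => ?_⟩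
  obtain ⟨x, hx, y, hy, rfl⟩ := (mem_sup_of_le_normalizer' hn).1 hz.1
  obtain ⟨x', hx', y', hy', e⟩ := Solv.coprime_fixed_mul (A := zpowers a)
    ((zpowers_le.2 ha).trans hX.norm) ((zpowers_le.2 ha).trans hY.norm)
    (coprime_of_isPGroup (h.isPGroup.to_le (zpowers_le.2 ha)) (coprime_of_le hX.cop inf_le_left))
    (Or.inl (Solv.isSolvable_zpowers a)) hx hy (by rw [centralizer_zpowers]; exact hz.2)
  rw [centralizer_zpowers] at hx' hy'
  rw [e]
  exact mul_mem (hX.le a ha h1 hx') (hY.le a ha h1 hy')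

theorem sup' (h : SSF p A θ) {X Y : Subgroup G} (hX : InFam p A θ X) (hY : InFam p A θ Y)
    (hn : X ≤ normalizer (Y : Set G)) : InFam p A θ (X ⊔ Y) := by
  rw [sup_comm]; exact h.sup hY hX hn

theorem cj (h : SSF p A θ) {U : Subgroup G} (hU : InFam p A θ U) {c : G}
    (hc : c ∈ signalizerInf A θ) : InFam p A θ cj(c, U) := by
  have hcA := h.signalizerInf_le_centralizer le_rfl hc
  refine ⟨isSolvable_map _ hU.solv, by rw [card_cj]; exact hU.cop,
    le_normalizer_cj (centralizer_le_normalizer _ hcA) hU.norm, fun a ha h1 => ?_⟩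
  rw [← cj_eq_self_of_mem (centralizer_le_centralizer_singleton ha hcA), ← cj_inf]
  exact cj_le_of_mem (hU.le a ha h1) (le_normalizer (signalizerInf_le ha h1 hc))

theorem le_of_forall (h : SSF p A θ) (hA2 : p ^ 2 ≤ Nat.card A) {U X : Subgroup G}
    (hU : InFam p A θ U) (hX : ∀ a ∈ A, a ≠ 1 → U ⊓ θ a ≤ X) : U ≤ X :=
  le_of_forall_centralizer h.elem hA2 hU.norm hU.cop fun a ha h1 =>
    (le_inf inf_le_left (hU.le a ha h1)).trans (hX a ha h1)

theorem le_closure (h : SSF p A θ) (hA2 : p ^ 2 ≤ Nat.card A) {U : Subgroup G}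
    (hU : InFam p A θ U) : U ≤ signalizerClosure A θ :=
  h.le_of_forall hA2 hU fun a ha h1 => inf_le_right.trans
    (le_iSup (fun a : {a : G // a ∈ A ∧ a ≠ 1} => θ (a : G)) ⟨a, ha, h1⟩)

end SSF

/-- A maximal `q`-member of the family. -/
structure MaxQ (p q : ℕ) (A : Subgroup G) (θ : G → Subgroup G) (Q : Subgroup G) : Prop where
  fam : InFam p A θ Q
  isP : IsPGroup q Q
  max : ∀ R, InFam p A θ R → IsPGroup q R → Q ≤ R → R = Q

variable {q : ℕ}

theorem exists_maxQ_ge {U : Subgroup G} (h : InFam p A θ U) (hq : IsPGroup q U) :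
    ∃ Q, U ≤ Q ∧ MaxQ p q A θ Q := by
  obtain ⟨Q, a, ⟨b, c⟩, d⟩ :=
    exists_maximal_subgroup (P := fun Q => InFam p A θ Q ∧ IsPGroup q Q) ⟨h, hq⟩
  exact ⟨Q, a, b, c, fun R e f g => d R ⟨e, f⟩ g⟩

theorem SSF.maxQ_cj (h : SSF p A θ) {Q : Subgroup G} (hQ : MaxQ p q A θ Q) {c : G}
    (hc : c ∈ signalizerInf A θ) : MaxQ p q A θ cj(c, Q) :=
  ⟨h.cj hQ.fam hc, isPGroup_cj_iff.2 hQ.isP, fun R a b d => by
    rw [← hQ.max cj(c⁻¹, R) (h.cj a (inv_mem hc)) (isPGroup_cj_iff.2 b) (cj_le_iff.1 d), cj_cj_inv]⟩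

variable [hq : Fact q.Prime]

theorem InFam.eq_bot_of_isPGroup {U : Subgroup G} (h : InFam p A θ U) (hU : IsPGroup p U) :
    U = ⊥ := eq_bot_of_isPGroup_of_coprime hU h.cop

/-- The transitivity theorem. -/
theorem SSF.transitivity (h : SSF p A θ) (hA3 : p ^ 3 ≤ Nat.card A) {Q₁ Q₂ : Subgroup G}
    (h1 : MaxQ p q A θ Q₁) (h2 : MaxQ p q A θ Q₂) : ∃ c ∈ signalizerInf A θ, cj(c, Q₁) = Q₂ := by
  generalize hD : Q₁ ⊓ Q₂ = D
  induction D using subgroup_induction_gt generalizing Q₁ Q₂ with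
  | h D ih =>
    by_cases e : Q₁ ≤ Q₂
    · exact ⟨1, one_mem _, by rw [cj_one, h1.max Q₂ h2.fam h2.isP e]⟩
    have e' : ¬ Q₂ ≤ Q₁ := fun e' => e (h2.max Q₁ h1.fam h1.isP e').le
    have hD1 : D < Q₁ := hD ▸ inf_lt_left.2 e
    have hD2 : D < Q₂ := hD ▸ inf_lt_right.2 e'
    have hAD : A ≤ normalizer (D : Set G) := hD ▸ le_normalizer_inf h1.fam.norm h2.fam.norm
    have hDf : InFam p A θ D := h1.fam.of_le hD1.le hAD
    obtain ⟨a, ha, a1, n1, n2⟩ := exists_centralizer_not_le_two h.elem hA3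
      (le_normalizer_inf h1.fam.norm (le_normalizer_normalizer hAD))
      (le_normalizer_inf h2.fam.norm (le_normalizer_normalizer hAD))
      (coprime_of_le h1.fam.cop inf_le_left) (coprime_of_le h2.fam.cop inf_le_left)
      (lt_inf_normalizer_of_isPGroup h1.isP hD1).not_ge
      (lt_inf_normalizer_of_isPGroup h2.isP hD2).not_ge
    have hAa : A ≤ normalizer (centralizer ({a} : Set G) : Set G) :=
      le_normalizer_centralizer_singleton (IsElementaryAbelian.le_centralizer_singleton h.elem ha)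
    have hK : InFam p A θ (D ⊔ (θ a ⊓ normalizer (D : Set G))) := h.sup hDf
      ((h.inFam ha a1).of_le inf_le_left
        (le_normalizer_inf (h.norm a ha a1) (le_normalizer_normalizer hAD))) inf_le_right
    have key : ∀ Q, MaxQ p q A θ Q → D < Q →
        ¬ Q ⊓ normalizer (D : Set G) ⊓ centralizer ({a} : Set G) ≤ D →
        ∃ P R, SylIn q P (D ⊔ (θ a ⊓ normalizer (D : Set G))) ∧ A ≤ normalizer (P : Set G) ∧
          P ≤ R ∧ MaxQ p q A θ R ∧ D < Q ⊓ R ∧ D < P := by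
      intro Q hQ hDQ n
      have hle : D ⊔ (Q ⊓ normalizer (D : Set G) ⊓ centralizer ({a} : Set G)) ≤ Q :=
        sup_le hDQ.le (inf_le_left.trans inf_le_left)
      obtain ⟨P, b, c, d⟩ := exists_invariant_sylIn_ge hK.norm (hK.coprime h.elem le_rfl)
        (Or.inr hK.solv) (U := D ⊔ (Q ⊓ normalizer (D : Set G) ⊓ centralizer ({a} : Set G)))
        (sup_le_sup_left (le_inf ((inf_le_inf_right _ inf_le_left).trans (hQ.fam.le a ha a1))
          (inf_le_left.trans inf_le_right)) _) (hQ.isP.to_le hle)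
        (le_normalizer_sup hAD (le_normalizer_inf
          (le_normalizer_inf hQ.fam.norm (le_normalizer_normalizer hAD)) hAa))
      obtain ⟨R, f, g⟩ := exists_maxQ_ge (hK.of_le b.le d) b.isP
      exact ⟨P, R, b, d, f, g, lt_of_lt_of_le (left_lt_sup.2 n) (le_inf hle (c.trans f)),
        lt_of_lt_of_le (left_lt_sup.2 n) c⟩
    obtain ⟨P₁, R₁, b1, c1, d1, f1, g1, -⟩ := key Q₁ h1 hD1 n1
    obtain ⟨P₂, R₂, b2, c2, d2, f2, g2, i2⟩ := key Q₂ h2 hD2 n2
    obtain ⟨c, hc, hcP⟩ := invariant_sylIn_conj hK.norm (hK.coprime h.elem le_rfl)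
      (Or.inr hK.solv) b1 b2 c1 c2
    have hc' := hK.inf_centralizer_le le_rfl hc
    obtain ⟨x, hx, ex⟩ := ih _ g1 h1 f1 rfl
    obtain ⟨y, hy, ey⟩ := ih _ g2 h2 f2 rfl
    obtain ⟨z, hz, ez⟩ := ih _ (lt_of_lt_of_le i2 (le_inf (hcP ▸ cj_mono c d1) d2))
      (h.maxQ_cj f1 hc') f2 rfl
    refine ⟨y⁻¹ * z * c * x, mul_mem (mul_mem (mul_mem (inv_mem hy) hz) hc') hx, ?_⟩
    rw [cj_mul, cj_mul, cj_mul, ex, ez, ← ey, cj_inv_cj]

theorem SSF.exists_le_cj (h : SSF p A θ) (hA3 : p ^ 3 ≤ Nat.card A) {Q U : Subgroup G}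
    (hQ : MaxQ p q A θ Q) (hU : InFam p A θ U) (hUq : IsPGroup q U) :
    ∃ c ∈ signalizerInf A θ, U ≤ cj(c, Q) := by
  obtain ⟨R, a, b⟩ := exists_maxQ_ge hU hUq
  obtain ⟨c, hc, rfl⟩ := h.transitivity hA3 hQ b
  exact ⟨c, hc, a⟩

theorem SSF.exists_sylIn_cj_inf (h : SSF p A θ) (hA3 : p ^ 3 ≤ Nat.card A) {Q H : Subgroup G}
    (hQ : MaxQ p q A θ Q) (hH : InFam p A θ H) :
    ∃ c ∈ signalizerInf A θ, SylIn q (cj(c, Q) ⊓ H) H := by
  obtain ⟨P, a, b⟩ := exists_invariant_sylIn q hH.norm (hH.coprime h.elem le_rfl) (Or.inr hH.solv)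
  obtain ⟨c, hc, e⟩ := h.exists_le_cj hA3 hQ (hH.of_le a.le b) a.isP
  refine ⟨c, hc, ?_⟩
  rw [a.max _ (isPGroup_cj_iff.2 hQ.isP).to_inf_left (le_inf e a.le) inf_le_right]
  exact a

theorem SSF.sylIn_inf (h : SSF p A θ) (hA3 : p ^ 3 ≤ Nat.card A) {Q H : Subgroup G}
    (hQ : MaxQ p q A θ Q) (hH : InFam p A θ H) (hC : signalizerInf A θ ≤ normalizer (H : Set G)) :
    SylIn q (Q ⊓ H) H := by
  obtain ⟨c, hc, e⟩ := h.exists_sylIn_cj_inf hA3 hQ hH
  have := e.cj_of_mem (hC (inv_mem hc))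
  rwa [cj_inf, cj_inv_cj, cj_eq_self_iff.2 (hC (inv_mem hc))] at this

theorem SSF.sylIn_signalizerInf (h : SSF p A θ) (hA3 : p ^ 3 ≤ Nat.card A) {Q B : Subgroup G}
    (hQ : MaxQ p q A θ Q) (hB : B ≤ A) (h1 : B ≠ ⊥) :
    SylIn q (Q ⊓ centralizer (B : Set G)) (signalizerInf B θ) := by
  have := h.sylIn_inf hA3 hQ (h.inFam_signalizerInf hB h1)
    ((signalizerInf_anti hB).trans le_normalizer)
  rwa [le_antisymm (inf_le_inf_left _ (h.signalizerInf_le_centralizer hB))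
    (le_inf inf_le_left (hQ.fam.inf_centralizer_le hB))] at this

theorem SSF.sylIn_theta (h : SSF p A θ) (hA3 : p ^ 3 ≤ Nat.card A) {Q : Subgroup G}
    (hQ : MaxQ p q A θ Q) {a : G} (ha : a ∈ A) (h1 : a ≠ 1) :
    SylIn q (Q ⊓ centralizer ({a} : Set G)) (θ a) := by
  have := h.sylIn_signalizerInf hA3 hQ (zpowers_le.2 ha) (by rwa [ne_eq, zpowers_eq_bot])
  rwa [centralizer_zpowers, h.signalizerInf_zpowers ha h1] at this

omit hq in
theorem SSF.complete_of_inFam (h : SSF p A θ) {X : Subgroup G} (hX : InFam p A θ X)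
    (hle : ∀ a ∈ A, a ≠ 1 → θ a ≤ X) : IsCompleteSignalizerFunctor p A θ :=
  ⟨((ssf_iff h.elem).1 h).1, X, le_normalizer_iff.1 hX.norm, coprime_iff_not_dvd.1 hX.cop,
    fun a ha h1 => le_antisymm (hX.le a ha h1) (le_inf (hle a ha h1) (h.le a ha h1))⟩

theorem SSF.le_maxQ_of_isPGroup (h : SSF p A θ) (hA3 : p ^ 3 ≤ Nat.card A) {Q : Subgroup G}
    (hQ : MaxQ p q A θ Q) {a : G} (ha : a ∈ A) (h1 : a ≠ 1) (hq : IsPGroup q (θ a)) : θ a ≤ Q := by
  have := h.sylIn_theta hA3 hQ ha h1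
  exact (this.max _ hq this.le le_rfl).le.trans inf_le_left

end Cfsg.Agent.Comp
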